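import Groth.Agent.Inters29.NilSection
import Groth.Agent.Coherent.NormalPush
import Mathlib.RingTheory.Artinian.Ring

/-!
# Constants of the special fibre
-/

set_option autoImplicit false
set_option linter.style.haveILetI false
set_option backward.isDefEq.respectTransparency false

universe u

open CategoryTheory CategoryTheory.Limits AlgebraicGeometry TopologicalSpace IsLocalRing

namespace Groth.Agent.Inters29

/-- An idempotent function on a connected scheme is `0` or `1`. -/
theorem idempotent_eq_zero_or_one {Z : Scheme.{u}} [PreconnectedSpace Z] (e : Γ(Z, ⊤)) (he : e * e = e) :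
    e = 0 ∨ e = 1 := by
  have hd : Z.basicOpen e ⊓ Z.basicOpen (1 - e) = ⊥ := by
    rw [← Scheme.basicOpen_mul, mul_sub, mul_one, he, sub_self, Scheme.basicOpen_zero]
  have hc : ∀ z : Z, z ∈ Z.basicOpen e ∨ z ∈ Z.basicOpen (1 - e) := fun z => by
    rcases IsLocalRing.isUnit_or_isUnit_one_sub_self (Z.presheaf.germ ⊤ z trivial e) with h | h
    · exact Or.inl ((Z.mem_basicOpen e z trivial).2 h)
    · rw [← map_one (Z.presheaf.germ ⊤ z trivial).hom, ← map_sub] at h
      exact Or.inr ((Z.mem_basicOpen (U := ⊤) (1 - e) z trivial).2 h)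
  have hclopen : IsClopen (Z.basicOpen e : Set Z) := by
    refine ⟨?_, (Z.basicOpen e).2⟩
    rw [show (Z.basicOpen e : Set Z) = (Z.basicOpen (1 - e) : Set Z)ᶜ from Set.ext fun z =>
      ⟨fun h h' => (hd.le ⟨h, h'⟩ : z ∈ (⊥ : Z.Opens)).elim, fun h => (hc z).resolve_right h⟩]
    exact (Z.basicOpen (1 - e)).2.isClosed_compl
  rcases isClopen_iff.1 hclopen with h | h
  · have hu : IsUnit (1 - e) := Z.toRingedSpace.isUnit_of_isUnit_germ ⊤ (1 - e) fun z hz =>
      (Z.mem_basicOpen (1 - e) z hz).1 ((hc z).resolve_left fun h' => (h.le h').elim)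
    exact Or.inl (hu.mul_right_eq_zero.1 (by rw [sub_mul, one_mul, he, sub_self]))
  · have hu : IsUnit e := Z.toRingedSpace.isUnit_of_isUnit_germ ⊤ e fun z hz =>
      (Z.mem_basicOpen e z hz).1 (h.ge (Set.mem_univ z) : z ∈ Z.basicOpen e)
    exact Or.inr (hu.mul_left_cancel (he.trans (mul_one e).symm))

/-- In an Artinian ring without idempotents every element is a unit or nilpotent. -/
theorem isUnit_or_isNilpotent {A : Type*} [CommRing A] [IsArtinianRing A]
    (hid : ∀ e : A, e * e = e → e = 0 ∨ e = 1) (x : A) : IsUnit x ∨ IsNilpotent x := by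
  obtain ⟨n, y, hy⟩ := IsArtinian.exists_pow_succ_smul_dvd x (1 : A)
  simp only [smul_eq_mul, mul_one] at hy
  have hk : ∀ j : ℕ, x ^ n * (x * y) ^ j = x ^ n := by
    intro j
    induction j with
    | zero => simp
    | succ j ih => rw [pow_succ, ← mul_assoc, ih, ← mul_assoc, ← pow_succ]; exact hy
  have he : (x * y) ^ n * (x * y) ^ n = (x * y) ^ n := by
    calc (x * y) ^ n * (x * y) ^ n = y ^ n * (x ^ n * (x * y) ^ n) := by rw [mul_pow]; ring
      _ = y ^ n * x ^ n := by rw [hk]
      _ = (x * y) ^ n := by rw [mul_pow, mul_comm]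
  rcases hid _ he with h | h
  · exact Or.inr ⟨n, by rw [← hk n, h, mul_zero]⟩
  · rcases Nat.eq_zero_or_pos n with rfl | hn
    · exact Or.inl (IsUnit.of_mul_eq_one y (by simpa using hy))
    · exact Or.inl (isUnit_of_mul_isUnit_left ((isUnit_pow_iff hn.ne').1 (h ▸ isUnit_one)))

/-- A finite reduced algebra over a field without idempotents is a field. -/
theorem isField_of_finite {k A : Type*} [Field k] [CommRing A] [Algebra k A] [Module.Finite k A]
    [_root_.IsReduced A] [Nontrivial A] (hid : ∀ e : A, e * e = e → e = 0 ∨ e = 1) : IsField A := by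
  haveI : IsArtinianRing A := IsArtinianRing.of_finite k A
  refine ⟨⟨0, 1, zero_ne_one⟩, mul_comm, fun {x} hx => ?_⟩
  exact isUnit_iff_exists_inv.1 ((isUnit_or_isNilpotent hid x).resolve_right fun h => hx h.eq_zero)

variable (R : Type u) [CommRing R] [IsDomain R] [IsDiscreteValuationRing R]
variable {X : Over (Spec (CommRingCat.of R))} [IsIntegral X.left] [IsLocallyNoetherian X.left] [Flat X.hom]
  [IsProper X.hom]

/-- The range of a closed immersion with the ideal of the special fibre. -/
theorem range_eq_specialFibreSet {Z : Scheme.{u}} (j : Z ⟶ X.left) [IsClosedImmersion j]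
    (hj : j.ker = Models.specialFibreIdeal R X) : Set.range j.base = Models.specialFibreSet R X := by
  rw [← support_specialFibreIdeal R (X := X), ← hj, Scheme.Hom.support_ker,
    j.isClosedEmbedding.isClosed_range.closure_eq]

variable (hreg : ∀ x : X.left, IsRegularLocalRing (X.left.presheaf.stalk x))
variable {n : ℕ} (Γ : Fin n → ArSurf.VertComp R X) (hΓ : Models.IsComponentList R X Γ)
include hreg hΓ

/-- The global functions of a connected special fibre with coprime multiplicities form a field, finite
over the residue field. -/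
theorem isField_sections_specialFibre (hconn : _root_.IsConnected (Models.specialFibreSet R X))
    (hgcd : Models.multGcd R X Γ = 1) {Z : Scheme.{u}} (j : Z ⟶ X.left) [IsClosedImmersion j]
    (hj : j.ker = Models.specialFibreIdeal R X) (q : Z ⟶ Spec (CommRingCat.of (ResidueField R)))
    [IsProper q] :
    IsField Γ(Z, ⊤) ∧ q.appTop.hom.Finite := by
  have hr := range_eq_specialFibreSet R j hj
  haveI : PreconnectedSpace Z := ⟨by
    refine j.isEmbedding.isInducing.isPreconnected_image.1 ?_
    rw [Set.image_univ, hr]; exact hconn.isPreconnected⟩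
  obtain ⟨x, hx⟩ := hconn.nonempty
  obtain ⟨z, rfl⟩ := hr.ge hx
  haveI : Nontrivial Γ(Z, ⊤) := RingHom.domain_nontrivial (Z.presheaf.germ ⊤ z trivial).hom
  have hfin : q.appTop.hom.Finite := Coherent.finite_app_of_isProper q (isAffineOpen_top _)
  haveI : _root_.IsReduced Γ(Z, ⊤) := ⟨fun s hs => eq_zero_of_isNilpotent R hreg Γ hΓ hconn hgcd j hj s hs⟩
  let e := (Scheme.ΓSpecIso (CommRingCat.of (ResidueField R))).symm.commRingCatIsoToRingEquiv
  let φ := q.appTop.hom.comp e.toRingHom
  letI : Algebra (ResidueField R) Γ(Z, ⊤) := φ.toAlgebra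
  have hφ : φ.Finite := RingHom.Finite.comp hfin (RingHom.Finite.of_surjective _ e.surjective)
  haveI : Module.Finite (ResidueField R) Γ(Z, ⊤) := hφ
  exact ⟨isField_of_finite (k := ResidueField R) idempotent_eq_zero_or_one, hfin⟩

end Groth.Agent.Inters29
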