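import Groth.Agent.Inters29.Model
import Groth.Agent.Coherent.ConnectedFibre
import Groth.Prelude.Def_Models
import Mathlib.AlgebraicGeometry.Morphisms.Proper
import Mathlib.AlgebraicGeometry.PullbackCarrier

/-!
# Connectedness of the special fibre of a proper model
-/

set_option autoImplicit false
set_option linter.style.haveILetI false
set_option backward.isDefEq.respectTransparency false

universe u

open CategoryTheory CategoryTheory.Limits AlgebraicGeometry TopologicalSpace

namespace Groth.Agent.Inters29

variable (R : Type u) [CommRing R] [IsDomain R] [IsDiscreteValuationRing R]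

/-- The global functions of a proper integral model of a curve with constants `K` are `R`. -/
theorem toGlobal_bijective {C X : Scheme.{u}} {f : C ⟶ Spec (CommRingCat.of (FractionRing R))}
    {p : X ⟶ Spec (CommRingCat.of R)} [IsIntegral X] [IsIntegral C] [IsProper p] (hH0 : IsIso f.appTop)
    (g : C ⟶ X) (hg : IsPullback g f p (Spec.map (CommRingCat.ofHom (algebraMap R (FractionRing R))))) :
    Function.Bijective (Coh.toGlobal p) := by
  have hgi : Function.Injective g.appTop := by
    have h1 := germ_injective_of_isIntegral X (g (genericPoint C)) (U := ⊤) trivial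
    refine (injective_iff_map_eq_zero _).2 fun s hs => (injective_iff_map_eq_zero _).1 h1 s ?_
    by_contra hne
    have hη : g (genericPoint C) = genericPoint X := by
      let bot : Spec (CommRingCat.of R) := (⟨⊥, Ideal.isPrime_bot⟩ : PrimeSpectrum R)
      have hp : p (genericPoint X) = bot := by
        have h := ((genericPoint_spec X).specializes (Set.mem_univ (g (genericPoint C)))).map p.continuous
        have hb : p (g (genericPoint C)) = bot := by
          rw [← Scheme.Hom.comp_apply, hg.w, Scheme.Hom.comp_apply,
            Subsingleton.elim (f (genericPoint C)) (⟨⊥, Ideal.isPrime_bot⟩ : PrimeSpectrum (FractionRing R))]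
          exact PrimeSpectrum.ext (Ideal.comap_bot_of_injective _ (IsFractionRing.injective R (FractionRing R)))
        rw [hb] at h
        exact (h.antisymm ((PrimeSpectrum.le_iff_specializes _ _).1 bot_le)).eq
      have hmem : genericPoint X ∈ Set.range g := by
        rw [← hg.isoPullback_hom_fst, Scheme.Hom.comp_base, TopCat.coe_comp, Set.range_comp,
          Set.range_eq_univ.2 hg.isoPullback.hom.surjective, Set.image_univ, Scheme.Pullback.range_fst]
        refine ⟨(⟨⊥, Ideal.isPrime_bot⟩ : PrimeSpectrum (FractionRing R)), ?_⟩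
        rw [hp]
        exact PrimeSpectrum.ext (Ideal.comap_bot_of_injective _ (IsFractionRing.injective R (FractionRing R)))
      obtain ⟨c, hc⟩ := hmem
      refine ((genericPoint_spec X).specializes (Set.mem_univ _)).antisymm ?_ |>.eq.symm
      rw [← hc]
      exact ((genericPoint_spec C).specializes (Set.mem_univ c)).map g.continuous
    have hu : IsUnit (X.presheaf.germ ⊤ (g (genericPoint C)) trivial s) := by
      have h0 : ∀ (η : X) (h : η = genericPoint X) (a : X.presheaf.stalk η), a ≠ 0 → IsUnit a := by
        rintro _ rfl a ha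
        exact (isUnit_iff_ne_zero (G₀ := X.functionField)).2 ha
      exact h0 _ hη _ hne
    have h2 := hu.map (g.stalkMap (genericPoint C)).hom
    rw [Scheme.Hom.germ_stalkMap_apply] at h2
    rw [show g.app ⊤ s = 0 from hs, map_zero] at h2
    exact not_isUnit_zero h2
  let e := (asIso f.appTop).commRingCatIsoToRingEquiv
  let eK := (Scheme.ΓSpecIso (CommRingCat.of (FractionRing R))).commRingCatIsoToRingEquiv
  let ψ : Γ(X, ⊤) →+* FractionRing R := (eK.toRingHom.comp e.symm.toRingHom).comp g.appTop.hom
  have hψi : Function.Injective ψ := eK.injective.comp (e.symm.injective.comp hgi)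
  have hψ : ψ.comp (Coh.toGlobal p) = algebraMap R (FractionRing R) := by
    ext r
    have h := congrArg (fun φ => φ ((Scheme.ΓSpecIso (CommRingCat.of R)).inv r)) (congrArg Scheme.Hom.appTop hg.w)
    simp only [Scheme.Hom.comp_appTop] at h
    show eK (e.symm (g.appTop (p.appTop ((Scheme.ΓSpecIso (CommRingCat.of R)).inv r)))) = _
    apply eK.symm.injective
    rw [RingEquiv.symm_apply_apply]
    apply e.injective
    rw [RingEquiv.apply_symm_apply]
    refine h.trans ?_
    refine congrArg f.appTop ?_
    exact (congr($(Scheme.ΓSpecIso_inv_naturality (CommRingCat.ofHom (algebraMap R (FractionRing R)))) r)).symm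
  have hint : ∀ s : Γ(X, ⊤), ∃ r : R, Coh.toGlobal p r = s := by
    intro s
    have h1 : (Coh.toGlobal p).IsIntegralElem s := by
      have h := isIntegral_appTop_of_universallyClosed p
      exact (RingHom.isIntegral_respectsIso.2 p.appTop.hom
        (Scheme.ΓSpecIso (CommRingCat.of R)).symm.commRingCatIsoToRingEquiv h) s
    obtain ⟨P, hP, hPs⟩ := h1
    have h2 : IsIntegral R (ψ s) := ⟨P, hP, by
      rw [← hψ]
      exact (Polynomial.hom_eval₂ P (Coh.toGlobal p) ψ s).symm.trans ((congrArg ψ hPs).trans (map_zero ψ))⟩
    obtain ⟨r, hr⟩ := IsIntegrallyClosed.isIntegral_iff.1 h2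
    exact ⟨r, hψi ((RingHom.congr_fun hψ r).trans hr)⟩
  exact ⟨fun a b h => IsFractionRing.injective R (FractionRing R)
    ((RingHom.congr_fun hψ a).symm.trans ((congrArg ψ h).trans (RingHom.congr_fun hψ b))), hint⟩

/-- The special fibre of a proper flat model of a curve with constants `K` is connected. -/
theorem isConnected_specialFibreSet {C X : Scheme.{u}} {f : C ⟶ Spec (CommRingCat.of (FractionRing R))}
    {p : X ⟶ Spec (CommRingCat.of R)} [IsIntegral X] [IsIntegral C] [IsProper p] (hH0 : IsIso f.appTop)
    (g : C ⟶ X) (hg : IsPullback g f p (Spec.map (CommRingCat.ofHom (algebraMap R (FractionRing R))))) :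
    _root_.IsConnected (p.base ⁻¹' {IsLocalRing.closedPoint R}) := by
  letI : X.Over (Spec (CommRingCat.of R)) := ⟨p⟩
  haveI : IsProper (X ↘ Spec (CommRingCat.of R)) := inferInstanceAs (IsProper p)
  haveI : IsLocalRing Γ(X, ⊤) :=
    (RingEquiv.ofBijective _ (toGlobal_bijective R hH0 g hg)).isLocalRing
  have h := Coherent.isPreconnected_closedFibre_of_isLocalRing (A := R) (X := X)
  have hz : PrimeSpectrum.zeroLocus (IsLocalRing.maximalIdeal R : Set R) = {IsLocalRing.closedPoint R} := by
    rw [← IsLocalRing.isClosed_singleton_closedPoint R |>.closure_eq, PrimeSpectrum.closure_singleton]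
    rfl
  rw [hz] at h
  refine ⟨?_, h⟩
  have hC : IsClosed (Set.range p) := p.isClosedMap.isClosed_range
  have hmem : p (g (genericPoint C)) ⤳ IsLocalRing.closedPoint R := IsLocalRing.specializes_closedPoint _
  obtain ⟨x, hx⟩ := hmem.mem_closed hC ⟨_, rfl⟩
  exact ⟨x, hx⟩

end Groth.Agent.Inters29
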