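import Groth.Agent.Inters29.Fibre
import Groth.Agent.Props12.KerReduced
import Groth.Agent.S7890
import Mathlib.AlgebraicGeometry.Morphisms.FiniteType

/-!
# Components of the special fibre of a surface are vertical curves
-/

set_option autoImplicit false
set_option linter.style.haveILetI false
set_option backward.isDefEq.respectTransparency false

universe u

open CategoryTheory CategoryTheory.Limits AlgebraicGeometry TopologicalSpace IsLocalRing

namespace Groth.Agent.Inters29

variable (R : Type u) [CommRing R] [IsDomain R] [IsDiscreteValuationRing R]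
variable {X : Over (Spec (CommRingCat.of R))}

theorem base_eq_bot_or_closedPoint (q : PrimeSpectrum R) :
    q = ⟨⊥, Ideal.isPrime_bot⟩ ∨ q = closedPoint R := by
  by_cases h : q.asIdeal = ⊥
  · exact Or.inl (PrimeSpectrum.ext h)
  · exact Or.inr (PrimeSpectrum.ext (eq_maximalIdeal (q.isPrime.isMaximal h)))

theorem bot_ne_closedPoint : (⟨⊥, Ideal.isPrime_bot⟩ : PrimeSpectrum R) ≠ closedPoint R :=
  fun h => IsDiscreteValuationRing.not_a_field R (congrArg PrimeSpectrum.asIdeal h).symm

variable [IsIntegral X.left] [Flat X.hom]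

theorem hom_genericPoint (z : X.left) :
    X.hom (genericPoint X.left) = (⟨⊥, Ideal.isPrime_bot⟩ : PrimeSpectrum R) := by
  let bot : Spec (CommRingCat.of R) := (⟨⊥, Ideal.isPrime_bot⟩ : PrimeSpectrum R)
  obtain ⟨y, -, hpy⟩ := Flat.generalizingMap X.hom
    ((PrimeSpectrum.le_iff_specializes _ _).1 bot_le : bot ⤳ X.hom z)
  have h := ((genericPoint_spec X.left).specializes (Set.mem_univ y)).map X.hom.continuous
  rw [hpy] at h
  exact (h.antisymm ((PrimeSpectrum.le_iff_specializes _ _).1 bot_le)).eq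

variable [IsLocallyNoetherian X.left] [IsProper X.hom]

omit [IsLocallyNoetherian X.left] [IsProper X.hom] in
/-- An affine chart of the surface, as an algebra over the base. -/
theorem exists_chart (U : X.left.Opens) (hU : IsAffineOpen U) (z : X.left) (hz : z ∈ U) [LocallyOfFiniteType X.hom] :
    ∃ φ : R →+* Γ(X.left, U), φ.FiniteType ∧ Function.Injective φ ∧
      ∀ b, (X.hom (hU.fromSpec b)).asIdeal = b.asIdeal.comap φ := by
  obtain ⟨φ, hφ⟩ := Spec.map_surjective (hU.fromSpec ≫ X.hom)
  have hft : φ.hom.FiniteType := by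
    have h : LocallyOfFiniteType (Spec.map φ) := hφ ▸ inferInstance
    rwa [HasRingHomProperty.Spec_iff (P := @LocallyOfFiniteType)] at h
  have hb : ∀ b, (X.hom (hU.fromSpec b)).asIdeal = b.asIdeal.comap φ.hom := fun b => by
    rw [← Scheme.Hom.comp_apply, ← hφ]; rfl
  refine ⟨φ.hom, hft, ?_, hb⟩
  obtain ⟨ξ, hξ⟩ : genericPoint X.left ∈ Set.range hU.fromSpec := hU.range_fromSpec ▸
    ((genericPoint_spec X.left).mem_open_set_iff U.2).2 ⟨z, trivial, hz⟩
  have h := hb ξ
  rw [hξ, hom_genericPoint R z] at h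
  exact (injective_iff_map_eq_zero _).2 fun a ha => Ideal.mem_bot.1 (h.symm.le (by
    show φ.hom a ∈ ξ.asIdeal
    rw [ha]; exact zero_mem _))

/-- A closed point of the special fibre of a surface has codimension two. -/
theorem not_isClosed_of_coheight_le_one (hdim : topologicalKrullDim X.left = 2) {z : X.left}
    (hz : z ∈ Models.specialFibreSet R X) (hco : Order.coheight z ≤ 1) : ¬ IsClosed ({z} : Set X.left) := by
  intro hzc
  let η := genericPoint X.left
  let bot : Spec (CommRingCat.of R) := (⟨⊥, Ideal.isPrime_bot⟩ : PrimeSpectrum R)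
  have hgen : ∀ w : X.left, Order.coheight w = 0 → w = η := fun w hw => by
    by_contra hne
    have h := SDiv28.CartierPart.dim_add_one_le ((genericPoint_spec X.left).specializes (Set.mem_univ w)) (Ne.symm hne)
    rw [hw] at h
    exact absurd h (by simp)
  obtain ⟨_, ⟨U : X.left.Opens, hU, rfl⟩, hzU, -⟩ := X.left.isBasis_affineOpens.exists_subset_of_mem_open
    (Set.mem_univ z) isOpen_univ
  obtain ⟨φ, hft, hinj, hb⟩ := exists_chart R U hU z hzU
  let _ : Algebra R Γ(X.left, U) := φ.toAlgebra
  haveI : Algebra.FiniteType R Γ(X.left, U) := hft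
  haveI : Nonempty U := ⟨⟨z, hzU⟩⟩
  have hopen : Topology.IsOpenEmbedding hU.fromSpec := hU.fromSpec.isOpenEmbedding
  obtain ⟨P, hP⟩ : z ∈ Set.range hU.fromSpec := hU.range_fromSpec ▸ hzU
  haveI : P.asIdeal.IsMaximal := by
    refine (PrimeSpectrum.isClosed_singleton_iff_isMaximal P).1 ?_
    have : IsClosed (hU.fromSpec ⁻¹' {z}) := hzc.preimage hU.fromSpec.continuous
    rwa [← hP, ← Set.image_singleton, Set.preimage_image_eq _ hopen.injective] at this
  have hPc : P.asIdeal.comap φ = maximalIdeal R := by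
    rw [← hb, hP, show X.hom z = closedPoint R from hz]; rfl
  have hmax : ∀ p : Ideal Γ(X.left, U), p.IsPrime → p ≤ P.asIdeal → p.comap φ = ⊥ → p = ⊥ := by
    intro p hp hle hp0
    have hne : (⟨p, hp⟩ : PrimeSpectrum Γ(X.left, U)) ≠ P := fun h => by
      rw [← h] at hPc
      exact IsDiscreteValuationRing.not_a_field R (hPc.symm.trans hp0)
    have hs : hU.fromSpec ⟨p, hp⟩ ⤳ z :=
      hP ▸ ((PrimeSpectrum.le_iff_specializes ⟨p, hp⟩ P).1 hle).map hU.fromSpec.continuous
    have h1 := (SDiv28.CartierPart.dim_add_one_le hs (hP ▸ hopen.injective.ne hne)).trans hco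
    have h0 : Order.coheight (hU.fromSpec ⟨p, hp⟩) = 0 :=
      le_bot_iff.1 ((ENat.add_le_add_iff_right ENat.one_ne_top).1 (h1.trans_eq (zero_add 1).symm))
    let P₀ : PrimeSpectrum Γ(X.left, U) := ⟨⊥, Ideal.isPrime_bot⟩
    have h2 : hU.fromSpec ⟨p, hp⟩ ⤳ hU.fromSpec P₀ := by
      rw [hgen _ h0]
      exact (genericPoint_spec X.left).specializes (Set.mem_univ _)
    exact le_bot_iff.1 ((PrimeSpectrum.le_iff_specializes ⟨p, hp⟩ P₀).2 (hopen.isEmbedding.specializes_iff.1 h2))
  have honly : ∀ Q : Ideal Γ(X.left, U), Q.IsPrime → Q.comap φ = ⊥ → Q = ⊥ := fun Q hQ hQ0 =>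
    S7890.eq_bot_of_under_eq_bot (R := R) hinj P.asIdeal (hPc ▸ maximalIdeal.isMaximal R)
      (hPc ▸ IsDiscreteValuationRing.not_a_field R) hmax Q hQ0
  have hUG : ∀ y ∈ U, X.hom y = bot → y = η := by
    intro y hy hy0
    obtain ⟨b, rfl⟩ : y ∈ Set.range hU.fromSpec := hU.range_fromSpec ▸ hy
    have hb0 : b.asIdeal = ⊥ := honly _ b.isPrime (by rw [← hb, hy0])
    obtain ⟨ξ, hξ⟩ : η ∈ Set.range hU.fromSpec := hU.range_fromSpec ▸
      ((genericPoint_spec X.left).mem_open_set_iff U.2).2 ⟨z, trivial, hzU⟩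
    have hξ0 : ξ.asIdeal = ⊥ := honly _ ξ.isPrime (by rw [← hb, hξ, hom_genericPoint R z])
    rw [← hξ, PrimeSpectrum.ext (hb0.trans hξ0.symm)]
  let W : (Spec (CommRingCat.of R)).Opens :=
    ⟨{closedPoint R}ᶜ, (isClosed_singleton_closedPoint R).isOpen_compl⟩
  have hW : ∀ q ∈ W, q = bot := fun q hq => (base_eq_bot_or_closedPoint R q).resolve_right hq
  let G : X.left.Opens := X.hom ⁻¹ᵁ W
  have hηG : η ∈ G := by
    show X.hom η ∈ W
    rw [hom_genericPoint R z]
    exact bot_ne_closedPoint R
  haveI : Subsingleton W.toScheme := ⟨fun a b => Subtype.ext ((hW _ a.2).trans (hW _ b.2).symm)⟩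
  haveI : JacobsonSpace G.toScheme := LocallyOfFiniteType.jacobsonSpace (X.hom ∣_ W)
  have hG : ∀ y ∈ G, y = η := by
    intro y hy
    let ηG : G.toScheme := ⟨η, hηG⟩
    have hl : IsOpen ({ηG} : Set G.toScheme) := by
      have : ({ηG} : Set G.toScheme) = G.ι ⁻¹' (U : Set X.left) := by
        ext w
        constructor
        · rintro rfl
          exact ((genericPoint_spec X.left).mem_open_set_iff U.2).2 ⟨z, trivial, hzU⟩
        · intro hw
          exact Subtype.ext (hUG _ hw (hW _ w.2))
      rw [this]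
      exact U.2.preimage G.ι.continuous
    have hc : IsClosed ({ηG} : Set G.toScheme) :=
      isClosed_singleton_of_isLocallyClosed_singleton hl.isLocallyClosed
    have hs : ηG ⤳ (⟨y, hy⟩ : G.toScheme) :=
      (subtype_specializes_iff ηG (⟨y, hy⟩ : G.toScheme)).2 ((genericPoint_spec X.left).specializes (Set.mem_univ y))
    exact congrArg Subtype.val (Set.mem_singleton_iff.1 (hs.mem_closed hc (Set.mem_singleton ηG)))
  have hclosed : ∀ x : X.left, x ≠ η → IsClosed ({x} : Set X.left) := by
    intro x hx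
    rw [← closure_eq_iff_isClosed]
    refine Set.Subset.antisymm (fun y hy => ?_) subset_closure
    by_contra hne
    have hxy : x ⤳ y := specializes_iff_mem_closure.2 hy
    obtain ⟨_, ⟨V : X.left.Opens, hV, rfl⟩, hyV, -⟩ := X.left.isBasis_affineOpens.exists_subset_of_mem_open
      (Set.mem_univ y) isOpen_univ
    obtain ⟨ψ, hψft, hψinj, hψb⟩ := exists_chart R V hV y hyV
    let _ : Algebra R Γ(X.left, V) := ψ.toAlgebra
    haveI : Algebra.FiniteType R Γ(X.left, V) := hψft
    haveI : IsNoetherianRing Γ(X.left, V) := Algebra.FiniteType.isNoetherianRing R _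
    haveI : Nonempty V := ⟨⟨y, hyV⟩⟩
    have hVo : Topology.IsOpenEmbedding hV.fromSpec := hV.fromSpec.isOpenEmbedding
    obtain ⟨P', hP'⟩ : y ∈ Set.range hV.fromSpec := hV.range_fromSpec ▸ hyV
    obtain ⟨q, hq⟩ : x ∈ Set.range hV.fromSpec := hV.range_fromSpec ▸ hxy.mem_open V.2 hyV
    have hqP : q.asIdeal ≤ P'.asIdeal :=
      (PrimeSpectrum.le_iff_specializes q P').2 (hVo.isEmbedding.specializes_iff.1 (hq ▸ hP' ▸ hxy))
    have hlt : q.asIdeal < P'.asIdeal := lt_of_le_of_ne hqP fun h => hne (by
      show y = x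
      rw [← hq, ← hP', PrimeSpectrum.ext h])
    have hxc : X.hom x = closedPoint R := (base_eq_bot_or_closedPoint R _).resolve_left fun h =>
      hx (hG x (by show X.hom x ∈ W; rw [h]; exact bot_ne_closedPoint R))
    obtain ⟨ϖ, hϖ⟩ := IsDiscreteValuationRing.exists_irreducible R
    have hϖq : ψ ϖ ∈ q.asIdeal := by
      show ϖ ∈ q.asIdeal.comap ψ
      rw [← hψb, hq, hxc]
      exact (mem_maximalIdeal ϖ).2 hϖ.not_isUnit
    obtain ⟨p, hp, hp0, -, hπp⟩ := S7890.exists_prime_notMem P'.asIdeal (ψ ϖ) q.asIdeal hϖq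
      (fun h => hϖ.ne_zero (hψinj (h.trans (map_zero ψ).symm))) hlt
    let pp : PrimeSpectrum Γ(X.left, V) := ⟨p, hp⟩
    have hppG : hV.fromSpec pp ∈ G := by
      intro h
      refine hπp ?_
      show ϖ ∈ pp.asIdeal.comap ψ
      rw [← hψb, show X.hom (hV.fromSpec pp) = closedPoint R from h]
      exact (mem_maximalIdeal ϖ).2 hϖ.not_isUnit
    let P₀ : PrimeSpectrum Γ(X.left, V) := ⟨⊥, Ideal.isPrime_bot⟩
    have h2 : hV.fromSpec pp ⤳ hV.fromSpec P₀ := by
      rw [hG _ hppG]
      exact (genericPoint_spec X.left).specializes (Set.mem_univ _)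
    exact hp0 (le_bot_iff.1 ((PrimeSpectrum.le_iff_specializes pp P₀).2 (hVo.isEmbedding.specializes_iff.1 h2)))
  have hle : topologicalKrullDim X.left ≤ 1 := by
    refine Order.krullDim_le_one_iff.2 fun b => ?_
    obtain ⟨g, hg⟩ := QuasiSober.sober b.isIrreducible b.isClosed
    by_cases hgη : g = η
    · refine Or.inr fun c _ => ?_
      show (c : Set X.left) ⊆ b
      rw [← hg.def, hgη, (genericPoint_spec X.left).def]
      exact Set.subset_univ _
    · refine Or.inl fun a ha => ?_
      show (b : Set X.left) ⊆ a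
      have hb : (b : Set X.left) = {g} := by rw [← hg.def, (hclosed g hgη).closure_eq]
      obtain ⟨w, hw⟩ := a.isIrreducible.nonempty
      have hwg : w = g := hb.le (ha hw)
      rw [hb]
      exact Set.singleton_subset_iff.2 (hwg ▸ hw)
  rw [hdim] at hle
  exact absurd hle (by decide)

/-- Every component of the special fibre is a vertical curve. -/
theorem exists_vertComp (hdim : topologicalKrullDim X.left = 2) {Z : Set X.left}
    (hZ : Z ∈ Models.fibreComponents R X) :
    ∃ Γ : ArSurf.VertComp R X, Set.range Γ.ι.base = Z := by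
  have hsf := Models.isClosed_specialFibreSet R X
  have hZc : IsClosed Z := by
    rw [← closure_eq_iff_isClosed]
    exact Set.Subset.antisymm
      (hZ.2 ⟨hZ.1.1.closure, hsf.closure_subset_iff.2 hZ.1.2⟩ subset_closure) subset_closure
  obtain ⟨z, hz⟩ := QuasiSober.sober hZ.1.1 hZc
  have hzf : z ∈ Models.specialFibreSet R X := hZ.1.2 hz.mem
  have hmax : ∀ w ∈ Models.specialFibreSet R X, w ⤳ z → w = z := by
    intro w hw hwz
    have hle : Z ⊆ closure {w} := by
      rw [← hz.def]; exact hwz.closure_subset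
    have heq := le_antisymm hle (hZ.2 ⟨isIrreducible_singleton.closure,
      hsf.closure_subset_iff.2 (Set.singleton_subset_iff.2 hw)⟩ hle)
    exact (isGenericPoint_closure (x := w)).eq (heq ▸ hz)
  have hco := coheight_le_one_of_maximal R hzf hmax
  have hncl := not_isClosed_of_coheight_le_one R hdim hzf hco
  let C : Closeds X.left := ⟨Z, hZc⟩
  let I := Scheme.IdealSheafData.vanishingIdeal C
  let ι := I.subschemeι
  have hrange : Set.range ι.base = Z := by
    rw [Scheme.IdealSheafData.range_subschemeι, Scheme.IdealSheafData.coe_support_vanishingIdeal]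
    rfl
  haveI : IsReduced I.subscheme := Props12.isReduced_subscheme_vanishingIdeal C
  haveI : IrreducibleSpace I.subscheme := by
    obtain ⟨z', hz'⟩ := hrange.ge hz.mem
    rw [irreducibleSpace_def, Set.top_eq_univ,
      ← (show closure ({z'} : Set I.subscheme) = Set.univ from Set.eq_univ_of_forall fun w =>
        specializes_iff_mem_closure.1 (ι.isClosedEmbedding.isInducing.specializes_iff.1
          (hz' ▸ hz.specializes (hrange.le ⟨w, rfl⟩))))]
    exact isIrreducible_singleton.closure
  haveI : IsIntegral I.subscheme := isIntegral_of_irreducibleSpace_of_isReduced _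
  let c := Spec.map (CommRingCat.ofHom (IsLocalRing.residue R))
  haveI : IsClosedImmersion c := IsClosedImmersion.spec_of_surjective _ IsLocalRing.residue_surjective
  have hker : c.ker ≤ (ι ≫ X.hom).ker := by
    rw [Props12.ker_eq_vanishingIdeal (ι ≫ X.hom)]
    refine Scheme.IdealSheafData.le_support_iff_le_vanishingIdeal.1 ?_
    refine closure_minimal ?_ c.ker.support.isClosed
    rintro _ ⟨y, rfl⟩
    rw [Scheme.Hom.support_ker]
    refine subset_closure ⟨closedPoint _, ?_⟩
    rw [show (ι ≫ X.hom).base y = closedPoint R from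
      (hZ.1.2 (hrange.le ⟨y, rfl⟩) : X.hom (ι y) = closedPoint R)]
    exact comap_closedPoint (IsLocalRing.residue R)
  refine ⟨{ curve := Over.mk (IsClosedImmersion.lift c (ι ≫ X.hom) hker), ι := ι,
            isClosedImmersion := inferInstance, isIntegral := ‹_›, dim_eq := ?_,
            w := (IsClosedImmersion.lift_fac c _ hker).symm }, hrange⟩
  show topologicalKrullDim I.subscheme = 1
  have hemb := ι.isClosedEmbedding
  refine le_antisymm (Order.krullDim_le_one_iff.2 fun b => ?_) ?_
  · obtain ⟨g, hg⟩ := QuasiSober.sober b.isIrreducible b.isClosed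
    by_cases hgz : ι g = z
    · refine Or.inr fun d _ => ?_
      intro w _
      show w ∈ (b : Set I.subscheme)
      rw [← hg.def, ← specializes_iff_mem_closure, ← hemb.isInducing.specializes_iff, hgz]
      exact hz.specializes (hrange.le ⟨w, rfl⟩)
    · refine Or.inl fun a ha => ?_
      obtain ⟨g', hg'⟩ := QuasiSober.sober a.isIrreducible a.isClosed
      intro w hw
      show w ∈ (a : Set I.subscheme)
      suffices h : g' = g by
        rw [← hg'.def, h, hg.def]; exact hw
      by_contra hne
      have h1 : ι g ⤳ ι g' := (hg.specializes (ha hg'.mem)).map ι.continuous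
      have h2 := SDiv28.CartierPart.dim_add_one_le h1 (hemb.injective.ne (Ne.symm hne))
      have h3 := SDiv28.CartierPart.dim_add_one_le (hz.specializes (hrange.le ⟨g, rfl⟩)) (Ne.symm hgz)
      have hzη : genericPoint X.left ≠ z := fun h => bot_ne_closedPoint R (by
        rw [← hom_genericPoint R z, h]; exact hzf)
      have h4 := SDiv28.CartierPart.dim_add_one_le ((genericPoint_spec X.left).specializes (Set.mem_univ z)) hzη
      have h5 := (CurvesLib24.stalk_dim_le_topologicalKrullDim (ι g')).trans hdim.le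
      rw [ringKrullDim_stalk_eq_coheight] at h5
      have h5' : Order.coheight (ι g') ≤ (2 : ℕ∞) := WithBot.coe_le_coe.1 h5
      have h6 : (1 : ℕ∞) + 1 + 1 ≤ 2 :=
        le_trans (add_le_add_left (add_le_add_left (le_trans le_add_self h4) 1) 1)
          ((add_le_add_left h3 1).trans (h2.trans h5'))
      exact absurd h6 (by decide)
  · refine Order.one_le_krullDim_iff.2 ?_
    obtain ⟨y, hy, hne⟩ : ∃ y ∈ Z, y ≠ z := by
      by_contra h
      push Not at h
      exact hncl (by rwa [← show Z = {z} from Set.Subset.antisymm h (Set.singleton_subset_iff.2 hz.mem)])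
    obtain ⟨y', rfl⟩ := hrange.ge hy
    obtain ⟨z', hz'⟩ := hrange.ge hz.mem
    refine ⟨⟨closure {y'}, isIrreducible_singleton.closure, isClosed_closure⟩,
      ⟨closure {z'}, isIrreducible_singleton.closure, isClosed_closure⟩, ?_⟩
    have hs : z' ⤳ y' := hemb.isInducing.specializes_iff.1 (hz' ▸ hz.specializes hy)
    refine lt_of_le_of_ne hs.closure_subset fun h => hne ?_
    have h' : closure ({y'} : Set I.subscheme) = closure {z'} := congrArg SetLike.coe h
    rw [← hz', (isGenericPoint_closure (x := y')).eq (show IsGenericPoint z' (closure {y'}) from h'.symm)]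

/-- A component list exists. -/
theorem exists_componentList (hdim : topologicalKrullDim X.left = 2) :
    ∃ (n : ℕ) (Γ : Fin n → ArSurf.VertComp R X), Models.IsComponentList R X Γ := by
  haveI : CompactSpace X.left := (quasiCompact_iff_compactSpace X.hom).1 inferInstance
  haveI : IsNoetherian X.left := ⟨⟩
  have hfin : (Models.fibreComponents R X).Finite := by
    obtain ⟨S, hSf, hSc, hSi, hS⟩ :=
      NoetherianSpace.exists_finite_set_isClosed_irreducible (Models.isClosed_specialFibreSet R X)
    refine hSf.subset fun Z hZ => ?_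
    have hcov : Z ⊆ ⋃₀ ↑hSf.toFinset := by rw [hSf.coe_toFinset, ← hS]; exact hZ.1.2
    obtain ⟨t, ht, hZt⟩ := isIrreducible_iff_sUnion_isClosed.1 hZ.1.1 hSf.toFinset
      (fun t ht => hSc t (hSf.mem_toFinset.1 ht)) hcov
    rw [hSf.mem_toFinset] at ht
    rwa [le_antisymm hZt (hZ.2 ⟨hSi t ht, hS ▸ Set.subset_sUnion_of_mem ht⟩ hZt)]
  haveI : Fintype ↥(Models.fibreComponents R X) := hfin.fintype
  let e := (Fintype.equivFin ↥(Models.fibreComponents R X)).symm
  choose Γ hΓ using fun i => exists_vertComp R hdim (e i).2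
  refine ⟨_, Γ, fun i j h => e.injective (Subtype.ext ?_), Set.ext fun Z => ⟨?_, fun hZ => ?_⟩⟩
  · exact (hΓ i).symm.trans (h.trans (hΓ j))
  · rintro ⟨i, rfl⟩
    show Set.range (Γ i).ι.base ∈ Models.fibreComponents R X
    rw [show Set.range (Γ i).ι.base = _ from hΓ i]
    exact (e i).2
  · exact ⟨e.symm ⟨Z, hZ⟩, (hΓ _).trans (by rw [e.apply_symm_apply])⟩

end Groth.Agent.Inters29
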