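import Groth.Agent.Inters29.List
import Groth.Agent.Inters29.Exist
import Groth.Agent.VarietyLib.Dual

/-!
# Arbitrary families of vertical curves
-/

set_option autoImplicit false
set_option linter.style.haveILetI false
set_option backward.isDefEq.respectTransparency.types false

universe u

open CategoryTheory CategoryTheory.Limits AlgebraicGeometry TopologicalSpace Matrix

namespace Groth.Agent.Inters29

variable (R : Type u) [CommRing R] [IsDomain R] [IsDiscreteValuationRing R]
variable {X : Over (Spec (CommRingCat.of R))}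

theorem ker_eq_of_range_eq (Γ Δ : ArSurf.VertComp R X) (h : Set.range Γ.ι.base = Set.range Δ.ι.base) :
    Γ.ι.ker = Δ.ι.ker := by
  rw [Props12.ker_eq_vanishingIdeal, Props12.ker_eq_vanishingIdeal]
  exact congrArg _ (SetLike.coe_injective (congrArg closure h))

variable [IsIntegral X.left] [IsLocallyNoetherian X.left] [Flat X.hom]
variable (hreg : ∀ x : X.left, IsRegularLocalRing (X.left.presheaf.stalk x))
include hreg

omit [Flat X.hom] in
theorem exists_inverse_ker {I : X.left.IdealSheafData} (hI : BlowUp.IsEffCartierIdeal I) :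
    ∃ L : X.left.Modules, ClSub.IsInverseOf L (ClSub.idealMod I) := by
  obtain ⟨M, ⟨e⟩⟩ := VarietyLib.exists_isInverseOf (FlatMor12.IdealModGen.isInvertible_idealMod I hI)
  exact ⟨M, ⟨AmpleLib.tensorComm _ _ ≪≫ e⟩⟩

variable (hdim : topologicalKrullDim X.left ≤ 2)
include hdim

/-- A vertical curve has the support of one of the components. -/
theorem exists_range_eq {n : ℕ} (Δ : Fin n → ArSurf.VertComp R X) (hΔ : Models.IsComponentList R X Δ)
    (Γ : ArSurf.VertComp R X) : ∃ j, Set.range Γ.ι.base = Set.range (Δ j).ι.base := by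
  obtain ⟨j, hj⟩ := exists_genPt_specializes R Δ hΔ
    (z := Γ.ι (genericPoint Γ.curve.left)) (range_subset_specialFibreSet R Γ ⟨_, rfl⟩)
  refine ⟨j, by_contra fun hne => genericPoint_notMem R Γ (Δ j) hreg hdim hne ?_⟩
  rw [support_ker_eq]
  exact hj.mem_closed (Δ j).ι.isClosedEmbedding.isClosed_range ⟨_, rfl⟩

variable [IsProper X.hom]

omit hdim in
/-- Intersection numbers only depend on the supports of the curves. -/
theorem inter_eq_of_range_eq {n : ℕ} (Δ : Fin n → ArSurf.VertComp R X) (hΔ : Models.IsComponentList R X Δ)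
    (M : Fin n → X.left.Modules) (hM : ∀ j, ClSub.IsInverseOf (M j) (ClSub.idealMod (Δ j).ι.ker))
    (Γ : ArSurf.VertComp R X) (i : Fin n) (h : Set.range Γ.ι.base = Set.range (Δ i).ι.base) (j : Fin n) :
    ArSurf.inter R X (M j) Γ = ArSurf.inter R X (M j) (Δ i) := by
  haveI := isProper_curve R Γ
  haveI := isProper_curve R (Δ i)
  have hk := ker_eq_of_range_eq R Γ (Δ i) h
  have hoff : ∀ j, j ≠ i → ArSurf.inter R X (M j) Γ = ArSurf.inter R X (M j) (Δ i) := by
    intro j hj
    have hD := isEffCartier_listComp R Δ hreg hΔ j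
    have hn := genPt_notMem R hreg Δ hΔ hj.symm
    have hn' : Γ.ι.base (genericPoint Γ.curve.left) ∉ ((Δ j).ι.ker.support : Set X.left) := fun hm => hn (by
      have hg := (genPt_isGenericPoint R Γ).eq (h ▸ genPt_isGenericPoint R (Δ i))
      exact hg ▸ hm)
    rw [inter_eq_lengthH R Γ _ hD hn' (M j) (hM j), inter_eq_lengthH R (Δ i) _ hD hn (M j) (hM j), hk]
  rcases eq_or_ne j i with rfl | hj
  · have h1 := sum_mult_mul_inter R hreg Δ hΔ M hM Γ
    have h2 := sum_mult_mul_inter R hreg Δ hΔ M hM (Δ j)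
    rw [← Finset.add_sum_erase _ _ (Finset.mem_univ j)] at h1 h2
    rw [Finset.sum_congr rfl fun k hk => by rw [hoff k (Finset.ne_of_mem_erase hk)]] at h1
    have hm : (Models.mult R X (Δ j) : ℤ) ≠ 0 := Nat.cast_ne_zero.2 (mult_pos' R Δ hΔ hreg j).ne'
    exact mul_left_cancel₀ hm (by linarith)
  · exact hoff j hj

/-- The intersection matrix of any family of vertical curves is that of their supports. -/
theorem inter_eq_listInter {n : ℕ} (Δ : Fin n → ArSurf.VertComp R X) (hΔ : Models.IsComponentList R X Δ)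
    (M : Fin n → X.left.Modules) (hM : ∀ j, ClSub.IsInverseOf (M j) (ClSub.idealMod (Δ j).ι.ker))
    (Γ Γ' : ArSurf.VertComp R X) (L : X.left.Modules) (hL : ClSub.IsInverseOf L (ClSub.idealMod Γ'.ι.ker))
    (i j : Fin n) (hi : Set.range Γ.ι.base = Set.range (Δ i).ι.base)
    (hj : Set.range Γ'.ι.base = Set.range (Δ j).ι.base) :
    ArSurf.inter R X L Γ = ArSurf.inter R X (M j) (Δ i) := by
  haveI := isProper_curve R Γ
  rw [← inter_eq_of_range_eq R hreg Δ hΔ M hM Γ i hi j,
    inter_inverse R Γ (isEffCartier_comp R hreg hdim Γ') hL,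
    inter_inverse R Γ (isEffCartier_listComp R Δ hreg hΔ j) (hM j),
    idealCl_congr (ker_eq_of_range_eq R Γ' (Δ j) hj)]

end Groth.Agent.Inters29
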