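import Groth.Agent.Inters29.Degree
import Groth.Prelude.Def_ModelsG

/-!
# Intersection numbers as lengths of intersections
-/

set_option autoImplicit false
set_option linter.style.haveILetI false
set_option backward.isDefEq.respectTransparency.types false

universe u

open CategoryTheory CategoryTheory.Limits AlgebraicGeometry Opposite TopologicalSpace
open Groth.Agent.Coherent Groth.Agent.PicLib Groth.Agent.AmpleLib Groth.Agent.EulerLib

namespace Groth.Agent.Inters29

/-- The scheme-theoretic intersection of a closed subscheme with the image of a closed immersion. -/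
theorem map_comap_eq_sup {X Y : Scheme.{u}} (ι : Y ⟶ X) [IsClosedImmersion ι] (D : X.IdealSheafData) :
    (D.comap ι).map ι = D ⊔ ι.ker := by
  refine le_antisymm ?_ (sup_le (Scheme.IdealSheafData.le_map_comap D ι) ?_)
  · have hk : ι.ker ≤ (D ⊔ ι.ker).subschemeι.ker :=
      le_sup_right.trans (Scheme.IdealSheafData.ker_subschemeι _).ge
    let h := IsClosedImmersion.lift ι (D ⊔ ι.ker).subschemeι hk
    have hh : h ≫ ι = (D ⊔ ι.ker).subschemeι := IsClosedImmersion.lift_fac _ _ hk
    have hmap : h.ker.map ι = D ⊔ ι.ker := by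
      rw [Scheme.IdealSheafData.map_ker, hh, Scheme.IdealSheafData.ker_subschemeι]
    calc (D.comap ι).map ι ≤ h.ker.map ι := Scheme.IdealSheafData.map_mono ι
          (Scheme.IdealSheafData.le_map_iff_comap_le.1 (le_sup_left.trans hmap.ge))
      _ = D ⊔ ι.ker := hmap
  · rw [← Scheme.IdealSheafData.map_bot]
    exact Scheme.IdealSheafData.map_mono ι bot_le

variable (R : Type u) [CommRing R] [IsDomain R] [IsDiscreteValuationRing R]

/-- The length of the sections of a closed subscheme of `X` lying in a vertical curve is their dimension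
over the residue field. -/
theorem lengthH_quotMod_map {X : Over (Spec (CommRingCat.of R))} (Γ : ArSurf.VertComp R X)
    [IsProper Γ.curve.hom] (Z : Γ.curve.left.IdealSheafData) :
    letI : Γ.curve.left.Over (Spec (CommRingCat.of (IsLocalRing.ResidueField R))) := ⟨Γ.curve.hom⟩
    Models.lengthH R X (ClSub.quotMod (Z.map Γ.ι)) 0 =
      Module.finrank (IsLocalRing.ResidueField R) (Coh.HH Γ.curve.left (ClSub.quotMod Z) 0) := by
  letI : Γ.curve.left.Over (Spec (CommRingCat.of (IsLocalRing.ResidueField R))) := ⟨Γ.curve.hom⟩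
  haveI : IsProper (Γ.curve.left ↘ Spec (CommRingCat.of (IsLocalRing.ResidueField R))) :=
    inferInstanceAs (IsProper Γ.curve.hom)
  let k := IsLocalRing.ResidueField R
  let J := Z.map Γ.ι
  let t : Z.subscheme ⟶ J.subscheme := (Z.subschemeι ≫ Γ.ι).toImage
  haveI : IsIso t := inferInstanceAs (IsIso (Z.subschemeι ≫ Γ.ι).toImage)
  have ht : t ≫ J.subschemeι = Z.subschemeι ≫ Γ.ι := (Z.subschemeι ≫ Γ.ι).toImage_imageι
  let M := GA (baseHom k Γ.curve.left) (ClSub.quotMod Z)
  letI : Module R M := Module.compHom M (IsLocalRing.residue R)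
  haveI : IsScalarTower R k M := .of_algebraMap_smul fun _ _ => rfl
  let F : Γ(J.subscheme, ⊤) →+* Γ(Z.subscheme, ⊤) := t.appTop.hom
  haveI : IsIso t.appTop := inferInstanceAs (IsIso (t.app ⊤))
  have hF : Function.Bijective F := ConcreteCategory.bijective_of_isIso t.appTop
  have hscal : ∀ r : R, F (J.subschemeι.appTop.hom (baseHom R X.left r)) =
      Z.subschemeι.appTop.hom (baseHom k Γ.curve.left (IsLocalRing.residue R r)) := by
    intro r
    have h1 : (t ≫ J.subschemeι ≫ X.hom) = Z.subschemeι ≫ Γ.curve.hom ≫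
        Spec.map (CommRingCat.ofHom (IsLocalRing.residue R)) := by
      rw [reassoc_of% ht, Γ.w]
    have h2 := congrArg (fun g : Z.subscheme ⟶ Spec (CommRingCat.of R) =>
      g.appTop.hom ((Scheme.ΓSpecIso (CommRingCat.of R)).inv.hom r)) h1
    simp only [Scheme.Hom.comp_appTop, CommRingCat.comp_apply] at h2
    refine h2.trans ?_
    refine congrArg (fun a => Z.subschemeι.appTop.hom (Γ.curve.hom.appTop.hom a)) ?_
    have h3 := congr($(Scheme.ΓSpecIso_inv_naturality (CommRingCat.ofHom (IsLocalRing.residue R))) r)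
    exact h3.symm
  let e : GA (baseHom R X.left) (ClSub.quotMod J) →ₗ[R] M :=
    { toFun := fun s => (show Γ(Z.subscheme, ⊤) from F (show Γ(J.subscheme, ⊤) from s))
      map_add' := fun a b => map_add F _ _
      map_smul' := fun r s => (map_mul F _ _).trans (congrArg (· * _) (hscal r)) }
  let e' := LinearEquiv.ofBijective e hF
  haveI := CurveRR24.isLocallyNoetherian_of_proper k (X := Γ.curve.left)
  have hfin : Module.Finite k M :=
    haveI := CurveRR24.finite_HH_of_isCoh k (CurveRR24.isCoh_quotMod Z) 0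
    Module.Finite.equiv (CurveRR24.hhZero k (ClSub.quotMod Z))
  rw [Models.lengthH, (CurveRR24.hhZero R (ClSub.quotMod J)).length_eq, e'.length_eq,
    Module.length_eq_of_surjective (R := k) (S := R) (M := M) IsLocalRing.residue_surjective,
    Module.length_eq_finrank, ENat.toNat_coe, (CurveRR24.hhZero k (ClSub.quotMod Z)).finrank_eq]

/-- The intersection number with an effective Cartier divisor not containing the curve is the length of
the intersection. -/
theorem inter_eq_lengthH {X : Over (Spec (CommRingCat.of R))} (Γ : ArSurf.VertComp R X)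
    [IsProper Γ.curve.hom] (D : X.left.IdealSheafData) (hD : BlowUp.IsEffCartierIdeal D)
    (hΓD : Γ.ι.base (genericPoint Γ.curve.left) ∉ (D.support : Set X.left))
    (L : X.left.Modules) (hL : ClSub.IsInverseOf L (ClSub.idealMod D)) :
    ArSurf.inter R X L Γ = (Models.lengthH R X (ClSub.quotMod (D ⊔ Γ.ι.ker)) 0 : ℤ) := by
  letI : Γ.curve.left.Over (Spec (CommRingCat.of (IsLocalRing.ResidueField R))) := ⟨Γ.curve.hom⟩
  haveI : IsProper (Γ.curve.left ↘ Spec (CommRingCat.of (IsLocalRing.ResidueField R))) :=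
    inferInstanceAs (IsProper Γ.curve.hom)
  rw [← map_comap_eq_sup Γ.ι D, lengthH_quotMod_map R Γ]
  exact curveDeg_inverse_eq _ Γ.dim_eq.le Γ.ι D hD hΓD hL

/-- That intersection number vanishes exactly when the divisor misses the curve. -/
theorem inter_eq_zero_iff {X : Over (Spec (CommRingCat.of R))} (Γ : ArSurf.VertComp R X)
    [IsProper Γ.curve.hom] (D : X.left.IdealSheafData) (hD : BlowUp.IsEffCartierIdeal D)
    (hΓD : Γ.ι.base (genericPoint Γ.curve.left) ∉ (D.support : Set X.left))
    (L : X.left.Modules) (hL : ClSub.IsInverseOf L (ClSub.idealMod D)) :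
    ArSurf.inter R X L Γ = 0 ↔ Disjoint (Set.range Γ.ι.base) (D.support : Set X.left) := by
  letI : Γ.curve.left.Over (Spec (CommRingCat.of (IsLocalRing.ResidueField R))) := ⟨Γ.curve.hom⟩
  haveI : IsProper (Γ.curve.left ↘ Spec (CommRingCat.of (IsLocalRing.ResidueField R))) :=
    inferInstanceAs (IsProper Γ.curve.hom)
  have h : ArSurf.inter R X L Γ = _ := curveDeg_inverse_eq _ Γ.dim_eq.le Γ.ι D hD hΓD hL
  have hsupp : Disjoint (Set.range Γ.ι.base) (D.support : Set X.left) ↔
      ((D.comap Γ.ι).support : Set Γ.curve.left) = ∅ := by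
    rw [Scheme.IdealSheafData.support_comap, Closeds.coe_preimage, Set.preimage_eq_empty_iff]
    exact disjoint_comm
  rw [h, Nat.cast_eq_zero, hsupp]
  refine ⟨support_eq_empty_of_finrank _ _, fun he => ?_⟩
  haveI := CurveRR24.isLocallyNoetherian_of_proper (IsLocalRing.ResidueField R) (X := Γ.curve.left)
  haveI : IsEmpty (D.comap Γ.ι).subscheme := ⟨fun z => by
    have hz : (D.comap Γ.ι).subschemeι z ∈ ((D.comap Γ.ι).support : Set Γ.curve.left) := by
      rw [← Scheme.IdealSheafData.range_subschemeι]; exact ⟨z, rfl⟩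
    rw [he] at hz; exact hz⟩
  haveI : Subsingleton Γ((D.comap Γ.ι).subscheme, ⊤) := by
    rw [show (⊤ : (D.comap Γ.ι).subscheme.Opens) = ⊥ from Opens.ext (Set.eq_empty_of_isEmpty _)]
    exact CommRingCat.subsingleton_of_isTerminal (D.comap Γ.ι).subscheme.sheaf.isTerminalOfEmpty
  haveI : Subsingleton (GA (baseHom (IsLocalRing.ResidueField R) Γ.curve.left)
      (ClSub.quotMod (D.comap Γ.ι))) :=
    inferInstanceAs (Subsingleton Γ((D.comap Γ.ι).subscheme, ⊤))
  rw [(CurveRR24.hhZero _ _).finrank_eq]
  exact Module.finrank_zero_of_subsingleton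

end Groth.Agent.Inters29
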