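import Groth.Agent.SDiv28.CartierPart
import Groth.Agent.CAlgH3.Factorial
import Mathlib.RingTheory.UniqueFactorizationDomain.Kaplansky

/-!
# Prime divisors on regular integral schemes are effective Cartier
-/

set_option autoImplicit false
set_option backward.isDefEq.respectTransparency false

universe u

open CategoryTheory AlgebraicGeometry TopologicalSpace IsLocalRing
open Groth.Agent.Misc15.DivDescent Groth.Agent.SDiv28.CartierPart

namespace Groth.Agent.Inters29

variable {X : Scheme.{u}}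

theorem fromSpecStalk_mem_support_iff (D : X.IdealSheafData) {x : X}
    (P : PrimeSpectrum (X.presheaf.stalk x)) :
    X.fromSpecStalk x P ∈ (D.support : Set X) ↔ stk D x ≤ P.asIdeal := by
  obtain ⟨_, ⟨U, hU, rfl⟩, hxU, -⟩ :=
    X.isBasis_affineOpens.exists_subset_of_mem_open (Set.mem_univ x) isOpen_univ
  have hxU' : x ∈ U := hxU
  rw [← hU.fromSpecStalk_eq_fromSpecStalk hxU', stk_eq D ⟨U, hU⟩ hxU, Ideal.map_le_iff_le_comap,
    IsAffineOpen.fromSpecStalk, Scheme.Hom.comp_apply]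
  let q := Spec.map (X.presheaf.germ U x hxU') P
  have hq : hU.fromSpec q ∈ U := hU.range_fromSpec.le ⟨q, rfl⟩
  show hU.fromSpec q ∈ D.support ↔ D.ideal ⟨U, hU⟩ ≤ q.asIdeal
  rw [Scheme.IdealSheafData.mem_support_iff_of_mem (U := ⟨U, hU⟩) hq, Scheme.mem_zeroLocus_iff]
  refine forall₂_congr fun a _ => ?_
  have h := SetLike.ext_iff.1 (hU.fromSpec_preimage_basicOpen a) q
  show hU.fromSpec q ∉ X.basicOpen a ↔ a ∈ q.asIdeal
  rw [show hU.fromSpec q ∈ X.basicOpen a ↔ q ∈ PrimeSpectrum.basicOpen a from h]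
  exact not_not

/-- The stalks of the ideal of an integral closed subscheme of codimension at most one are principal at
factorial points. -/
theorem isPrincipal_stk [IsIntegral X] (D : X.IdealSheafData) [IsIntegral D.subscheme]
    (hcod : Order.coheight (gen D) ≤ 1) (x : X) [UniqueFactorizationMonoid (X.presheaf.stalk x)] :
    (stk D x).IsPrincipal := by
  by_cases hx : x ∈ D.support
  swap
  · rw [stk_eq_top hx]
    exact ⟨1, Ideal.span_singleton_one.symm⟩
  haveI hP := isPrime_stk (D := D) hx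
  by_cases h0 : stk D x = ⊥
  · rw [h0]
    exact ⟨0, by simp⟩
  obtain ⟨p, hpP, hp⟩ := Ideal.IsPrime.exists_mem_prime_of_ne_bot hP h0
  haveI hp' : (Ideal.span {p}).IsPrime := (Ideal.span_singleton_prime hp.ne_zero).2 hp
  refine ⟨p, le_antisymm ?_ ((Ideal.span_singleton_le_iff_mem _).2 hpP)⟩
  by_contra hne
  let P : PrimeSpectrum (X.presheaf.stalk x) := ⟨stk D x, hP⟩
  let P₁ : PrimeSpectrum (X.presheaf.stalk x) := ⟨Ideal.span {p}, hp'⟩
  let P₀ : PrimeSpectrum (X.presheaf.stalk x) := ⟨⊥, Ideal.isPrime_bot⟩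
  have h01 : P₀ ≠ P₁ := fun h => hp.ne_zero (Ideal.span_singleton_eq_bot.1 (congrArg PrimeSpectrum.asIdeal h).symm)
  have h1P : P₁ ≠ P := fun h => hne (congrArg PrimeSpectrum.asIdeal h).ge
  have hle1 : P₁ ≤ P := (Ideal.span_singleton_le_iff_mem _).2 hpP
  let i := X.fromSpecStalk x
  have hinj : Function.Injective i := i.isEmbedding.injective
  have hgen : i P = gen D := by
    have hmem : i P ∈ (D.support : Set X) := (fromSpecStalk_mem_support_iff D P).2 le_rfl
    have hsp : gen D ⤳ x := (isGenericPoint_gen D).specializes hx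
    obtain ⟨Q, hP'⟩ : gen D ∈ Set.range i := Scheme.range_fromSpecStalk.ge hsp
    let P' : PrimeSpectrum (X.presheaf.stalk x) := Q
    have hle : P.asIdeal ≤ P'.asIdeal := (fromSpecStalk_mem_support_iff D P').1 (hP' ▸ (isGenericPoint_gen D).mem)
    have hge : P'.asIdeal ≤ P.asIdeal := by
      have h : i Q ⤳ i P := hP'.symm ▸ (isGenericPoint_gen D).specializes hmem
      exact (PrimeSpectrum.le_iff_specializes P' P).2 (i.isEmbedding.specializes_iff.1 h)
    rw [show P = P' from PrimeSpectrum.ext (le_antisymm hle hge)]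
    exact hP'
  have a := dim_add_one_le (((PrimeSpectrum.le_iff_specializes P₀ P₁).1 bot_le).map i.continuous)
    (hinj.ne h01)
  have b := dim_add_one_le (((PrimeSpectrum.le_iff_specializes P₁ P).1 hle1).map i.continuous)
    (hinj.ne h1P)
  rw [hgen] at b
  have : (2 : ℕ∞) ≤ 1 := le_trans (le_trans (by
    calc (2 : ℕ∞) = 0 + 1 + 1 := by norm_num
      _ ≤ Order.coheight (i P₀) + 1 + 1 := by gcongr; exact zero_le) (le_trans (add_le_add_left a 1) b)) hcod
  exact absurd this (by decide)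

/-- An ideal sheaf with principal nonzero stalks on an integral locally Noetherian scheme is effective
Cartier. -/
theorem isEffCartier_of_stk [IsIntegral X] [IsLocallyNoetherian X] (D : X.IdealSheafData)
    (h : ∀ x, (stk D x).IsPrincipal ∧ stk D x ≠ ⊥) : BlowUp.IsEffCartierIdeal D := by
  classical
  intro x
  obtain ⟨_, ⟨U, hU, rfl⟩, hxU, -⟩ :=
    X.isBasis_affineOpens.exists_subset_of_mem_open (Set.mem_univ x) isOpen_univ
  haveI : IsNoetherianRing Γ(X, U) := IsLocallyNoetherian.component_noetherian ⟨U, hU⟩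
  letI := X.presheaf.algebra_section_stalk (⟨x, hxU⟩ : U)
  haveI := hU.isLocalization_stalk ⟨x, hxU⟩
  let S := (hU.primeIdealOf ⟨x, hxU⟩).asIdeal.primeCompl
  let A := X.presheaf.stalk x
  have hstk : stk D x = (D.ideal ⟨U, hU⟩).map (algebraMap Γ(X, U) A) := stk_eq D ⟨U, hU⟩ hxU
  obtain ⟨⟨g, hg⟩, hne⟩ := h x
  have hg' : g ∈ (D.ideal ⟨U, hU⟩).map (algebraMap Γ(X, U) A) :=
    hstk ▸ hg ▸ Submodule.mem_span_singleton_self g
  obtain ⟨⟨⟨c, hc⟩, s⟩, hcs⟩ := (IsLocalization.mem_map_algebraMap_iff S A).1 hg'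
  have key : ∀ a ∈ D.ideal ⟨U, hU⟩, ∃ t : S, (t : Γ(X, U)) * a ∈ Ideal.span {c} := by
    intro a ha
    have : algebraMap Γ(X, U) A a ∈ Ideal.span {g} := by
      have := Ideal.mem_map_of_mem (algebraMap Γ(X, U) A) ha
      rw [← hstk, hg] at this
      exact this
    obtain ⟨r, hr⟩ := Ideal.mem_span_singleton'.1 this
    have hmem : algebraMap Γ(X, U) A a ∈ (Ideal.span {c}).map (algebraMap Γ(X, U) A) := by
      rw [← hr, Ideal.map_span, Set.image_singleton]
      refine Ideal.mul_mem_left _ _ ((Ideal.mul_unit_mem_iff_mem _ (IsLocalization.map_units A s)).1 ?_)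
      rw [hcs]; exact Ideal.mem_span_singleton_self _
    obtain ⟨⟨⟨b, hb⟩, t⟩, hbt⟩ := (IsLocalization.mem_map_algebraMap_iff S A).1 hmem
    obtain ⟨v, hv⟩ := (IsLocalization.eq_iff_exists S A).1 (show algebraMap Γ(X, U) A (a * t) = algebraMap _ A b by
      rw [map_mul]; exact hbt)
    refine ⟨v * t, ?_⟩
    rw [Submonoid.coe_mul, mul_assoc, mul_comm (t : Γ(X, U)) a, hv]
    exact Ideal.mul_mem_left _ _ hb
  obtain ⟨T, hT⟩ := IsNoetherian.noetherian (D.ideal ⟨U, hU⟩)
  have hTmem : ∀ a ∈ T, a ∈ D.ideal ⟨U, hU⟩ := fun a ha => hT ▸ Submodule.subset_span ha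
  choose t ht using fun a : T => key a.1 (hTmem a.1 a.2)
  let f : Γ(X, U) := ((∏ a : T, t a : S) : Γ(X, U))
  have hfs : f ∈ S := (∏ a : T, t a : S).2
  let V : X.affineOpens := ⟨X.basicOpen f, hU.basicOpen f⟩
  have hxV : x ∈ V.1 := (X.mem_basicOpen f x hxU).2 (IsLocalization.map_units A (⟨f, hfs⟩ : S))
  have hVU : V.1 ≤ U := X.basicOpen_le f
  let ρ : Γ(X, U) →+* Γ(X, V.1) := (X.presheaf.map (homOfLE hVU).op).hom
  have hfu : IsUnit (ρ f) := RingedSpace.isUnit_res_basicOpen X.toRingedSpace f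
  have hideal : D.ideal V = Ideal.span {ρ c} := by
    rw [← D.map_ideal (U := V) (V := ⟨U, hU⟩) hVU, ← hT, ← Ideal.span, Ideal.map_span]
    refine le_antisymm (Ideal.span_le.2 ?_) ((Ideal.span_singleton_le_iff_mem _).2 ?_)
    · rintro _ ⟨a, ha, rfl⟩
      have h1 : ρ ((t ⟨a, ha⟩ : Γ(X, U)) * a) ∈ Ideal.span {ρ c} := by
        rw [← Set.image_singleton, ← Ideal.map_span]
        exact Ideal.mem_map_of_mem ρ (ht ⟨a, ha⟩)
      rw [map_mul] at h1
      have hu : IsUnit (ρ (t ⟨a, ha⟩ : Γ(X, U))) := isUnit_of_dvd_unit (map_dvd ρ (by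
        show (t ⟨a, ha⟩ : Γ(X, U)) ∣ ((∏ b : T, t b : S) : Γ(X, U))
        rw [Submonoid.coe_finset_prod]
        exact Finset.dvd_prod_of_mem (fun b : T => (t b : Γ(X, U))) (Finset.mem_univ _))) hfu
      exact (Ideal.unit_mul_mem_iff_mem _ hu).1 h1
    · rw [← Ideal.map_span]
      exact Ideal.mem_map_of_mem _ (hT.ge hc)
  haveI : Nonempty V.1 := ⟨⟨x, hxV⟩⟩
  refine ⟨V, hxV, ρ c, mem_nonZeroDivisors_of_ne_zero fun h0 => hne ?_, hideal⟩
  rw [stk_eq D V hxV, hideal, h0, Ideal.span_singleton_eq_bot.2 rfl, Ideal.map_bot]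

/-- A prime divisor on a regular integral locally Noetherian scheme is effective Cartier. -/
theorem isEffCartier_of_coheight_one [IsIntegral X] [IsLocallyNoetherian X]
    (hreg : ∀ x : X, IsRegularLocalRing (X.presheaf.stalk x)) (D : X.IdealSheafData)
    [IsIntegral D.subscheme] (hcod : Order.coheight (gen D) ≤ 1) (hne : gen D ≠ genericPoint X) :
    BlowUp.IsEffCartierIdeal D := by
  refine isEffCartier_of_stk D fun x => ?_
  haveI := hreg x
  haveI := CAlgH3.ufm_of_regular (X.presheaf.stalk x)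
  refine ⟨isPrincipal_stk D hcod x, fun h0 => hne ?_⟩
  have hmem : X.fromSpecStalk x ⟨⊥, Ideal.isPrime_bot⟩ ∈ (D.support : Set X) :=
    (fromSpecStalk_mem_support_iff D _).2 h0.le
  have hη : genericPoint X ⤳ x := (genericPoint_spec X).specializes trivial
  obtain ⟨P', hP'⟩ : genericPoint X ∈ Set.range (X.fromSpecStalk x) := Scheme.range_fromSpecStalk.ge hη
  have h1 : (⟨⊥, Ideal.isPrime_bot⟩ : PrimeSpectrum (X.presheaf.stalk x)) ⤳ P' :=
    (PrimeSpectrum.le_iff_specializes _ _).1 bot_le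
  have h2 : genericPoint X ∈ (D.support : Set X) :=
    hP' ▸ (h1.map (X.fromSpecStalk x).continuous).mem_closed D.support.isClosed hmem
  exact (((genericPoint_spec X).specializes trivial).antisymm ((isGenericPoint_gen D).specializes h2)).eq.symm

end Groth.Agent.Inters29
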