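import Groth.Prelude.Def_Omega2
import Groth.Agent.Inters29.Length
import Groth.Agent.Inters29.PrimeDiv
import Groth.Agent.WeilLib.Cycles
import Groth.Agent.CurvesLib24.Basic
import Mathlib.AlgebraicGeometry.Morphisms.UniversallyOpen

/-!
# Vertical components of a regular surface over a discrete valuation ring
-/

set_option autoImplicit false
set_option linter.style.haveILetI false
set_option backward.isDefEq.respectTransparency false

universe u

open CategoryTheory CategoryTheory.Limits AlgebraicGeometry TopologicalSpace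

namespace Groth.Agent.Inters29

variable (R : Type u) [CommRing R] [IsDomain R] [IsDiscreteValuationRing R]
variable {X : Over (Spec (CommRingCat.of R))}

/-- An arithmetic surface is proper over the base. -/
theorem isProper_of_isArithSurface (hX : ArSurf.IsArithSurface R X) : IsProper X.hom := by
  obtain ⟨-, -, -, -, n, i, hi, hw⟩ := hX
  haveI := hi
  haveI := WeilLib.isProper_toBase n (Spec (CommRingCat.of R))
  rw [← hw]; infer_instance

/-- An arithmetic surface is locally Noetherian. -/
theorem isLocallyNoetherian_of_isProper [IsProper X.hom] : IsLocallyNoetherian X.left :=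
  LocallyOfFiniteType.isLocallyNoetherian X.hom

/-- Vertical components are proper curves. -/
theorem isProper_curve [IsProper X.hom] (Γ : ArSurf.VertComp R X) : IsProper Γ.curve.hom := by
  haveI : IsClosedImmersion (Spec.map (CommRingCat.ofHom (IsLocalRing.residue R))) :=
    IsClosedImmersion.spec_of_surjective _ IsLocalRing.residue_surjective
  haveI : IsProper (Γ.curve.hom ≫ Spec.map (CommRingCat.ofHom (IsLocalRing.residue R))) := by
    rw [← Γ.w]; infer_instance
  exact IsProper.of_comp _ (Spec.map (CommRingCat.ofHom (IsLocalRing.residue R)))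

/-- A vertical component lies over the closed point. -/
theorem hom_ι_eq (Γ : ArSurf.VertComp R X) (y : Γ.curve.left) :
    X.hom (Γ.ι y) = IsLocalRing.closedPoint R := by
  rw [← Scheme.Hom.comp_apply, Γ.w, Scheme.Hom.comp_apply, Subsingleton.elim (Γ.curve.hom y)
    (IsLocalRing.closedPoint (IsLocalRing.ResidueField R))]
  exact IsLocalRing.comap_closedPoint (IsLocalRing.residue R)

instance (Γ : ArSurf.VertComp R X) : IsIntegral Γ.ι.ker.subscheme :=
  haveI : IsIso Γ.ι.toImage := inferInstance
  haveI : Nonempty Γ.ι.ker.subscheme := ⟨Γ.ι.toImage (genericPoint Γ.curve.left)⟩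
  isIntegral_of_isOpenImmersion (inv Γ.ι.toImage)

/-- The generic point of a vertical component. -/
theorem gen_ker (Γ : ArSurf.VertComp R X) :
    SDiv28.CartierPart.gen Γ.ι.ker = Γ.ι (genericPoint Γ.curve.left) := by
  refine (SDiv28.CartierPart.isGenericPoint_gen Γ.ι.ker).eq ?_
  rw [Scheme.Hom.support_ker, Γ.ι.isClosedEmbedding.isClosed_range.closure_eq]
  have h := (genericPoint_spec Γ.curve.left).image Γ.ι.continuous
  rwa [Set.image_univ, Γ.ι.isClosedEmbedding.isClosed_range.closure_eq] at h

theorem support_ker_eq (Γ : ArSurf.VertComp R X) :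
    (Γ.ι.ker.support : Set X.left) = Set.range Γ.ι.base := by
  rw [Scheme.Hom.support_ker, Γ.ι.isClosedEmbedding.isClosed_range.closure_eq]

/-- A vertical component has a point besides its generic point. -/
theorem exists_ne_genericPoint (Γ : ArSurf.VertComp R X) :
    ∃ y : Γ.curve.left, y ≠ genericPoint Γ.curve.left := by
  by_contra h
  push Not at h
  haveI : Subsingleton Γ.curve.left := ⟨fun a b => (h a).trans (h b).symm⟩
  have hdim := Γ.dim_eq
  have hle : topologicalKrullDim Γ.curve.left ≤ 0 := Order.krullDim_nonpos_iff_forall_isMax.2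
    fun a b _ => le_of_eq (IrreducibleCloseds.ext (by
      rw [Subsingleton.eq_univ_of_nonempty a.isIrreducible.nonempty,
        Subsingleton.eq_univ_of_nonempty b.isIrreducible.nonempty]))
  rw [hdim] at hle
  exact absurd hle (by decide)

/-- A vertical component is not the whole surface. -/
theorem gen_ne_genericPoint [IsIntegral X.left] [Flat X.hom] (Γ : ArSurf.VertComp R X) :
    Γ.ι (genericPoint Γ.curve.left) ≠ genericPoint X.left := by
  intro hη
  let bot : Spec (CommRingCat.of R) := (⟨⊥, Ideal.isPrime_bot⟩ : PrimeSpectrum R)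
  have hsp : bot ⤳ X.hom (Γ.ι (genericPoint Γ.curve.left)) :=
    (PrimeSpectrum.le_iff_specializes _ _).1 bot_le
  obtain ⟨y, hy, hfy⟩ := Flat.generalizingMap X.hom hsp
  have h := ((genericPoint_spec X.left).specializes (Set.mem_univ y)).map X.hom.continuous
  rw [hfy, ← hη, hom_ι_eq] at h
  have h' : IsLocalRing.maximalIdeal R ≤ ⊥ :=
    (PrimeSpectrum.le_iff_specializes (IsLocalRing.closedPoint R) (⟨⊥, Ideal.isPrime_bot⟩ : PrimeSpectrum R)).2 h
  exact IsDiscreteValuationRing.not_a_field R (le_bot_iff.1 h')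

/-- Vertical components of a regular flat integral surface are effective Cartier divisors. -/
theorem isEffCartier_comp [IsIntegral X.left] [IsLocallyNoetherian X.left] [Flat X.hom]
    (hreg : ∀ x : X.left, IsRegularLocalRing (X.left.presheaf.stalk x))
    (hdim : topologicalKrullDim X.left ≤ 2) (Γ : ArSurf.VertComp R X) :
    BlowUp.IsEffCartierIdeal Γ.ι.ker := by
  refine isEffCartier_of_coheight_one hreg _ ?_ ?_
  · rw [gen_ker]
    obtain ⟨y, hy⟩ := exists_ne_genericPoint R Γ
    have h1 := SDiv28.CartierPart.dim_add_one_le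
      (((genericPoint_spec Γ.curve.left).specializes (Set.mem_univ y)).map Γ.ι.continuous)
      (Γ.ι.isClosedEmbedding.injective.ne hy.symm)
    have h2 := (CurvesLib24.stalk_dim_le_topologicalKrullDim (Γ.ι y)).trans hdim
    rw [ringKrullDim_stalk_eq_coheight] at h2
    have h2' : Order.coheight (Γ.ι y) ≤ (2 : ℕ∞) := WithBot.coe_le_coe.1 h2
    have h3 := h1.trans h2'
    exact (ENat.add_le_add_iff_right ENat.one_ne_top).1 (h3.trans_eq (by norm_num))
  · rw [gen_ker]
    exact gen_ne_genericPoint R Γ

/-- The generic point of a vertical component lies in another one only if they coincide. -/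
theorem genericPoint_notMem (Γ₁ Γ₂ : ArSurf.VertComp R X) [IsIntegral X.left] [IsLocallyNoetherian X.left]
    [Flat X.hom] (hreg : ∀ x : X.left, IsRegularLocalRing (X.left.presheaf.stalk x))
    (hdim : topologicalKrullDim X.left ≤ 2) (hne : Set.range Γ₁.ι.base ≠ Set.range Γ₂.ι.base) :
    Γ₁.ι (genericPoint Γ₁.curve.left) ∉ (Γ₂.ι.ker.support : Set X.left) := by
  intro hmem
  refine hne ?_
  have hD₂ := isEffCartier_comp R hreg hdim Γ₂
  have hD₁ := isEffCartier_comp R hreg hdim Γ₁
  have hgen := SDiv28.CartierPart.eq_gen_of_coheight_le hD₂ hmem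
    (by rw [← gen_ker]; exact (SDiv28.CartierPart.coheight_gen hD₁).le)
  have g1 := SDiv28.CartierPart.isGenericPoint_gen Γ₁.ι.ker
  have g2 := SDiv28.CartierPart.isGenericPoint_gen Γ₂.ι.ker
  rw [← gen_ker] at hgen
  rw [hgen] at g1
  exact (support_ker_eq R Γ₁).symm.trans ((g1.def.symm.trans g2.def).trans (support_ker_eq R Γ₂))

open Groth.Agent.Coherent Groth.Agent.PicLib Groth.Agent.AmpleLib Groth.Agent.EulerLib in
/-- The self-intersection is minus the degree of the conormal sheaf. -/
theorem inter_self_eq (Γ : ArSurf.VertComp R X) [IsProper Γ.curve.hom]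
    (hΓ : BlowUp.IsEffCartierIdeal Γ.ι.ker) (L : X.left.Modules)
    (hL : ClSub.IsInverseOf L (ClSub.idealMod Γ.ι.ker)) :
    ArSurf.inter R X L Γ =
      - ArSurf.curveDeg (IsLocalRing.ResidueField R) Γ.curve.left (Omega.conormal Γ.ι) := by
  letI : Γ.curve.left.Over (Spec (CommRingCat.of (IsLocalRing.ResidueField R))) := ⟨Γ.curve.hom⟩
  haveI : IsProper (Γ.curve.left ↘ Spec (CommRingCat.of (IsLocalRing.ResidueField R))) :=
    inferInstanceAs (IsProper Γ.curve.hom)
  obtain ⟨e⟩ := hL
  have hI := FlatMor12.IdealModGen.isInvertible_idealMod Γ.ι.ker hΓ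
  have hLi : PicF.IsInvertible L := PicM.isInvertible_of_tensor hI
    (glocus_isInvertible_of_iso (tensorComm _ _ ≪≫ e).symm isInvertible_structureModule)
  have hLY := PicLoc.isInvertible_pullback Γ.ι hLi
  have hIY : PicF.IsInvertible (Omega.conormal Γ.ι) := PicLoc.isInvertible_pullback Γ.ι hI
  obtain ⟨eT⟩ := exists_pullTensorIso Γ.ι hLi hI
  obtain ⟨eU⟩ := exists_pullStructureIso Γ.ι
  show ArSurf.curveDeg _ _ _ = _
  rw [curveDeg_eq_deg _ Γ.dim_eq.le hLY, curveDeg_eq_deg _ Γ.dim_eq.le hIY,
    deg_inverse _ Γ.dim_eq.le hIY hLY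
      (tensorComm _ _ ≪≫ eT.symm ≪≫ (Scheme.Modules.pullback Γ.ι).mapIso e ≪≫ eU)]

end Groth.Agent.Inters29
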