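import Groth.Agent.Inters29.PullIdeal
import Groth.Agent.CurveRR24.Degree
import Groth.Agent.CurveRR24.RR
import Groth.Agent.EulerLib.FGABridge
import Groth.Agent.PicLib.PicMonoid
import Groth.Prelude.Def_ArSurf

/-!
# The degree of an effective Cartier divisor on a curve
-/

set_option autoImplicit false
set_option linter.style.haveILetI false
set_option backward.isDefEq.respectTransparency.types false

universe u

open CategoryTheory CategoryTheory.Limits AlgebraicGeometry Opposite TopologicalSpace
open Groth.Agent.Coherent Groth.Agent.PicLib Groth.Agent.AmpleLib Groth.Agent.EulerLib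

namespace Groth.Agent.Inters29

variable {X Y : Scheme.{u}}

/-- A nonempty open of an integral scheme is scheme-theoretically dense. -/
theorem isDenseOpen_of_mem [IsIntegral Y] {U : Y.Opens} (h : genericPoint Y ∈ U) :
    ModPairLib.IsDenseOpen U := fun W s hs => by
  by_cases hW : (W : Set Y).Nonempty
  · obtain ⟨w, hw⟩ := hW
    haveI : Nonempty (W : Y.Opens) := ⟨⟨w, hw⟩⟩
    have hη : genericPoint Y ∈ W :=
      ((genericPoint_spec Y).mem_open_set_iff W.2).2 ⟨w, trivial, hw⟩
    apply germ_injective_of_isIntegral Y (genericPoint Y) hη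
    rw [map_zero, ← TopCat.Presheaf.germ_res_apply Y.presheaf (homOfLE (inf_le_left : W ⊓ U ≤ W))
      (genericPoint Y) ⟨hη, h⟩ s]
    exact (congrArg (Y.presheaf.germ (W ⊓ U) (genericPoint Y) ⟨hη, h⟩) hs).trans (map_zero _)
  · have : W = ⊥ := Opens.ext (Set.not_nonempty_iff_eq_empty.1 hW)
    subst this
    exact (CommRingCat.subsingleton_of_isTerminal Y.sheaf.isTerminalOfEmpty).elim _ _

/-- The pullback of an effective Cartier divisor to an integral scheme not inside it is effective
Cartier. -/
theorem isEffCartier_comap_of_generic [IsIntegral Y] (j : Y ⟶ X) (I : X.IdealSheafData)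
    (hI : BlowUp.IsEffCartierIdeal I) (hj : j (genericPoint Y) ∉ (I.support : Set X)) :
    BlowUp.IsEffCartierIdeal (I.comap j) :=
  ModPairLib.isEffCartier_comap_of_dense hI j (isDenseOpen_of_mem hj)

section Curve

variable (k : Type u) [Field k] [Y.Over (Spec (CommRingCat.of k))]
  [IsProper (Y ↘ Spec (CommRingCat.of k))]

/-- `ArSurf.curveDeg` of an invertible module is the degree. -/
theorem curveDeg_eq_deg (hdim : topologicalKrullDim Y ≤ 1) {M : Y.Modules} (hM : PicF.IsInvertible M) :
    ArSurf.curveDeg k Y M = Curv2.deg k Y M 1 := by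
  haveI := isNoetherian_of_proper (X := Y) k
  rw [ArSurf.curveDeg, eulerCharLE_eq k _ (CurveRR24.isCoh_of_isInvertible k hM).1 hdim,
    eulerCharLE_eq k _ (isCoh_structureModule Y).1 hdim, Curv2.deg, Nat.cast_one, one_mul]

/-- The degree of a tensor inverse. -/
theorem deg_inverse (hdim : topologicalKrullDim Y ≤ 1) {L M : Y.Modules} (hL : PicF.IsInvertible L)
    (hM : PicF.IsInvertible M) (e : CohB1.tensorMod L M ≅ Coh.structureModule Y) :
    Curv2.deg k Y M 1 = - Curv2.deg k Y L 1 := by
  have h := CurveRR24.deg_tensor k hdim hL hM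
  rw [CurveRR24.deg_congr k e, CurveRR24.deg_structure] at h
  omega

variable [IsIntegral Y]

/-- The degree of an invertible ideal is minus the length of the subscheme it defines. -/
theorem deg_idealMod (hdim : topologicalKrullDim Y ≤ 1) (Z : Y.IdealSheafData)
    (hη : genericPoint Y ∉ (Z.support : Set Y)) :
    Curv2.deg k Y (ClSub.idealMod Z) 1 = - (Module.finrank k (Coh.HH Y (ClSub.quotMod Z) 0) : ℤ) := by
  have h := CurveRR24.euler_idealTwist k hdim Z hη (L := Coh.structureModule Y)
    isInvertible_structureModule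
  rw [euler_congr k Y (tensorComm (ClSub.idealMod Z) (Coh.structureModule Y) ≪≫
    unitTensorIso (ClSub.idealMod Z))] at h
  simp only [Curv2.deg, Nat.cast_one, one_mul]
  omega

/-- The degree of `O(D)` restricted to a curve not in `D`. -/
theorem curveDeg_inverse_eq (hdim : topologicalKrullDim Y ≤ 1) (j : Y ⟶ X) (I : X.IdealSheafData)
    (hI : BlowUp.IsEffCartierIdeal I) (hj : j (genericPoint Y) ∉ (I.support : Set X))
    {L : X.Modules} (hL : ClSub.IsInverseOf L (ClSub.idealMod I)) :
    ArSurf.curveDeg k Y ((Scheme.Modules.pullback j).obj L) =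
      (Module.finrank k (Coh.HH Y (ClSub.quotMod (I.comap j)) 0) : ℤ) := by
  obtain ⟨e⟩ := hL
  have hIi := FlatMor12.IdealModGen.isInvertible_idealMod I hI
  have hLi : PicF.IsInvertible L := PicM.isInvertible_of_tensor hIi
    (glocus_isInvertible_of_iso (tensorComm _ _ ≪≫ e).symm isInvertible_structureModule)
  have hI' := isEffCartier_comap_of_generic j I hI hj
  have hη : genericPoint Y ∉ ((I.comap j).support : Set Y) := by
    rw [Scheme.IdealSheafData.support_comap]; exact hj
  obtain ⟨eI⟩ := nonempty_pullback_idealMod_iso j I hI hI'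
  have hLY := PicLoc.isInvertible_pullback j hLi
  have hIY := FlatMor12.IdealModGen.isInvertible_idealMod _ hI'
  obtain ⟨eT⟩ := exists_pullTensorIso j hLi hIi
  obtain ⟨eU⟩ := exists_pullStructureIso j
  have e2 : CohB1.tensorMod (ClSub.idealMod (I.comap j)) ((Scheme.Modules.pullback j).obj L) ≅
      Coh.structureModule Y :=
    tensorIso eI.symm (Iso.refl _) ≪≫ tensorComm _ _ ≪≫ eT.symm ≪≫
      (Scheme.Modules.pullback j).mapIso e ≪≫ eU
  rw [curveDeg_eq_deg k hdim hLY, deg_inverse k hdim hIY hLY e2, deg_idealMod k hdim _ hη, neg_neg]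

omit [IsIntegral Y] in
/-- The length of a closed subscheme is zero only if it is empty. -/
theorem support_eq_empty_of_finrank (Z : Y.IdealSheafData)
    (h : Module.finrank k (Coh.HH Y (ClSub.quotMod Z) 0) = 0) : (Z.support : Set Y) = ∅ := by
  haveI := isNoetherian_of_proper (X := Y) k
  haveI := CurveRR24.finite_HH_of_isCoh k (CurveRR24.isCoh_quotMod Z) 0
  haveI : Subsingleton (Coh.HH Y (ClSub.quotMod Z) 0) := Module.finrank_zero_iff.1 h
  haveI : Subsingleton (GA (baseHom k Y) (ClSub.quotMod Z)) :=
    (CurveRR24.hhZero k _).symm.toEquiv.subsingleton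
  haveI : Subsingleton Γ(Z.subscheme, ⊤) :=
    (inferInstance : Subsingleton (GA (baseHom k Y) (ClSub.quotMod Z)))
  rw [← Scheme.IdealSheafData.range_subschemeι]
  refine Set.range_eq_empty_iff.2 ⟨fun z => ?_⟩
  exact one_ne_zero (α := Z.subscheme.presheaf.stalk z)
    (by rw [← map_one (Z.subscheme.presheaf.germ ⊤ z trivial).hom, Subsingleton.elim (1 : Γ(Z.subscheme, ⊤)) 0,
      map_zero])

end Curve

end Groth.Agent.Inters29
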