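import Groth.Agent.ModPairLib.EffCartier
import Groth.Agent.FlatMor12.IdealModGen
import Groth.Agent.AmpleLib.FTIdeal
import Groth.Agent.AmpleLib.Power
import Groth.Agent.PicLib.PicMonoid

/-!
# Classes of effective Cartier ideals
-/

set_option autoImplicit false
set_option backward.isDefEq.respectTransparency.types false

universe u

open CategoryTheory CategoryTheory.Limits AlgebraicGeometry Opposite TopologicalSpace
open Groth.Agent.Coherent Groth.Agent.PicLib Groth.Agent.AmpleLib

namespace Groth.Agent.Inters29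

variable {X : Scheme.{u}}

/-- A local generator of the ideal of an effective Cartier divisor. -/
theorem exists_gen_idealMod (I : X.IdealSheafData) (V : X.affineOpens) {f : Γ(X, V.1)}
    (hf : f ∈ nonZeroDivisors Γ(X, V.1)) (hspan : I.ideal V = Ideal.span {f}) :
    ∃ k : Γ(ClSub.idealMod I, V.1), IsGen (ClSub.idealMod I) V.1 k ∧
      (ClSub.idealModι I).app V.1 k = f := by
  obtain ⟨k, hk⟩ := (AmpleLib.mem_range_idealModι I V.1 f).2 (RingHom.mem_ker.1
    ((I.ker_subschemeι_app V).symm ▸ hspan.ge (Ideal.mem_span_singleton_self f)))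
  exact ⟨k, FlatMor12.IdealModGen.bijective_smul_of_affine_gen I V.2 hk
    (isRegular_iff_mem_nonZeroDivisors.2 hf).left hspan, hk⟩

/-- The ideal of a sum of effective Cartier divisors is the tensor product. -/
theorem nonempty_mul_iso (I J : X.IdealSheafData) (hI : BlowUp.IsEffCartierIdeal I)
    (hJ : BlowUp.IsEffCartierIdeal J) :
    Nonempty (CohB1.tensorMod (ClSub.idealMod I) (ClSub.idealMod J) ≅ ClSub.idealMod (I * J)) := by
  let ψ : CohB1.tensorMod (ClSub.idealMod I) (ClSub.idealMod J) ⟶ Coh.structureModule X :=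
    twistMul I (ClSub.idealMod J) ≫ ClSub.idealModι J
  have hloc : ∀ x : X, ∃ (V : X.Opens) (t : Γ(CohB1.tensorMod (ClSub.idealMod I) (ClSub.idealMod J), V))
      (k' : Γ(ClSub.idealMod (I * J), V)), x ∈ V ∧ IsGen _ V t ∧ IsGen (ClSub.idealMod (I * J)) V k' ∧
        (ClSub.idealModι (I * J)).app V k' = ψ.app V t := by
    intro x
    obtain ⟨U, hxU, f, hf, hfI⟩ := hI x
    obtain ⟨V, hxV, hVU, g, hg, hgJ⟩ := ModPairLib.exists_local hJ x U.1 hxU
    let f' : Γ(X, V.1) := PicLib.res hVU f
    have hf' : f' ∈ nonZeroDivisors Γ(X, V.1) := ModPairLib.res_mem_nonZeroDivisors hVU hf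
    have hfI' : I.ideal V = Ideal.span {f'} := ModPairLib.ideal_restrict I hVU hfI
    obtain ⟨k, hk, hkf⟩ := exists_gen_idealMod I V hf' hfI'
    obtain ⟨l, hl, hlg⟩ := exists_gen_idealMod J V hg hgJ
    have hfg : (I * J).ideal V = Ideal.span {f' * g} := by
      rw [Scheme.IdealSheafData.ideal_mul, Pi.mul_apply, hfI', hgJ, Ideal.span_singleton_mul_span_singleton]
    obtain ⟨k', hk', hk'f⟩ := exists_gen_idealMod (I * J) V (mul_mem hf' hg) hfg
    refine ⟨V.1, tmul k l, k', hxV, isGen_tmul hk hl, hk', ?_⟩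
    rw [hk'f]
    show f' * g = (ClSub.idealModι J).app V.1 ((twistMul I (ClSub.idealMod J)).app V.1 (tmul k l))
    rw [twistMul_tmul, Scheme.Modules.Hom.app_smul, hkf, hlg]
    rfl
  choose V t k' hxV ht hk' hψk using hloc
  haveI := AmpleLib.mono_idealModι (I * J)
  obtain ⟨e, -⟩ := AmpleLib.exists_iso_of_gens V
    (top_le_iff.1 fun y _ => Opens.mem_iSup.2 ⟨y, hxV y⟩) t ht k' hk' (fun a b W ha hb c hc => by
      apply Coherent.app_injective_of_mono (ClSub.idealModι (I * J)) W
      rw [Scheme.Modules.Hom.app_smul, app_resM, app_resM, hψk, hψk, ← app_resM, ← app_resM,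
        ← Scheme.Modules.Hom.app_smul, hc])
  exact ⟨e⟩

/-- A principal ideal with a regular global generator is trivial as a module. -/
theorem nonempty_iso_of_principal (I : X.IdealSheafData) (s : Γ(X, ⊤))
    (hI : ∀ U : X.affineOpens, I.ideal U = Ideal.span {PicLib.res le_top s} ∧
      PicLib.res (le_top : U.1 ≤ ⊤) s ∈ nonZeroDivisors Γ(X, U.1)) :
    Nonempty (ClSub.idealMod I ≅ Coh.structureModule X) := by
  choose k hk hkf using fun U : X.affineOpens => exists_gen_idealMod I U (hI U).2 (hI U).1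
  haveI := AmpleLib.mono_idealModι I
  obtain ⟨e, -⟩ := AmpleLib.exists_iso_of_gens (fun U : X.affineOpens => U.1)
    (iSup_affineOpens_eq_top X) k hk (fun U => oneSec U.1) (fun U => isGen_oneSec _) (fun a b W ha hb c hc => by
      have hab : resM (ClSub.idealMod I) ha (k a) = resM (ClSub.idealMod I) hb (k b) := by
        apply Coherent.app_injective_of_mono (ClSub.idealModι I) W
        rw [app_resM, app_resM, hkf, hkf]
        exact (PicLib.res_res _ _ s).trans (PicLib.res_res _ _ s).symm
      have h1 : c = 1 := ((hk b) W hb).1 (by simp only [one_smul]; rw [← hc, hab])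
      rw [h1, one_smul, resM_oneSec, resM_oneSec])
  exact ⟨e⟩

theorem isEffCartier_one : BlowUp.IsEffCartierIdeal (1 : X.IdealSheafData) := by
  intro x
  obtain ⟨_, ⟨U, hU, rfl⟩, hxU, -⟩ :=
    X.isBasis_affineOpens.exists_subset_of_mem_open (Set.mem_univ x) isOpen_univ
  exact ⟨⟨U, hU⟩, hxU, 1, Submonoid.one_mem _, by
    rw [Scheme.IdealSheafData.one_eq_top, Scheme.IdealSheafData.ideal_top, Pi.top_apply, Ideal.span_singleton_one]⟩

/-- The class of an effective Cartier ideal. -/
noncomputable def idealCl (I : X.IdealSheafData) (hI : BlowUp.IsEffCartierIdeal I) : PicM X :=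
  PicM.of (FlatMor12.IdealModGen.isInvertible_idealMod I hI)

theorem idealCl_mul (I J : X.IdealSheafData) (hI : BlowUp.IsEffCartierIdeal I)
    (hJ : BlowUp.IsEffCartierIdeal J) :
    idealCl (I * J) (ModPairLib.isEffCartier_mul hI hJ) = idealCl I hI * idealCl J hJ := by
  rw [idealCl, idealCl, idealCl, PicM.of_mul, PicM.of_eq_iff]
  exact (nonempty_mul_iso I J hI hJ).map Iso.symm

theorem idealCl_one : idealCl (1 : X.IdealSheafData) isEffCartier_one = 1 := by
  refine (PicM.of_eq_one_iff _).2 (nonempty_iso_of_principal _ 1 fun U => ?_)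
  rw [map_one, Ideal.span_singleton_one, Scheme.IdealSheafData.one_eq_top, Scheme.IdealSheafData.ideal_top,
    Pi.top_apply]
  exact ⟨rfl, Submonoid.one_mem _⟩

theorem isEffCartier_pow {I : X.IdealSheafData} (hI : BlowUp.IsEffCartierIdeal I) :
    ∀ n : ℕ, BlowUp.IsEffCartierIdeal (I ^ n)
  | 0 => by rw [pow_zero]; exact isEffCartier_one
  | n + 1 => by rw [pow_succ]; exact ModPairLib.isEffCartier_mul (isEffCartier_pow hI n) hI

theorem idealCl_congr {I J : X.IdealSheafData} (h : I = J) (hI : BlowUp.IsEffCartierIdeal I)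
    (hJ : BlowUp.IsEffCartierIdeal J) : idealCl I hI = idealCl J hJ := by subst h; rfl

theorem idealCl_pow {I : X.IdealSheafData} (hI : BlowUp.IsEffCartierIdeal I) :
    ∀ n : ℕ, idealCl (I ^ n) (isEffCartier_pow hI n) = idealCl I hI ^ n
  | 0 => ((idealCl_congr (pow_zero I) _ isEffCartier_one).trans idealCl_one).trans (pow_zero _).symm
  | n + 1 =>
    (idealCl_congr (pow_succ I n) _ (ModPairLib.isEffCartier_mul (isEffCartier_pow hI n) hI)).trans
      ((idealCl_mul _ _ (isEffCartier_pow hI n) hI).trans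
        ((congrArg (· * idealCl I hI) (idealCl_pow hI n)).trans (pow_succ _ n).symm))

theorem isEffCartier_prod {ι : Type*} (s : Finset ι) (I : ι → X.IdealSheafData)
    (hI : ∀ i, BlowUp.IsEffCartierIdeal (I i)) : BlowUp.IsEffCartierIdeal (∏ i ∈ s, I i) :=
  Finset.prod_induction I BlowUp.IsEffCartierIdeal (fun _ _ => ModPairLib.isEffCartier_mul)
    isEffCartier_one fun i _ => hI i

theorem idealCl_prod {ι : Type*} (s : Finset ι) (I : ι → X.IdealSheafData)
    (hI : ∀ i, BlowUp.IsEffCartierIdeal (I i)) :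
    idealCl (∏ i ∈ s, I i) (isEffCartier_prod s I hI) = ∏ i ∈ s, idealCl (I i) (hI i) := by
  classical
  induction s using Finset.induction_on with
  | empty =>
    exact ((idealCl_congr Finset.prod_empty _ isEffCartier_one).trans idealCl_one).trans Finset.prod_empty.symm
  | insert a s ha ih =>
    exact (idealCl_congr (Finset.prod_insert ha) _ (ModPairLib.isEffCartier_mul (hI a) (isEffCartier_prod s I hI))).trans
      ((idealCl_mul _ _ (hI a) (isEffCartier_prod s I hI)).trans
        ((congrArg (idealCl (I a) (hI a) * ·) ih).trans (Finset.prod_insert (f := fun i => idealCl (I i) (hI i)) ha).symm))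

end Groth.Agent.Inters29
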