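import Groth.Agent.Inters29.Model
import Groth.Agent.Inters29.Class
import Groth.Agent.NumTypeLib.Quad

/-!
# The intersection matrix of the special fibre
-/

set_option autoImplicit false
set_option linter.style.haveILetI false
set_option backward.isDefEq.respectTransparency.types false

universe u

open CategoryTheory CategoryTheory.Limits AlgebraicGeometry TopologicalSpace Opposite Matrix
open Groth.Agent.Coherent Groth.Agent.PicLib Groth.Agent.AmpleLib Groth.Agent.EulerLib
open Groth.Agent.Misc15.DivDescent Groth.Agent.SDiv28.CartierPart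

namespace Groth.Agent.Inters29

variable (R : Type u) [CommRing R] [IsDomain R] [IsDiscreteValuationRing R]
variable {X : Over (Spec (CommRingCat.of R))}

theorem isInvertible_of_inverse {L : X.left.Modules} {I : X.left.IdealSheafData}
    (hI : BlowUp.IsEffCartierIdeal I) (hL : ClSub.IsInverseOf L (ClSub.idealMod I)) :
    PicF.IsInvertible L := by
  obtain ⟨e⟩ := hL
  exact PicM.isInvertible_of_tensor (FlatMor12.IdealModGen.isInvertible_idealMod I hI)
    (glocus_isInvertible_of_iso (tensorComm _ _ ≪≫ e).symm isInvertible_structureModule)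

section IntCl

variable (Γ : ArSurf.VertComp R X) [IsProper Γ.curve.hom]

/-- The intersection number with a curve, on classes. -/
noncomputable def intCl (a : PicM X.left) : ℤ :=
  ArSurf.inter R X (PicM.exists_eq_of a).choose Γ

omit [IsProper Γ.curve.hom] in
theorem inter_congr {L M : X.left.Modules} (e : L ≅ M) : ArSurf.inter R X L Γ = ArSurf.inter R X M Γ := by
  letI : Γ.curve.left.Over (Spec (CommRingCat.of (IsLocalRing.ResidueField R))) := ⟨Γ.curve.hom⟩
  have hk := fun i => (CurveRR24.finrank_HH_congr (IsLocalRing.ResidueField R)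
    ((Scheme.Modules.pullback Γ.ι).mapIso e) i)
  simp only [ArSurf.inter, ArSurf.curveDeg, FGA.eulerCharLE]
  congr 1
  exact Finset.sum_congr rfl fun i _ => by rw [hk i]

omit [IsProper Γ.curve.hom] in
theorem intCl_of {L : X.left.Modules} (hL : PicF.IsInvertible L) :
    intCl R Γ (PicM.of hL) = ArSurf.inter R X L Γ := by
  obtain ⟨hL', h⟩ := (PicM.exists_eq_of (PicM.of hL)).choose_spec
  obtain ⟨e⟩ := (PicM.of_eq_iff hL hL').1 h
  exact inter_congr R Γ e.symm

theorem inter_tensor {L M : X.left.Modules} (hL : PicF.IsInvertible L) (hM : PicF.IsInvertible M) :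
    ArSurf.inter R X (CohB1.tensorMod L M) Γ = ArSurf.inter R X L Γ + ArSurf.inter R X M Γ := by
  letI : Γ.curve.left.Over (Spec (CommRingCat.of (IsLocalRing.ResidueField R))) := ⟨Γ.curve.hom⟩
  haveI : IsProper (Γ.curve.left ↘ Spec (CommRingCat.of (IsLocalRing.ResidueField R))) :=
    inferInstanceAs (IsProper Γ.curve.hom)
  obtain ⟨e⟩ := exists_pullTensorIso Γ.ι hL hM
  have hLY := PicLoc.isInvertible_pullback Γ.ι hL
  have hMY := PicLoc.isInvertible_pullback Γ.ι hM
  have hLMY := PicLoc.isInvertible_pullback Γ.ι (isInvertible_tensorMod hL hM)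
  simp only [ArSurf.inter]
  rw [curveDeg_eq_deg _ Γ.dim_eq.le hLY, curveDeg_eq_deg _ Γ.dim_eq.le hMY,
    curveDeg_eq_deg _ Γ.dim_eq.le hLMY, CurveRR24.deg_congr _ e,
    CurveRR24.deg_tensor _ Γ.dim_eq.le hLY hMY]

theorem intCl_mul (a b : PicM X.left) : intCl R Γ (a * b) = intCl R Γ a + intCl R Γ b := by
  obtain ⟨L, hL, rfl⟩ := PicM.exists_eq_of a
  obtain ⟨M, hM, rfl⟩ := PicM.exists_eq_of b
  rw [PicM.of_mul, intCl_of, intCl_of, intCl_of, inter_tensor R Γ hL hM]

/-- The intersection number as a homomorphism. -/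
noncomputable def intHom : Additive (PicM X.left) →+ ℤ :=
  AddMonoidHom.mk' (fun a => intCl R Γ a.toMul) fun a b => intCl_mul R Γ _ _

theorem intCl_one : intCl R Γ 1 = 0 := (intHom R Γ).map_zero

theorem intCl_pow (a : PicM X.left) (n : ℕ) : intCl R Γ (a ^ n) = n * intCl R Γ a := by
  have h := (intHom R Γ).map_nsmul n (Additive.ofMul a)
  rw [nsmul_eq_mul] at h
  exact h

theorem intCl_prod {ι : Type*} (s : Finset ι) (a : ι → PicM X.left) :
    intCl R Γ (∏ i ∈ s, a i) = ∑ i ∈ s, intCl R Γ (a i) :=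
  map_sum (intHom R Γ) (fun i => Additive.ofMul (a i)) s

theorem inter_inverse {L : X.left.Modules} {I : X.left.IdealSheafData} (hI : BlowUp.IsEffCartierIdeal I)
    (hL : ClSub.IsInverseOf L (ClSub.idealMod I)) :
    ArSurf.inter R X L Γ = - intCl R Γ (idealCl I hI) := by
  have hLi := isInvertible_of_inverse R hI hL
  have h : PicM.of hLi * idealCl I hI = 1 := by
    rw [idealCl, PicM.of_mul, PicM.of_eq_one_iff]; exact hL
  have h' := congrArg (intCl R Γ) h
  rw [intCl_mul, intCl_one, intCl_of] at h'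
  omega

end IntCl

section Fibre

variable [IsIntegral X.left] [IsLocallyNoetherian X.left] [Flat X.hom]

/-- The ideal of the special fibre is principal. -/
theorem exists_specialFibreIdeal_gen :
    ∃ s : Γ(X.left, ⊤), ∀ U : X.left.affineOpens,
      (Models.specialFibreIdeal R X).ideal U = Ideal.span {PicLib.res le_top s} ∧
        PicLib.res (le_top : U.1 ≤ ⊤) s ∈ nonZeroDivisors Γ(X.left, U.1) := by
  obtain ⟨ϖ, hϖ⟩ := IsDiscreteValuationRing.exists_irreducible R
  refine ⟨Coh.toGlobal X.hom ϖ, fun U => ⟨?_, ?_⟩⟩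
  · rw [Models.specialFibreIdeal,
      ProjLib.comap_ideal_eq _ X.hom ⟨⊤, isAffineOpen_top (Spec (CommRingCat.of R))⟩ U le_top]
    have h : (Curv2.idealSheaf R (IsLocalRing.maximalIdeal R)).ideal ⟨⊤, isAffineOpen_top _⟩ =
        Ideal.span {(Scheme.ΓSpecIso (CommRingCat.of R)).inv.hom ϖ} := by
      simp [Curv2.idealSheaf, hϖ.maximalIdeal_eq, Ideal.map_span]
    rw [h, Ideal.map_span, Set.image_singleton]
    rfl
  · by_cases hne : (U.1 : Set X.left).Nonempty
    · obtain ⟨x, hx⟩ := hne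
      haveI : Nonempty U.1 := ⟨⟨x, hx⟩⟩
      refine mem_nonZeroDivisors_of_ne_zero fun h0 => hϖ.ne_zero (stalkHom_injective R x ?_)
      rw [map_zero]
      refine Eq.trans ?_ ((congrArg (X.left.presheaf.germ U.1 x hx) h0).trans (map_zero _))
      exact (TopCat.Presheaf.germ_res_apply X.left.presheaf (homOfLE (le_top : U.1 ≤ ⊤)) x hx _).symm
    · have hbot : U.1 = ⊥ := Opens.ext (Set.not_nonempty_iff_eq_empty.1 hne)
      have : Subsingleton Γ(X.left, U.1) := by
        rw [hbot]; exact CommRingCat.subsingleton_of_isTerminal X.left.sheaf.isTerminalOfEmpty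
      exact mem_nonZeroDivisors_iff_right.2 fun a _ => Subsingleton.elim _ _

variable (hreg : ∀ x : X.left, IsRegularLocalRing (X.left.presheaf.stalk x))
variable {n : ℕ} (Γ : Fin n → ArSurf.VertComp R X) (hΓ : Models.IsComponentList R X Γ)
include hreg hΓ

theorem prod_idealCl_eq_one :
    ∏ i, idealCl (Γ i).ι.ker (isEffCartier_listComp R Γ hreg hΓ i) ^ Models.mult R X (Γ i) = 1 := by
  have hD := isEffCartier_listComp R Γ hreg hΓ
  let J := fun i => (Γ i).ι.ker ^ Models.mult R X (Γ i)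
  have hJ : ∀ i, BlowUp.IsEffCartierIdeal (J i) := fun i => isEffCartier_pow (hD i) _
  rw [Finset.prod_congr rfl fun i _ => (idealCl_pow (hD i) (Models.mult R X (Γ i))).symm,
    ← idealCl_prod Finset.univ J hJ]
  have h := specialFibreIdeal_eq_prod R Γ hreg hΓ
  obtain ⟨s, hs⟩ := exists_specialFibreIdeal_gen R (X := X)
  exact (PicM.of_eq_one_iff _).2 (nonempty_iso_of_principal _ s (fun U => h ▸ hs U))

omit hreg in
theorem mult_pos' (hD : ∀ x : X.left, IsRegularLocalRing (X.left.presheaf.stalk x)) (i : Fin n) :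
    0 < Models.mult R X (Γ i) := by
  rw [pos_iff_ne_zero]
  intro h0
  have h := stk_specialFibreIdeal_genPt R Γ hD hΓ i
  rw [h0, pow_zero, Ideal.one_eq_top] at h
  have hmem : gen (Γ i).ι.ker ∈ (Models.specialFibreIdeal R X).support := by
    refine (support_specialFibreIdeal R).ge ?_
    rw [gen_ker]
    exact range_subset_specialFibreSet R (Γ i) ⟨_, rfl⟩
  rw [mem_support_iff_stk, h] at hmem
  exact (IsLocalRing.maximalIdeal.isMaximal _).ne_top (top_le_iff.1 hmem)

variable [IsProper X.hom]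
variable (L : Fin n → X.left.Modules) (hL : ∀ i, ClSub.IsInverseOf (L i) (ClSub.idealMod (Γ i).ι.ker))
include hL

/-- The special fibre has degree zero on every vertical curve. -/
theorem sum_mult_mul_inter (Γ' : ArSurf.VertComp R X) :
    ∑ j, (Models.mult R X (Γ j) : ℤ) * ArSurf.inter R X (L j) Γ' = 0 := by
  haveI := isProper_curve R Γ'
  have h := congrArg (intCl R Γ') (prod_idealCl_eq_one R hreg Γ hΓ)
  rw [intCl_one, intCl_prod] at h
  simp only [intCl_pow] at h
  rw [Finset.sum_congr rfl fun j _ => by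
    rw [inter_inverse R Γ' (isEffCartier_listComp R Γ hreg hΓ j) (hL j), mul_neg]]
  rw [Finset.sum_neg_distrib, h, neg_zero]

omit hL in
theorem genPt_notMem {i j : Fin n} (hij : i ≠ j) :
    (Γ i).ι.base (genericPoint (Γ i).curve.left) ∉ ((Γ j).ι.ker.support : Set X.left) := by
  intro hm
  have h := eq_gen_of_coheight_le (isEffCartier_listComp R Γ hreg hΓ j) hm
    ((gen_ker R (Γ i)) ▸ (coheight_gen (isEffCartier_listComp R Γ hreg hΓ i)).le)
  exact hij (genPt_injective R Γ hΓ (h.trans (gen_ker R (Γ j))))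

/-- The intersection matrix is symmetric. -/
theorem inter_symm_of_list (i j : Fin n) :
    ArSurf.inter R X (L j) (Γ i) = ArSurf.inter R X (L i) (Γ j) := by
  rcases eq_or_ne i j with rfl | hij
  · rfl
  haveI := isProper_curve R (Γ i)
  haveI := isProper_curve R (Γ j)
  rw [inter_eq_lengthH R (Γ i) _ (isEffCartier_listComp R Γ hreg hΓ j)
      (genPt_notMem R hreg Γ hΓ hij) (L j) (hL j),
    inter_eq_lengthH R (Γ j) _ (isEffCartier_listComp R Γ hreg hΓ i)
      (genPt_notMem R hreg Γ hΓ hij.symm) (L i) (hL i), sup_comm]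

/-- Distinct components meet nonnegatively, and zero means disjoint. -/
theorem inter_offDiag {i j : Fin n} (hij : i ≠ j) :
    0 ≤ ArSurf.inter R X (L j) (Γ i) ∧
      (ArSurf.inter R X (L j) (Γ i) = 0 ↔
        Disjoint (Set.range (Γ i).ι.base) (Set.range (Γ j).ι.base)) := by
  haveI := isProper_curve R (Γ i)
  refine ⟨?_, ?_⟩
  · rw [inter_eq_lengthH R (Γ i) _ (isEffCartier_listComp R Γ hreg hΓ j)
      (genPt_notMem R hreg Γ hΓ hij) (L j) (hL j)]
    exact Nat.cast_nonneg _
  · rw [inter_eq_zero_iff R (Γ i) _ (isEffCartier_listComp R Γ hreg hΓ j)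
      (genPt_notMem R hreg Γ hΓ hij) (L j) (hL j), support_ker_eq]

/-- The intersection matrix, over `ℚ`. -/
noncomputable def interMat (K : Type*) [Field K] : Matrix (Fin n) (Fin n) K :=
  Matrix.of fun i j => (ArSurf.inter R X (L j) (Γ i) : K)

omit hreg hΓ hL [IsIntegral X.left] [IsLocallyNoetherian X.left] [Flat X.hom] [IsProper X.hom] in
theorem interMat_apply (K : Type*) [Field K] (i j : Fin n) :
    interMat R Γ L K i j = (ArSurf.inter R X (L j) (Γ i) : K) := rfl

theorem interMat_mulVec (K : Type*) [Field K] :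
    interMat R Γ L K *ᵥ (fun j => (Models.mult R X (Γ j) : K)) = 0 := by
  funext i
  have h := congrArg (Int.cast : ℤ → K) (sum_mult_mul_inter R hreg Γ hΓ L hL (Γ i))
  simp only [Int.cast_sum, Int.cast_mul, Int.cast_natCast, Int.cast_zero] at h
  rw [Pi.zero_apply, ← h]
  show ∑ j, (ArSurf.inter R X (L j) (Γ i) : K) * (Models.mult R X (Γ j) : K) = _
  exact Finset.sum_congr rfl fun j _ => mul_comm _ _

/-- The intersection form is negative semi-definite. -/
theorem quad_nonpos (a : Fin n → ℤ) :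
    ∑ q : Fin n × Fin n, a q.1 * a q.2 * ArSurf.inter R X (L q.2) (Γ q.1) ≤ 0 := by
  let m : Fin n → ℚ := fun j => (Models.mult R X (Γ j) : ℚ)
  have hm : ∀ j, m j ≠ 0 := fun j => Nat.cast_ne_zero.2 (mult_pos' R Γ hΓ hreg j).ne'
  let y : Fin n → ℚ := fun j => (a j : ℚ) / m j
  have hy : ∀ j, y j * m j = a j := fun j => div_mul_cancel₀ _ (hm j)
  have hsymm : (interMat R Γ L ℚ).IsSymm := Matrix.IsSymm.ext fun i j => by
    rw [interMat_apply, interMat_apply, inter_symm_of_list R hreg Γ hΓ L hL i j]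
  have h := NumTypeLib.two_mul_quad hsymm (interMat_mulVec R hreg Γ hΓ L hL ℚ) y
  have hnn : 0 ≤ ∑ i, ∑ j, interMat R Γ L ℚ i j * m i * m j * (y i - y j) ^ 2 :=
    Finset.sum_nonneg fun i _ => Finset.sum_nonneg fun j _ => by
      rcases eq_or_ne i j with rfl | hij
      · simp
      · have h0 : (0 : ℚ) ≤ interMat R Γ L ℚ i j := by
          rw [interMat_apply]; exact_mod_cast (inter_offDiag R hreg Γ hΓ L hL hij).1
        have h1 : (0 : ℚ) ≤ m i := Nat.cast_nonneg _
        have h2 : (0 : ℚ) ≤ m j := Nat.cast_nonneg _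
        positivity
  have hq : ((∑ q : Fin n × Fin n, a q.1 * a q.2 * ArSurf.inter R X (L q.2) (Γ q.1) : ℤ) : ℚ) =
      ∑ i, ∑ j, (a i : ℚ) * interMat R Γ L ℚ i j * (a j : ℚ) := by
    rw [Fintype.sum_prod_type]
    push_cast
    exact Finset.sum_congr rfl fun i _ => Finset.sum_congr rfl fun j _ => by rw [interMat_apply]; ring
  have : ((∑ q : Fin n × Fin n, a q.1 * a q.2 * ArSurf.inter R X (L q.2) (Γ q.1) : ℤ) : ℚ) ≤ 0 := by
    rw [hq]
    have e : ∑ i, ∑ j, (a i : ℚ) * interMat R Γ L ℚ i j * (a j : ℚ) =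
        ∑ i, ∑ j, y i * m i * interMat R Γ L ℚ i j * (y j * m j) :=
      Finset.sum_congr rfl fun i _ => Finset.sum_congr rfl fun j _ => by rw [hy, hy]
    linarith
  exact_mod_cast this

/-- The components of a connected special fibre are connected through intersections. -/
theorem inter_connected_of_list (hconn : _root_.IsConnected (Models.specialFibreSet R X))
    (I : Finset (Fin n)) (hI : I.Nonempty) (hI' : I ≠ Finset.univ) :
    ∃ i ∈ I, ∃ j ∉ I, ArSurf.inter R X (L j) (Γ i) ≠ 0 := by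
  by_contra hc
  push Not at hc
  let A := ⋃ i ∈ I, Set.range (Γ i).ι.base
  let B := ⋃ j ∈ (Iᶜ : Finset (Fin n)), Set.range (Γ j).ι.base
  have hA : IsClosed A := isClosed_biUnion_finset fun i _ => (Γ i).ι.isClosedEmbedding.isClosed_range
  have hB : IsClosed B := isClosed_biUnion_finset fun i _ => (Γ i).ι.isClosedEmbedding.isClosed_range
  have hcov : Models.specialFibreSet R X ⊆ A ∪ B := fun z hz => by
    obtain ⟨i, hi⟩ := exists_genPt_specializes R Γ hΓ hz
    have hz' : z ∈ Set.range (Γ i).ι.base :=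
      hi.mem_closed (Γ i).ι.isClosedEmbedding.isClosed_range ⟨_, rfl⟩
    by_cases h : i ∈ I
    · exact Or.inl (Set.mem_biUnion h hz')
    · exact Or.inr (Set.mem_biUnion (Finset.mem_compl.2 h) hz')
  obtain ⟨i, hi⟩ := hI
  obtain ⟨j, hj⟩ : ∃ j, j ∉ I := by
    by_contra h
    push Not at h
    exact hI' (Finset.eq_univ_of_forall h)
  have hne1 : (Models.specialFibreSet R X ∩ A).Nonempty :=
    ⟨_, range_subset_specialFibreSet R (Γ i) ⟨genericPoint _, rfl⟩, Set.mem_biUnion hi ⟨_, rfl⟩⟩
  have hne2 : (Models.specialFibreSet R X ∩ B).Nonempty :=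
    ⟨_, range_subset_specialFibreSet R (Γ j) ⟨genericPoint _, rfl⟩, Set.mem_biUnion (Finset.mem_compl.2 hj) ⟨_, rfl⟩⟩
  obtain ⟨z, -, hzA, hzB⟩ := isPreconnected_closed_iff.1 hconn.isPreconnected A B hA hB hcov hne1 hne2
  obtain ⟨i', hi', hzi⟩ := Set.mem_iUnion₂.1 hzA
  obtain ⟨j', hj', hzj⟩ := Set.mem_iUnion₂.1 hzB
  have hij : i' ≠ j' := fun e => Finset.mem_compl.1 hj' (e ▸ hi')
  exact Set.disjoint_left.1 ((inter_offDiag R hreg Γ hΓ L hL hij).2.1
    (hc i' hi' j' (Finset.mem_compl.1 hj'))) hzi hzj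

/-- The kernel of the intersection form of a connected fibre. -/
theorem quad_nonpos_and_of_connected (hconn : _root_.IsConnected (Models.specialFibreSet R X))
    (x : Fin n → ℚ) :
    x ⬝ᵥ (interMat R Γ L ℚ *ᵥ x) ≤ 0 ∧ (x ⬝ᵥ (interMat R Γ L ℚ *ᵥ x) = 0 ↔
      ∃ q : ℚ, x = q • fun j => (Models.mult R X (Γ j) : ℚ)) := by
  refine NumTypeLib.quad_nonpos_and (Matrix.IsSymm.ext fun i j => ?_) (fun i j hij => ?_)
    (fun j => Nat.cast_pos.2 (mult_pos' R Γ hΓ hreg j)) (interMat_mulVec R hreg Γ hΓ L hL ℚ)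
    (fun I hI hI' => ?_) x
  · rw [interMat_apply, interMat_apply, inter_symm_of_list R hreg Γ hΓ L hL i j]
  · rw [interMat_apply]; exact_mod_cast (inter_offDiag R hreg Γ hΓ L hL hij).1
  · obtain ⟨i, hi, j, hj, h⟩ := inter_connected_of_list R hreg Γ hΓ L hL hconn I hI hI'
    exact ⟨i, hi, j, hj, by rw [interMat_apply]; exact_mod_cast h⟩

end Fibre

end Groth.Agent.Inters29
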