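import Groth.Agent.Inters29.SmoothPoint
import Groth.Agent.Inters29.Matrix
import Groth.Agent.Inters29.Family
import Groth.Agent.CAlgH.CIImmersion
import Groth.Agent.HenselLib.Olivier
import Groth.Agent.Coherent.ConnectedFibre
import Groth.Agent.CurveRR24.AlgClosed
import Mathlib.RingTheory.Henselian

/-!
# Horizontal divisors through regular points of the special fibre

Over a complete discrete valuation ring with algebraically closed residue field, a regular point of the
reduced special fibre is the only point of the special fibre on some horizontal prime divisor, met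
transversally.
-/

set_option autoImplicit false
set_option linter.style.haveILetI false
set_option backward.isDefEq.respectTransparency false

universe u

open CategoryTheory CategoryTheory.Limits AlgebraicGeometry TopologicalSpace IsLocalRing
open Groth.Agent.Misc15.DivDescent Groth.Agent.SDiv28.CartierPart

namespace Groth.Agent.Inters29

/-- A preconnected finite set of closed points is a subsingleton. -/
theorem subsingleton_of_isPreconnected_finite {α : Type*} [TopologicalSpace α] {s : Set α}
    (hs : _root_.IsPreconnected s) (hfin : s.Finite) (hcl : ∀ x ∈ s, IsClosed ({x} : Set α)) :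
    s.Subsingleton := by
  intro a ha b hb
  by_contra hne
  have hc : IsClosed (s \ {a}) := by
    rw [← Set.biUnion_of_singleton (s \ {a})]
    exact (hfin.subset Set.diff_subset).isClosed_biUnion fun x hx => hcl x hx.1
  obtain ⟨x, -, hxa, -, hx⟩ := isPreconnected_closed_iff.1 hs {a} (s \ {a}) (hcl a ha) hc
    (fun x hx => (em (x = a)).imp id fun h => ⟨hx, h⟩) ⟨a, ha, rfl⟩ ⟨b, hb, hb, fun h => hne h.symm⟩
  exact hx hxa

/-- The kernel of a stalk map of a closed immersion is the stalk of its ideal. -/
theorem ker_stalkMap_eq_stk {X Y : Scheme.{u}} (ι : Y ⟶ X) [IsClosedImmersion ι] (y : Y) :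
    RingHom.ker (ι.stalkMap y).hom = stk ι.ker (ι y) := by
  obtain ⟨U, hU, hyU, -⟩ := exists_isAffineOpen_mem_and_subset (x := ι y) (U := ⊤) trivial
  rw [CAlgH.CIImmersion.ker_stalkMap_eq ι y hU hyU, stk_eq _ ⟨U, hU⟩ hyU, Scheme.Hom.ker_apply]

/-- Surjections of local rings carry the maximal ideal onto the maximal ideal. -/
theorem map_maximalIdeal_of_surjective {A B : Type*} [CommRing A] [CommRing B] [IsLocalRing A] [IsLocalRing B]
    (f : A →+* B) (hf : Function.Surjective f) : (maximalIdeal A).map f = maximalIdeal B := by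
  refine IsLocalRing.eq_maximalIdeal ((Ideal.map_eq_top_or_isMaximal_of_surjective f hf
    (maximalIdeal.isMaximal A)).resolve_left fun h => ?_)
  have h' := congrArg (Ideal.comap f) h
  rw [Ideal.comap_map_of_surjective f hf, Ideal.comap_top, sup_eq_left.2 (show Ideal.comap f ⊥ ≤ maximalIdeal A from
    IsLocalRing.le_maximalIdeal (RingHom.ker_ne_top f))] at h'
  exact (maximalIdeal.isMaximal A).ne_top h'

/-- If the maximal ideal is generated by two elements and is not principal, the second generator is prime. -/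
theorem prime_of_maximalIdeal_eq {A : Type*} [CommRing A] [IsDomain A] [IsLocalRing A] [IsNoetherianRing A]
    [UniqueFactorizationMonoid A] {u h : A} (hm : maximalIdeal A = Ideal.span {u} ⊔ Ideal.span {h})
    (hnp : ¬ (maximalIdeal A).IsPrincipal) : Prime h := by
  have hh : h ∈ maximalIdeal A := hm ▸ Ideal.mem_sup_right (Ideal.mem_span_singleton_self h)
  have h2 : h ∉ maximalIdeal A * maximalIdeal A := by
    intro hmem
    refine hnp ⟨u, le_antisymm ?_ (hm ▸ le_sup_left)⟩
    refine Submodule.le_of_le_smul_of_le_jacobson_bot (I := maximalIdeal A) (IsNoetherian.noetherian _)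
      (IsLocalRing.jacobson_eq_maximalIdeal ⊥ bot_ne_top).ge ?_
    nth_rw 1 [hm]
    exact sup_le le_sup_left ((Ideal.span_singleton_le_iff_mem _).2 (Ideal.mem_sup_right hmem))
  refine UniqueFactorizationMonoid.irreducible_iff_prime.1 ⟨(mem_maximalIdeal h).1 hh, fun a b hab => ?_⟩
  by_contra hn
  push Not at hn
  exact h2 (hab ▸ Ideal.mul_mem_mul ((mem_maximalIdeal a).2 hn.1) ((mem_maximalIdeal b).2 hn.2))

variable (R : Type u) [CommRing R] [IsDomain R] [IsDiscreteValuationRing R]
variable {X : Over (Spec (CommRingCat.of R))}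

/-- The closed subscheme on the closure of a point has local global functions when the base is complete. -/
theorem subsingleton_closure_inter_fibre [IsAdicComplete (maximalIdeal R) R] [IsProper X.hom] (w : X.left)
    (hcl : ∀ x ∈ closure {w} ∩ Models.specialFibreSet R X, IsClosed ({x} : Set X.left)) :
    (closure {w} ∩ Models.specialFibreSet R X).Subsingleton := by
  haveI := isLocallyNoetherian_of_isProper R (X := X)
  haveI : CompactSpace X.left := (quasiCompact_iff_compactSpace X.hom).1 inferInstance
  haveI : IsNoetherian X.left := ⟨⟩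
  let C : Closeds X.left := ⟨closure {w}, isClosed_closure⟩
  let D := Scheme.IdealSheafData.vanishingIdeal C
  let ι := D.subschemeι
  have hrange : Set.range ι.base = closure {w} := by
    rw [Scheme.IdealSheafData.range_subschemeι, Scheme.IdealSheafData.coe_support_vanishingIdeal]
    rfl
  haveI : IsReduced D.subscheme := Props12.isReduced_subscheme_vanishingIdeal C
  haveI : IrreducibleSpace D.subscheme := by
    obtain ⟨w', hw'⟩ := hrange.ge (subset_closure (Set.mem_singleton w))
    rw [irreducibleSpace_def, Set.top_eq_univ,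
      ← (show closure ({w'} : Set D.subscheme) = Set.univ from Set.eq_univ_of_forall fun v =>
        specializes_iff_mem_closure.1 (ι.isClosedEmbedding.isInducing.specializes_iff.1
          (hw' ▸ specializes_iff_mem_closure.2 (hrange.le ⟨v, rfl⟩))))]
    exact isIrreducible_singleton.closure
  haveI : IsIntegral D.subscheme := isIntegral_of_irreducibleSpace_of_isReduced _
  letI : D.subscheme.Over (Spec (CommRingCat.of R)) := ⟨ι ≫ X.hom⟩
  haveI : IsProper (D.subscheme ↘ Spec (CommRingCat.of R)) := inferInstanceAs (IsProper (ι ≫ X.hom))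
  haveI : HenselianLocalRing R := HenselLib.henselianLocalRing_of_henselianRing R
  haveI : Nonempty (⊤ : D.subscheme.Opens) := ⟨⟨genericPoint D.subscheme, trivial⟩⟩
  let φ : R →+* Γ(D.subscheme, ⊤) := (ι ≫ X.hom).appTop.hom.comp (Scheme.ΓSpecIso (CommRingCat.of R)).inv.hom
  have hφ : φ.IsIntegral := RingHom.isIntegral_respectsIso.2 (ι ≫ X.hom).appTop.hom
    (Scheme.ΓSpecIso (CommRingCat.of R)).symm.commRingCatIsoToRingEquiv
    (isIntegral_appTop_of_universallyClosed (ι ≫ X.hom))
  letI : Algebra R Γ(D.subscheme, ⊤) := φ.toAlgebra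
  haveI : Algebra.IsIntegral R Γ(D.subscheme, ⊤) := ⟨hφ⟩
  haveI := HenselLib.Olivier.isLocalRing_of_integral_domain (A := R) Γ(D.subscheme, ⊤)
  have h := Coherent.isPreconnected_closedFibre_of_isLocalRing (A := R) (X := D.subscheme)
  have hz : PrimeSpectrum.zeroLocus (maximalIdeal R : Set R) = {closedPoint R} := by
    rw [← IsLocalRing.isClosed_singleton_closedPoint R |>.closure_eq, PrimeSpectrum.closure_singleton]
    rfl
  rw [hz] at h
  have himg : ι.base '' ((ι ≫ X.hom).base ⁻¹' {closedPoint R}) = closure {w} ∩ Models.specialFibreSet R X := by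
    rw [Scheme.Hom.comp_base, TopCat.coe_comp, Set.preimage_comp, Set.image_preimage_eq_range_inter, hrange]
    rfl
  have hpre : _root_.IsPreconnected (closure {w} ∩ Models.specialFibreSet R X) := by
    rw [← himg]; exact h.image _ ι.continuous.continuousOn
  refine subsingleton_of_isPreconnected_finite hpre ?_ hcl
  obtain ⟨S, hSf, hSc, hSi, hS⟩ := NoetherianSpace.exists_finite_set_isClosed_irreducible
    (isClosed_closure.inter (Models.isClosed_specialFibreSet R X) : IsClosed (closure {w} ∩ Models.specialFibreSet R X))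
  rw [hS]
  refine hSf.sUnion fun Z hZ => ?_
  obtain ⟨x, hx⟩ := QuasiSober.sober (hSi Z hZ) (hSc Z hZ)
  rw [← hx.def, (hcl x (hS ▸ Set.mem_sUnion_of_mem hx.mem hZ)).closure_eq]
  exact Set.finite_singleton x

/-- A divisor meeting a component only at a point and transversally has intersection number one with it. -/
theorem inter_eq_one [IsAlgClosed (ResidueField R)] [IsProper X.hom] (Γ : ArSurf.VertComp R X) [IsProper Γ.curve.hom]
    (D : X.left.IdealSheafData) (hD : BlowUp.IsEffCartierIdeal D) {y : Γ.curve.left}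
    (hyc : IsClosed ({y} : Set Γ.curve.left)) (hyη : y ≠ genericPoint Γ.curve.left)
    (hsupp : (D.support : Set X.left) ∩ Set.range Γ.ι.base = {Γ.ι y})
    (hstk : stk D (Γ.ι y) ⊔ RingHom.ker (Γ.ι.stalkMap y).hom = maximalIdeal (X.left.presheaf.stalk (Γ.ι y)))
    (L : X.left.Modules) (hL : ClSub.IsInverseOf L (ClSub.idealMod D)) :
    ArSurf.inter R X L Γ = 1 := by
  let k := ResidueField R
  letI : Γ.curve.left.Over (Spec (CommRingCat.of k)) := ⟨Γ.curve.hom⟩
  haveI : IsProper (Γ.curve.left ↘ Spec (CommRingCat.of k)) := inferInstanceAs (IsProper Γ.curve.hom)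
  have hmem : ∀ x : Γ.curve.left, Γ.ι x ∈ (D.support : Set X.left) ↔ x = y := fun x => by
    refine ⟨fun h => Γ.ι.isClosedEmbedding.injective (?_ : Γ.ι x ∈ ({Γ.ι y} : Set X.left)), ?_⟩
    · rw [← hsupp]; exact ⟨h, x, rfl⟩
    · rintro rfl; exact (hsupp.ge (Set.mem_singleton _)).1
  have hη : Γ.ι.base (genericPoint Γ.curve.left) ∉ (D.support : Set X.left) :=
    fun h => hyη ((hmem _).1 h).symm
  have hT : D.comap Γ.ι = CurveRR24.ptIdeal y hyc := by
    haveI := isLocallyNoetherian_of_isProper R (X := X)
    refine ext_stk fun x => ?_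
    by_cases hx : x = y
    · subst hx
      rw [stk_comap]
      have hsurj := Γ.ι.stalkMap_surjective x
      have h1 : (stk D (Γ.ι x)).map (Γ.ι.stalkMap x).hom = maximalIdeal (Γ.curve.left.presheaf.stalk x) := by
        rw [← sup_bot_eq ((stk D (Γ.ι x)).map (Γ.ι.stalkMap x).hom),
          ← show (RingHom.ker (Γ.ι.stalkMap x).hom).map (Γ.ι.stalkMap x).hom = ⊥ from
            (Ideal.map_eq_bot_iff_le_ker _).2 le_rfl, ← Ideal.map_sup, hstk]
        exact map_maximalIdeal_of_surjective _ hsurj
      rw [h1]
      refine le_antisymm ?_ ((mem_support_iff_stk _ x).1 (by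
        rw [← SetLike.mem_coe, CurveRR24.support_ptIdeal]; exact Set.mem_singleton x))
      rw [← h1, ← stk_comap]
      refine iSup₂_mono fun U hU => Ideal.map_mono ?_
      refine (Scheme.IdealSheafData.le_support_iff_le_vanishingIdeal.1 ?_ :
        D.comap Γ.ι ≤ CurveRR24.ptIdeal x hyc) U
      intro v hv
      have hv' : v = x := hv
      subst hv'
      show v ∈ (D.comap Γ.ι).support
      rw [Scheme.IdealSheafData.support_comap]
      exact (hmem v).2 rfl
    · rw [stk_eq_top, stk_eq_top]
      · rw [← SetLike.mem_coe, CurveRR24.support_ptIdeal]; exact hx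
      · rw [Scheme.IdealSheafData.support_comap]; exact fun h => hx ((hmem x).1 h)
  show ArSurf.curveDeg k Γ.curve.left ((Scheme.Modules.pullback Γ.ι).obj L) = 1
  rw [curveDeg_inverse_eq k Γ.dim_eq.le Γ.ι D hD hη hL, hT, CurveRR24.finrank_HH_zero_ptQuot hyc k,
    CurveRR24.finrank_resField k hyc]
  rfl

/-- For every component there is an invertible module of degree one on it and zero on the others. -/
theorem exists_inter_eq_ite [IsAdicComplete (maximalIdeal R) R] [IsAlgClosed (ResidueField R)]
    [IsIntegral X.left] [Flat X.hom] [IsProper X.hom]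
    (hreg : ∀ x : X.left, IsRegularLocalRing (X.left.presheaf.stalk x))
    {n : ℕ} (Γ : Fin n → ArSurf.VertComp R X) (hΓ : Models.IsComponentList R X Γ) (i : Fin n) :
    ∃ M : X.left.Modules, PicF.IsInvertible M ∧
      ∀ j : Fin n, ArSurf.inter R X M (Γ j) = if j = i then 1 else 0 := by
  classical
  haveI := isLocallyNoetherian_of_isProper R (X := X)
  haveI : ∀ j, IsProper (Γ j).curve.hom := fun j => isProper_curve R (Γ j)
  have hD := isEffCartier_listComp R Γ hreg hΓ
  let F := Models.specialFibreSet R X
  let gp := fun j => (Γ j).ι (genericPoint (Γ j).curve.left)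
  -- the point
  let T : Set (Γ i).curve.left := ⋃ j ∈ {j : Fin n | j ≠ i}, (Γ i).ι.base ⁻¹' Set.range (Γ j).ι.base
  have hTc : IsClosed T := (Set.toFinite _).isClosed_biUnion fun j _ =>
    (Γ j).ι.isClosedEmbedding.isClosed_range.preimage (Γ i).ι.continuous
  have hTη : genericPoint (Γ i).curve.left ∉ T := fun h => by
    obtain ⟨j, hj, x, hx⟩ := Set.mem_iUnion₂.1 h
    have hsp : gp j ⤳ gp i := (genPt_isGenericPoint R (Γ j)).specializes ⟨x, hx⟩
    exact hj (genPt_injective R Γ hΓ (genPt_maximal R Γ hΓ i (hom_ι_eq R (Γ j) _) hsp))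
  obtain ⟨y, hyc, hyT, hyη, hprin⟩ := exists_regular_closedPoint (Γ i).curve.hom (Γ i).dim_eq hTc hTη
  let z := (Γ i).ι y
  have hzc : IsClosed ({z} : Set X.left) := by
    have h := (Γ i).ι.isClosedEmbedding.isClosedMap _ hyc
    rwa [Set.image_singleton] at h
  have honly : ∀ j, z ∈ Set.range (Γ j).ι.base → j = i := fun j hj => by
    by_contra hne; exact hyT (Set.mem_iUnion₂.2 ⟨j, hne, hj⟩)
  let A := X.left.presheaf.stalk z
  haveI := hreg z
  haveI := CAlgH3.ufm_of_regular A
  haveI := CAlgH3.isDomain_of_isRegularLocalRing A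
  obtain ⟨d, hd0, hd⟩ := exists_gen (hD i) z
  let σ := ((Γ i).ι.stalkMap y).hom
  have hsurj : Function.Surjective σ := (Γ i).ι.stalkMap_surjective y
  have hker : RingHom.ker σ = Ideal.span {d} := (ker_stalkMap_eq_stk (Γ i).ι y).trans hd
  obtain ⟨b, hb⟩ := hprin.principal
  obtain ⟨h, rfl⟩ := hsurj b
  have hm : maximalIdeal A = Ideal.span {d} ⊔ Ideal.span {h} := by
    have h1 : (Ideal.span {h}).map σ = maximalIdeal _ := by
      rw [Ideal.map_span, Set.image_singleton]; exact hb.symm
    have h2 : (maximalIdeal A).map σ = (Ideal.span {h}).map σ :=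
      (map_maximalIdeal_of_surjective σ hsurj).trans h1.symm
    have h3 := (Ideal.map_eq_iff_sup_ker_eq_of_surjective σ hsurj).1 h2
    rw [hker, sup_eq_left.2 (show Ideal.span {d} ≤ maximalIdeal A from hker ▸
      IsLocalRing.le_maximalIdeal (RingHom.ker_ne_top σ))] at h3
    rw [h3, sup_comm]
  have hnp : ¬ (maximalIdeal A).IsPrincipal := by
    intro hp
    have h1 : (maximalIdeal A).height ≤ 1 := Ideal.height_le_one_of_isPrincipal_of_mem_minimalPrimes
      (maximalIdeal A) _ (by rw [Ideal.minimalPrimes_eq_subsingleton_self]; exact Set.mem_singleton _)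
    have h2 := ringKrullDim_stalk_eq_coheight (X := X.left) z
    rw [← IsLocalRing.maximalIdeal_height_eq_ringKrullDim] at h2
    rw [WithBot.coe_inj.1 h2] at h1
    have h3 : gp i ⤳ z := (genPt_isGenericPoint R (Γ i)).specializes ⟨y, rfl⟩
    have h4 := dim_add_one_le h3 ((Γ i).ι.isClosedEmbedding.injective.ne hyη.symm)
    have h5 := dim_add_one_le ((genericPoint_spec X.left).specializes (Set.mem_univ (gp i)))
      (gen_ne_genericPoint R (Γ i)).symm
    have h6 : (1 : ℕ∞) + 1 ≤ 1 := (add_le_add_left (le_trans le_add_self h5) 1).trans (h4.trans h1)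
    exact absurd h6 (by decide)
  have hh : Prime h := prime_of_maximalIdeal_eq hm hnp
  let P : PrimeSpectrum A := ⟨Ideal.span {h}, (Ideal.span_singleton_prime hh.ne_zero).2 hh⟩
  have hdP : d ∉ P.asIdeal := fun hdP => hnp ⟨h, hm.trans (sup_eq_right.2 ((Ideal.span_singleton_le_iff_mem _).2 hdP))⟩
  -- the horizontal point
  let w := X.left.fromSpecStalk z P
  have hwz : w ⤳ z := Scheme.range_fromSpecStalk.le ⟨P, rfl⟩
  have hwF : w ∉ F := by
    intro hw
    obtain ⟨j, hj⟩ := exists_genPt_specializes R Γ hΓ hw
    have hwj : w ∈ Set.range (Γ j).ι.base :=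
      hj.mem_closed (Γ j).ι.isClosedEmbedding.isClosed_range ⟨_, rfl⟩
    obtain rfl := honly j (hwz.mem_closed (Γ j).ι.isClosedEmbedding.isClosed_range hwj)
    refine hdP ?_
    have h1 : stk (Γ j).ι.ker z ≤ P.asIdeal :=
      (fromSpecStalk_mem_support_iff _ P).1 ((support_ker_eq R (Γ j)).ge hwj)
    exact h1 (hd.ge (Ideal.mem_span_singleton_self d))
  have hwη : w ≠ genericPoint X.left := by
    intro hw
    have h1 : X.left.fromSpecStalk z ⟨⊥, Ideal.isPrime_bot⟩ ⤳ w :=
      ((PrimeSpectrum.le_iff_specializes (⟨⊥, Ideal.isPrime_bot⟩ : PrimeSpectrum A) P).1 bot_le).map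
        (X.left.fromSpecStalk z).continuous
    have h2 := (h1.antisymm (hw ▸ (genericPoint_spec X.left).specializes trivial)).eq
    have h3 : (⊥ : Ideal A) = Ideal.span {h} :=
      congrArg PrimeSpectrum.asIdeal ((X.left.fromSpecStalk z).isEmbedding.injective h2)
    exact hh.ne_zero (Ideal.span_singleton_eq_bot.1 h3.symm)
  let C : Closeds X.left := ⟨closure {w}, isClosed_closure⟩
  let D := Scheme.IdealSheafData.vanishingIdeal C
  have hsuppD : (D.support : Set X.left) = closure {w} :=
    Scheme.IdealSheafData.coe_support_vanishingIdeal ..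
  haveI : IsIntegral D.subscheme := by
    haveI : IsReduced D.subscheme := Props12.isReduced_subscheme_vanishingIdeal C
    haveI : IrreducibleSpace D.subscheme := by
      have hrange : Set.range D.subschemeι.base = closure {w} := by
        rw [Scheme.IdealSheafData.range_subschemeι, hsuppD]
      obtain ⟨w', hw'⟩ := hrange.ge (subset_closure (Set.mem_singleton w))
      rw [irreducibleSpace_def, Set.top_eq_univ,
        ← (show closure ({w'} : Set D.subscheme) = Set.univ from Set.eq_univ_of_forall fun v =>
          specializes_iff_mem_closure.1 (D.subschemeι.isClosedEmbedding.isInducing.specializes_iff.1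
            (hw' ▸ specializes_iff_mem_closure.2 (hrange.le ⟨v, rfl⟩))))]
      exact isIrreducible_singleton.closure
    exact isIntegral_of_irreducibleSpace_of_isReduced _
  have hgen : gen D = w := (isGenericPoint_gen D).eq (hsuppD ▸ isGenericPoint_closure)
  have hzD : z ∈ D.support := hsuppD.ge hwz.mem_closure
  have hstkD : stk D z = Ideal.span {h} := by
    refine le_antisymm ((fromSpecStalk_mem_support_iff D P).1 (hsuppD.ge (subset_closure (Set.mem_singleton w)))) ?_
    let P' : PrimeSpectrum A := ⟨stk D z, isPrime_stk hzD⟩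
    have h1 : w ⤳ X.left.fromSpecStalk z P' :=
      specializes_iff_mem_closure.2 (hsuppD.le ((fromSpecStalk_mem_support_iff D P').2 le_rfl))
    exact (PrimeSpectrum.le_iff_specializes P P').2
      ((X.left.fromSpecStalk z).isEmbedding.specializes_iff.1 h1)
  -- codimension one
  have hcow : Order.coheight w ≤ 1 := by
    have hwD : w ∈ D.support := hsuppD.ge (subset_closure (Set.mem_singleton w))
    let B := X.left.presheaf.stalk w
    have hmw : maximalIdeal B = stk D w := by
      haveI hP := isPrime_stk (D := D) hwD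
      refine le_antisymm (fun a ha => ?_) (IsLocalRing.le_maximalIdeal hP.ne_top)
      let Q : PrimeSpectrum B := ⟨stk D w, hP⟩
      have h1 : X.left.fromSpecStalk w Q ⤳ w := Scheme.range_fromSpecStalk.le ⟨Q, rfl⟩
      have h2 : w ⤳ X.left.fromSpecStalk w Q :=
        specializes_iff_mem_closure.2 (hsuppD.le ((fromSpecStalk_mem_support_iff D Q).2 le_rfl))
      have h3 := (X.left.fromSpecStalk w).isEmbedding.injective
        ((h1.antisymm h2).eq.trans Scheme.fromSpecStalk_closedPoint.symm)
      exact (congrArg PrimeSpectrum.asIdeal h3).ge ha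
    have hpr : (maximalIdeal B).IsPrincipal := by
      rw [hmw, stk_specializes D hwz, hstkD, Ideal.map_span, Set.image_singleton]
      exact ⟨_, rfl⟩
    haveI := hpr
    have h1 : (maximalIdeal B).height ≤ 1 := Ideal.height_le_one_of_isPrincipal_of_mem_minimalPrimes
      (maximalIdeal B) _ (by rw [Ideal.minimalPrimes_eq_subsingleton_self]; exact Set.mem_singleton _)
    have h2 := ringKrullDim_stalk_eq_coheight (X := X.left) w
    rw [← IsLocalRing.maximalIdeal_height_eq_ringKrullDim] at h2
    rwa [WithBot.coe_inj.1 h2] at h1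
  have hDc : BlowUp.IsEffCartierIdeal D := isEffCartier_of_coheight_one hreg D (hgen ▸ hcow) (hgen ▸ hwη)
  -- the special points
  have hgp : ∀ j, gp j ∉ closure {w} := fun j hj => by
    have hs : w ⤳ gp j := specializes_iff_mem_closure.2 hj
    have hne : w ≠ gp j := fun h => hwF (h ▸ hom_ι_eq R (Γ j) _)
    have h1 := dim_add_one_le hs hne
    have h2 := dim_add_one_le ((genericPoint_spec X.left).specializes (Set.mem_univ w)) hwη.symm
    have h3 := coheight_le_one_of_maximal R (hom_ι_eq R (Γ j) _) (fun v hv hvs => genPt_maximal R Γ hΓ j hv hvs)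
    have h6 : (1 : ℕ∞) + 1 ≤ 1 := (add_le_add_left (le_trans le_add_self h2) 1).trans (h1.trans h3)
    exact absurd h6 (by decide)
  have hclosed : ∀ x ∈ closure {w} ∩ F, IsClosed ({x} : Set X.left) := by
    rintro x ⟨hxw, hxF⟩
    obtain ⟨j, hj⟩ := exists_genPt_specializes R Γ hΓ hxF
    obtain ⟨x', hx'⟩ := hj.mem_closed (Γ j).ι.isClosedEmbedding.isClosed_range ⟨_, rfl⟩
    subst hx'
    rcases CurvesLib24.eq_genericPoint_or_isClosed (Γ j).dim_eq.le x' with h | h
    · subst h
      exact absurd hxw (hgp j)
    · have h' := (Γ j).ι.isClosedEmbedding.isClosedMap _ h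
      rwa [Set.image_singleton] at h'
  have hDF : ∀ x ∈ (D.support : Set X.left), x ∈ F → x = z := fun x hx hxF =>
    subsingleton_closure_inter_fibre R w hclosed ⟨hsuppD ▸ hx, hxF⟩ ⟨hwz.mem_closure, hom_ι_eq R (Γ i) y⟩
  obtain ⟨M, hM⟩ := exists_inverse_ker R hreg hDc
  refine ⟨M, isInvertible_of_inverse R hDc hM, fun j => ?_⟩
  split_ifs with hji
  · subst hji
    refine inter_eq_one R (Γ j) D hDc hyc hyη ?_ ?_ M hM
    · refine Set.Subset.antisymm ?_ ?_
      · rintro x ⟨hx, hxr⟩
        exact hDF x hx (range_subset_specialFibreSet R (Γ j) hxr)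
      · rintro _ rfl
        exact ⟨hzD, y, rfl⟩
    · rw [hstkD, hker, sup_comm]; exact hm.symm
  · refine (inter_eq_zero_iff R (Γ j) D hDc (fun h => hgp j (hsuppD ▸ h)) M hM).2 ?_
    rw [Set.disjoint_left]
    intro x hxr hx
    exact hji (honly j (hDF x hx (range_subset_specialFibreSet R (Γ j) hxr) ▸ hxr))

end Groth.Agent.Inters29
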