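import Groth.Agent.Inters29.Matrix
import Groth.Agent.ZeroSchLib.Basic
import Groth.Agent.PicLib.PullbackGen

/-!
# Invertible modules trivial on the generic fibre
-/

set_option autoImplicit false
set_option linter.style.haveILetI false
set_option backward.isDefEq.respectTransparency false

universe u

open CategoryTheory CategoryTheory.Limits AlgebraicGeometry TopologicalSpace IsLocalRing
open Groth.Agent.Coherent Groth.Agent.PicLib Groth.Agent.AmpleLib
open Groth.Agent.Misc15.DivDescent Groth.Agent.SDiv28.CartierPart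

namespace Groth.Agent.Inters29

/-- A divisor of a product of powers of primes and units is associated to such a product. -/
theorem exists_associated_prod_pow {A : Type*} [CommRing A] [IsDomain A] {ι : Type*} [DecidableEq ι] (s : Finset ι)
    (d : ι → A) (hd : ∀ i ∈ s, IsUnit (d i) ∨ Prime (d i)) :
    ∀ (N : ι → ℕ) (c : A), c ∣ ∏ i ∈ s, d i ^ N i → ∃ f : ι → ℕ, Associated c (∏ i ∈ s, d i ^ f i) := by
  induction s using Finset.induction_on with
  | empty =>
    intro N c hc
    rw [Finset.prod_empty] at hc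
    exact ⟨0, by rw [Finset.prod_empty]; exact associated_one_iff_isUnit.2 (isUnit_of_dvd_one hc)⟩
  | insert a s ha ih =>
    have ih' := ih fun i hi => hd i (Finset.mem_insert_of_mem hi)
    intro N c hc
    rw [Finset.prod_insert ha] at hc
    generalize N a = n at hc
    rcases hd a (Finset.mem_insert_self a s) with hu | hp
    · obtain ⟨f, hf⟩ := ih' N c ((hu.pow n).dvd_mul_left.1 hc)
      exact ⟨f, by rw [Finset.prod_insert ha]; exact hf.trans (associated_unit_mul_right _ _ (hu.pow (f a)))⟩
    induction n generalizing c with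
    | zero =>
      rw [pow_zero, one_mul] at hc
      obtain ⟨f, hf⟩ := ih' N c hc
      refine ⟨Function.update f a 0, ?_⟩
      rw [Finset.prod_insert ha, Function.update_self, pow_zero, one_mul]
      refine hf.trans (Associated.of_eq (Finset.prod_congr rfl fun i hi => ?_))
      rw [Function.update_of_ne (ne_of_mem_of_not_mem hi ha)]
    | succ n ih2 =>
      by_cases hdc : d a ∣ c
      · obtain ⟨c', rfl⟩ := hdc
        rw [pow_succ', mul_assoc] at hc
        obtain ⟨f, hf⟩ := ih2 c' ((mul_dvd_mul_iff_left hp.ne_zero).1 hc)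
        refine ⟨Function.update f a (f a + 1), ?_⟩
        rw [Finset.prod_insert ha] at hf ⊢
        rw [Function.update_self, pow_succ', mul_assoc]
        refine (hf.mul_left (d a)).trans (Associated.of_eq ?_)
        congr 2
        exact Finset.prod_congr rfl fun i hi => by rw [Function.update_of_ne (ne_of_mem_of_not_mem hi ha)]
      · obtain ⟨w, hw⟩ := hc
        rw [pow_succ', mul_assoc] at hw
        obtain ⟨v, rfl⟩ := (hp.dvd_or_dvd ⟨_, hw.symm⟩).resolve_left hdc
        refine ih2 c ⟨v, mul_left_cancel₀ hp.ne_zero ?_⟩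
        rw [hw]; ring

/-- A section of an invertible module with regular coordinates cuts out an inverse of it. -/
theorem nonempty_tensor_zeroScheme_iso {Y : Scheme.{u}} {L : Y.Modules} (hL : PicF.IsInvertible L)
    (σ : Coh.structureModule Y ⟶ L) (hσ : BlowUp.IsEffCartierIdeal (PicF2.zeroScheme L σ)) :
    Nonempty (CohB1.tensorMod L (ClSub.idealMod (PicF2.zeroScheme L σ)) ≅ Coh.structureModule Y) := by
  let I := PicF2.zeroScheme L σ
  have hloc : ∀ x : Y, ∃ (V : Y.Opens) (g : Γ(L, V)) (k : Γ(ClSub.idealMod I, V)), x ∈ V ∧ IsGen L V g ∧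
      IsGen (ClSub.idealMod I) V k ∧ (show Γ(Y, V) from (ClSub.idealModι I).app V k) • g = unitVal σ V := by
    intro x
    obtain ⟨U₀, hx₀, g₀, hg₀⟩ := exists_isGen hL x
    obtain ⟨U₁, hx₁, f, hf, hfI⟩ := hσ x
    obtain ⟨V, hV, hxV, hVle⟩ := exists_isAffineOpen_mem_and_subset (x := x) (U := U₀ ⊓ U₁.1) ⟨hx₀, hx₁⟩
    have hg := hg₀.restrict (fun z hz => (hVle hz).1 : V ≤ U₀)
    have hVU : V ≤ U₁.1 := fun z hz => (hVle hz).2
    have hI := ZeroSchLib.zeroScheme_ideal_eq_span σ hL ⟨V, hV⟩ hg
    have hnz : hg.coef le_rfl (unitVal σ V) ∈ nonZeroDivisors Γ(Y, V) := by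
      have h := ModPairLib.ideal_restrict I (V := ⟨V, hV⟩) hVU hfI
      rw [hI] at h
      have hf' := ModPairLib.res_mem_nonZeroDivisors (V := ⟨V, hV⟩) hVU hf
      obtain ⟨a, ha⟩ := Ideal.mem_span_singleton'.1 (h.le (Ideal.mem_span_singleton_self _))
      obtain ⟨b, hb⟩ := Ideal.mem_span_singleton'.1 (h.ge (Ideal.mem_span_singleton_self _))
      rw [← ha, ← mul_assoc] at hb
      replace hb : b * a = 1 := sub_eq_zero.1 (mem_nonZeroDivisors_iff_right.1 hf' _ (by rw [sub_mul, hb, one_mul, sub_self]))
      rw [← ha]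
      exact mul_mem (IsUnit.of_mul_eq_one_right b hb).mem_nonZeroDivisors hf'
    obtain ⟨k, hk, hkf⟩ := exists_gen_idealMod I ⟨V, hV⟩ hnz hI
    refine ⟨V, _, k, hxV, hg, hk, ?_⟩
    have hc := hg.coef_spec le_rfl (unitVal σ V)
    rw [resM_self] at hc
    exact (congrArg (fun r : Γ(Y, V) => r • _) hkf).trans hc
  choose V g k hxV hg hk hgk using hloc
  haveI := AmpleLib.mono_idealModι I
  obtain ⟨e, -⟩ := AmpleLib.exists_iso_of_gens V
    (top_le_iff.1 fun y _ => Opens.mem_iSup.2 ⟨y, hxV y⟩) (fun a => tmul (g a) (k a))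
    (fun a => isGen_tmul (hg a) (hk a)) (fun a => oneSec (V a)) (fun a => isGen_oneSec _) (fun a b W ha hb c hc => by
      let ga := resM L ha (g a); let gb := resM L hb (g b)
      let ka := resM _ ha (k a); let kb := resM _ hb (k b)
      have hgb : IsGen L W gb := (hg b).restrict hb
      obtain ⟨w, hw⟩ : ∃ w : Γ(Y, W), w • gb = ga :=
        ⟨hgb.coef le_rfl ga, by simpa only [resM_self] using hgb.coef_spec le_rfl ga⟩
      have hgen2 := isGen_tmul hgb ((hk b).restrict hb : IsGen _ W kb)
      have hka : w • ka = kb := by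
        apply Coherent.app_injective_of_mono (ClSub.idealModι I) W
        apply (hgb W le_rfl).1
        show (show Γ(Y, W) from (ClSub.idealModι I).app W (w • ka)) • resM L le_rfl gb =
          (show Γ(Y, W) from (ClSub.idealModι I).app W kb) • resM L le_rfl gb
        have ea := congrArg (resM L ha) (hgk a)
        have eb := congrArg (resM L hb) (hgk b)
        rw [resM_smul] at ea eb
        rw [resM_self]
        have h1 : (show Γ(Y, W) from (ClSub.idealModι I).app W kb) • gb = unitVal σ W := by
          rw [← resM_unitVal σ hb, ← eb, app_resM]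
          rfl
        have h2 : (show Γ(Y, W) from (ClSub.idealModι I).app W ka) • ga = unitVal σ W := by
          rw [← resM_unitVal σ ha, ← ea, app_resM]
          rfl
        rw [h1, ← h2, Scheme.Modules.Hom.app_smul, ← hw, smul_smul, mul_comm _ w]
        rfl
      have h1 : c = 1 := by
        refine (hgen2 W le_rfl).1 ?_
        simp only [resM_self, one_smul]
        rw [resM_tmul, resM_tmul] at hc
        rw [← hc]
        show tmul ga ka = tmul gb kb
        rw [← hw, ← hka, tmul_smul_left, tmul_smul_right]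
      rw [h1, one_smul, resM_oneSec, resM_oneSec])
  exact ⟨e⟩

variable (R : Type u) [CommRing R] [IsDomain R] [IsDiscreteValuationRing R]
variable {X : Over (Spec (CommRingCat.of R))} [IsIntegral X.left] [IsLocallyNoetherian X.left] [Flat X.hom]
variable (hreg : ∀ x : X.left, IsRegularLocalRing (X.left.presheaf.stalk x))
variable {n : ℕ} (Γ : Fin n → ArSurf.VertComp R X) (hΓ : Models.IsComponentList R X Γ)
include hreg hΓ

/-- An effective Cartier divisor below a multiple of the special fibre is a combination of components. -/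
theorem exists_eq_prod_of_pow_le (J : X.left.IdealSheafData) (hJ : BlowUp.IsEffCartierIdeal J)
    (hle : ∀ x : X.left, ∃ N : ℕ, stk (Models.specialFibreIdeal R X) x ^ N ≤ stk J x) :
    ∃ e : Fin n → ℕ, J = ∏ i, (Γ i).ι.ker ^ e i := by
  classical
  let D := fun i => (Γ i).ι.ker
  have hD := isEffCartier_listComp R Γ hreg hΓ
  have hloc : ∀ x, ∃ f : Fin n → ℕ, stk J x = stk (∏ i, D i ^ f i) x := by
    intro x
    obtain ⟨c, -, hc⟩ := exists_gen hJ x
    obtain ⟨N, hN⟩ := hle x
    choose d hd₀ hd using fun i => exists_gen (hD i) x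
    have hprod : ∀ f : Fin n → ℕ, stk (∏ i, D i ^ f i) x = Ideal.span {∏ i, d i ^ f i} := fun f => by
      rw [stk_prod, ← Ideal.prod_span_singleton]
      refine Finset.prod_congr rfl fun i _ => ?_
      rw [stk_pow, ← Ideal.span_singleton_pow]
      exact congrArg (· ^ _) (hd i)
    have hS : stk (Models.specialFibreIdeal R X) x ^ N =
        Ideal.span {∏ i, d i ^ (Models.mult R X (Γ i) * N)} := by
      rw [specialFibreIdeal_eq_prod R Γ hreg hΓ, hprod, Ideal.span_singleton_pow, ← Finset.prod_pow]
      simp only [pow_mul]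
    rw [hS, hc, Ideal.span_singleton_le_span_singleton] at hN
    have hdp : ∀ i ∈ (Finset.univ : Finset (Fin n)), IsUnit (d i) ∨ Prime (d i) := fun i _ => by
      by_cases hx : x ∈ (D i).support
      · refine Or.inr ((Ideal.span_singleton_prime (nonZeroDivisors.ne_zero (hd₀ i))).1 ?_)
        rw [← hd i]
        exact isPrime_stk (D := D i) hx
      · exact Or.inl (Ideal.span_singleton_eq_top.1 ((hd i).symm.trans (stk_eq_top hx)))
    haveI := hreg x
    haveI := CAlgH3.isDomain_of_isRegularLocalRing (X.left.presheaf.stalk x)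
    obtain ⟨f, hf⟩ := exists_associated_prod_pow Finset.univ d hdp _ c hN
    exact ⟨f, by rw [hc, hprod, Ideal.span_singleton_eq_span_singleton]; exact hf⟩
  have hgen : ∀ i, ∃ e : ℕ, stk J (gen (D i)) = maximalIdeal _ ^ e := fun i => by
    obtain ⟨f, hf⟩ := hloc (gen (D i))
    refine ⟨f i, hf.trans ?_⟩
    rw [stk_prod, Finset.prod_eq_single i (fun j _ hij => ?_) (by simp), stk_pow, stk_gen (hD i)]
    rw [stk_pow, stk_eq_top (fun hm => hij ?_), Ideal.top_pow, Ideal.one_eq_top]
    refine genPt_injective R Γ hΓ ?_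
    show (Γ j).ι _ = (Γ i).ι _
    rw [← gen_ker, ← gen_ker]
    exact (eq_gen_of_coheight_le (hD j) hm (coheight_gen (hD i)).le).symm
  choose e he using hgen
  refine ⟨e, ext_stk fun x => ?_⟩
  obtain ⟨f, hf⟩ := hloc x
  rw [hf, stk_prod, stk_prod]
  refine Finset.prod_congr rfl fun i _ => ?_
  by_cases hx : x ∈ (D i).support
  · have hix : gen (D i) ⤳ x := (isGenericPoint_gen (D i)).specializes hx
    have h1 : stk (∏ j, D j ^ f j) (gen (D i)) = maximalIdeal _ ^ f i := by
      rw [stk_prod, Finset.prod_eq_single i (fun j _ hij => ?_) (by simp), stk_pow, stk_gen (hD i)]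
      rw [stk_pow, stk_eq_top (fun hm => hij ?_), Ideal.top_pow, Ideal.one_eq_top]
      refine genPt_injective R Γ hΓ ?_
      show (Γ j).ι _ = (Γ i).ι _
      rw [← gen_ker, ← gen_ker]
      exact (eq_gen_of_coheight_le (hD j) hm (coheight_gen (hD i)).le).symm
    have h2 : stk J (gen (D i)) = maximalIdeal _ ^ f i := by
      rw [stk_specializes _ hix, hf, ← stk_specializes _ hix, h1]
    obtain ⟨_, _⟩ := SDiv28.StalkCartier.exists_dvr (hD i) _ (isGenericPoint_gen (D i))
    have hfe : f i = e i := (Ideal.pow_right_strictAnti _ (IsDiscreteValuationRing.not_a_field _)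
      (Ideal.IsPrime.ne_top inferInstance)).injective (h2.symm.trans (he i))
    rw [hfe]
  · rw [stk_pow, stk_pow, show stk (D i) x = ⊤ from stk_eq_top hx, Ideal.top_pow, Ideal.top_pow]

end Groth.Agent.Inters29
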