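import Groth.Agent.Inters29.Exist
import Groth.Agent.Inters29.Vertical
import Groth.Agent.Coherent.QcohOps
import Groth.Agent.PicLib.GenericTriv

/-!
# Generically trivial modules of degree zero on a reduced special fibre

Over a DVR, an invertible module on a proper flat family with reduced connected one-dimensional special
fibre that is trivial on the generic fibre and has degree zero on every component is trivial.
-/

set_option autoImplicit false
set_option linter.style.haveILetI false
set_option backward.isDefEq.respectTransparency false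

universe u

open CategoryTheory CategoryTheory.Limits AlgebraicGeometry TopologicalSpace IsLocalRing
open Groth.Agent.Coherent Groth.Agent.PicLib Groth.Agent.AmpleLib
open Groth.Agent.Misc15.DivDescent Groth.Agent.SDiv28.CartierPart

namespace Groth.Agent.Inters29

variable (R : Type u) [CommRing R] [IsDomain R] [IsDiscreteValuationRing R]
variable {X : Over (Spec (CommRingCat.of R))}

/-- A reduced scheme theoretic special fibre makes the special fibre ideal radical. -/
theorem specialFibreIdeal_eq_redFibreIdeal [QuasiCompact X.hom] (hred : IsReduced (X.hom.fiber (closedPoint R))) :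
    Models.specialFibreIdeal R X = Models.redFibreIdeal R X := by
  refine le_antisymm (Scheme.IdealSheafData.le_support_iff_le_vanishingIdeal.1
    (support_specialFibreIdeal R (X := X)).ge) ?_
  let c := Spec.map (CommRingCat.ofHom (IsLocalRing.residue R))
  haveI : IsClosedImmersion c := IsClosedImmersion.spec_of_surjective _ IsLocalRing.residue_surjective
  have hck : c.ker = Curv2.idealSheaf R (maximalIdeal R) := by
    refine Scheme.IdealSheafData.ext_of_isAffine ?_
    rw [Scheme.Hom.ker_apply]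
    simp only [Curv2.idealSheaf, Scheme.IdealSheafData.ofIdealTop_ideal, homOfLE_refl, op_id,
      CategoryTheory.Functor.map_id, CommRingCat.hom_id, Ideal.map_id]
    let e := (Scheme.ΓSpecIso (CommRingCat.of R)).symm.commRingCatIsoToRingEquiv
    have hn := Scheme.ΓSpecIso_inv_naturality (CommRingCat.ofHom (IsLocalRing.residue R))
    ext a
    obtain ⟨r, rfl⟩ := e.surjective a
    have h : c.appTop (e r) = (Scheme.ΓSpecIso (CommRingCat.of (ResidueField R))).inv (IsLocalRing.residue R r) :=
      (congr($hn r)).symm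
    have hr : e r ∈ Ideal.map e (maximalIdeal R) ↔ r ∈ maximalIdeal R :=
      ⟨fun h => by
        obtain ⟨b, hb, hbr⟩ := (Ideal.mem_map_iff_of_surjective e e.surjective).1 h
        exact e.injective hbr ▸ hb, fun h => Ideal.mem_map_of_mem e h⟩
    refine Iff.trans ?_ hr.symm
    rw [RingHom.mem_ker]
    show c.appTop (e r) = 0 ↔ _
    rw [h]
    exact ((Scheme.ΓSpecIso (CommRingCat.of (ResidueField R))).symm.commRingCatIsoToRingEquiv.map_eq_zero_iff).trans
      Ideal.Quotient.eq_zero_iff_mem
  let sp := Scheme.SpecToEquivOfField (ResidueField R) (Spec (CommRingCat.of R)) c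
  have hsp : Spec.map sp.2 ≫ (Spec (CommRingCat.of R)).fromSpecResidueField sp.1 = c :=
    (Scheme.SpecToEquivOfField (ResidueField R) (Spec (CommRingCat.of R))).left_inv c
  have hpt : sp.1 = closedPoint R := comap_closedPoint (IsLocalRing.residue R)
  obtain ⟨y, φ⟩ := sp
  change y = _ at hpt
  subst hpt
  let e : pullback X.hom c ⟶ X.hom.fiber (closedPoint R) :=
    pullback.lift (pullback.fst _ _) (pullback.snd _ _ ≫ Spec.map φ) (by
      rw [pullback.condition, Category.assoc]; exact congrArg (pullback.snd _ _ ≫ ·) hsp.symm)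
  have he : e ≫ X.hom.fiberι (closedPoint R) = pullback.fst X.hom c := pullback.lift_fst _ _ _
  have hle : (X.hom.fiberι (closedPoint R)).ker ≤ Models.specialFibreIdeal R X := by
    rw [Models.specialFibreIdeal, ← hck, ← Scheme.IdealSheafData.ker_fst_of_isClosedImmersion c X.hom, ← he]
    exact Scheme.Hom.le_ker_comp _ _
  refine le_trans (le_of_eq ?_) hle
  rw [Props12.ker_eq_vanishingIdeal]
  refine congrArg _ (SetLike.coe_injective ?_)
  show _ = closure (Set.range (X.hom.fiberι (closedPoint R)))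
  rw [Scheme.Hom.range_fiberι]
  exact (Models.isClosed_specialFibreSet R X).closure_eq.symm

/-- A one-dimensional irreducible closed subset of the special fibre is a vertical curve. -/
theorem exists_vertComp_of_dim {Z : Set X.left} (hZc : IsClosed Z) (hZi : IsIrreducible Z)
    (hZf : Z ⊆ Models.specialFibreSet R X) (hdim : topologicalKrullDim Z = 1) [QuasiCompact X.hom] :
    ∃ Γ : ArSurf.VertComp R X, Set.range Γ.ι.base = Z := by
  obtain ⟨z, hz⟩ := QuasiSober.sober hZi hZc
  let C : Closeds X.left := ⟨Z, hZc⟩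
  let I := Scheme.IdealSheafData.vanishingIdeal C
  let ι := I.subschemeι
  have hrange : Set.range ι.base = Z := by
    rw [Scheme.IdealSheafData.range_subschemeι, Scheme.IdealSheafData.coe_support_vanishingIdeal]
    rfl
  haveI : IsReduced I.subscheme := Props12.isReduced_subscheme_vanishingIdeal C
  haveI : IrreducibleSpace I.subscheme := by
    obtain ⟨z', hz'⟩ := hrange.ge hz.mem
    rw [irreducibleSpace_def, Set.top_eq_univ,
      ← (show closure ({z'} : Set I.subscheme) = Set.univ from Set.eq_univ_of_forall fun w =>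
        specializes_iff_mem_closure.1 (ι.isClosedEmbedding.isInducing.specializes_iff.1
          (hz' ▸ hz.specializes (hrange.le ⟨w, rfl⟩))))]
    exact isIrreducible_singleton.closure
  haveI : IsIntegral I.subscheme := isIntegral_of_irreducibleSpace_of_isReduced _
  let c := Spec.map (CommRingCat.ofHom (IsLocalRing.residue R))
  haveI : IsClosedImmersion c := IsClosedImmersion.spec_of_surjective _ IsLocalRing.residue_surjective
  have hker : c.ker ≤ (ι ≫ X.hom).ker := by
    rw [Props12.ker_eq_vanishingIdeal (ι ≫ X.hom)]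
    refine Scheme.IdealSheafData.le_support_iff_le_vanishingIdeal.1 ?_
    refine closure_minimal ?_ c.ker.support.isClosed
    rintro _ ⟨y, rfl⟩
    rw [Scheme.Hom.support_ker]
    refine subset_closure ⟨closedPoint _, ?_⟩
    rw [show (ι ≫ X.hom).base y = closedPoint R from
      (hZf (hrange.le ⟨y, rfl⟩) : X.hom (ι y) = closedPoint R)]
    exact comap_closedPoint (IsLocalRing.residue R)
  refine ⟨{ curve := Over.mk (IsClosedImmersion.lift c (ι ≫ X.hom) hker), ι := ι,
            isClosedImmersion := inferInstance, isIntegral := ‹_›, dim_eq := ?_,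
            w := (IsClosedImmersion.lift_fac c _ hker).symm }, hrange⟩
  show topologicalKrullDim I.subscheme = 1
  rw [← hdim, ← hrange]
  exact (ι.isClosedEmbedding.isEmbedding.toHomeomorph).isHomeomorph.topologicalKrullDim_eq

/-- Components of the special fibre are one-dimensional when those of the fibre scheme are. -/
theorem dim_fibreComponent (h : ∀ Z ∈ irreducibleComponents (X.hom.fiber (closedPoint R) : Type u),
    topologicalKrullDim Z = 1) {Z : Set X.left} (hZ : Z ∈ Models.fibreComponents R X) :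
    topologicalKrullDim Z = 1 := by
  let j := X.hom.fiberι (closedPoint R)
  have hj : Topology.IsEmbedding j := j.isEmbedding
  have hr : Set.range j = Models.specialFibreSet R X := X.hom.range_fiberι _
  let Z' : Set (X.hom.fiber (closedPoint R)) := j ⁻¹' Z
  have himg : j '' Z' = Z := Set.image_preimage_eq_of_subset (hr ▸ hZ.1.2)
  have hi : IsIrreducible Z' := by
    have hZc : IsClosed Z := by
      rw [← closure_eq_iff_isClosed]
      exact Set.Subset.antisymm (hZ.2 ⟨hZ.1.1.closure,
        (Models.isClosed_specialFibreSet R X).closure_subset_iff.2 hZ.1.2⟩ subset_closure) subset_closure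
    obtain ⟨z, hz⟩ := QuasiSober.sober hZ.1.1 hZc
    obtain ⟨z', hz'⟩ := hr.ge (hZ.1.2 hz.mem)
    have hzz : closure {z'} = Z' := Set.Subset.antisymm
      ((hZc.preimage j.continuous).closure_subset_iff.2 (Set.singleton_subset_iff.2 (by
        show j z' ∈ Z
        rw [hz']; exact hz.mem)))
      fun w hw => specializes_iff_mem_closure.1 (hj.isInducing.specializes_iff.1 (hz' ▸ hz.specializes hw))
    exact hzz ▸ isIrreducible_singleton.closure
  have hmax : Z' ∈ irreducibleComponents (X.hom.fiber (closedPoint R) : Type u) := by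
    refine ⟨hi, fun S hS hle => ?_⟩
    have h1 := hZ.2 ⟨hS.image j j.continuous.continuousOn, hr ▸ Set.image_subset_range _ _⟩
      (himg.ge.trans (Set.image_mono hle))
    exact fun s hs => h1 ⟨s, hs, rfl⟩
  rw [← h Z' hmax]
  let e : Z' ≃ₜ Z := (hj.homeomorphImage Z').trans (Homeomorph.setCongr himg)
  exact e.symm.isHomeomorph.topologicalKrullDim_eq

/-- The special fibre has finitely many maximal points. -/
theorem finite_maximal_points [IsProper X.hom] :
    {z : X.left | z ∈ Models.specialFibreSet R X ∧ ∀ w ∈ Models.specialFibreSet R X, w ⤳ z → w = z}.Finite ∧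
      ∀ z ∈ Models.specialFibreSet R X, (∀ w ∈ Models.specialFibreSet R X, w ⤳ z → w = z) →
        closure {z} ∈ Models.fibreComponents R X := by
  have hmem : ∀ z ∈ Models.specialFibreSet R X, (∀ w ∈ Models.specialFibreSet R X, w ⤳ z → w = z) →
      closure {z} ∈ Models.fibreComponents R X := by
    intro z hz hmax
    refine ⟨⟨isIrreducible_singleton.closure,
      (Models.isClosed_specialFibreSet R X).closure_subset_iff.2 (Set.singleton_subset_iff.2 hz)⟩,
      fun S ⟨hS, hSf⟩ hle => ?_⟩
    obtain ⟨g, hg⟩ := QuasiSober.sober hS.closure isClosed_closure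
    have hgf : g ∈ Models.specialFibreSet R X :=
      (Models.isClosed_specialFibreSet R X).closure_subset_iff.2 hSf hg.mem
    have hgw : g ⤳ z := hg.specializes (subset_closure (hle (subset_closure rfl)))
    rw [← hmax g hgf hgw, hg.def]
    exact subset_closure
  refine ⟨?_, hmem⟩
  haveI := isLocallyNoetherian_of_isProper R (X := X)
  haveI : CompactSpace X.left := (quasiCompact_iff_compactSpace X.hom).1 inferInstance
  haveI : IsNoetherian X.left := ⟨⟩
  have hfin : (Models.fibreComponents R X).Finite := by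
    obtain ⟨S, hSf, hSc, hSi, hS⟩ :=
      NoetherianSpace.exists_finite_set_isClosed_irreducible (Models.isClosed_specialFibreSet R X)
    refine hSf.subset fun Z hZ => ?_
    have hcov : Z ⊆ ⋃₀ ↑hSf.toFinset := by rw [hSf.coe_toFinset, ← hS]; exact hZ.1.2
    obtain ⟨t, ht, hZt⟩ := isIrreducible_iff_sUnion_isClosed.1 hZ.1.1 hSf.toFinset
      (fun t ht => hSc t (hSf.mem_toFinset.1 ht)) hcov
    rw [hSf.mem_toFinset] at ht
    rwa [le_antisymm hZt (hZ.2 ⟨hSi t ht, hS ▸ Set.subset_sUnion_of_mem ht⟩ hZt)]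
  refine Set.Finite.of_finite_image (f := fun z : X.left => closure {z})
    (hfin.subset (Set.image_subset_iff.2 fun z hz => hmem z hz.1 hz.2)) ?_
  exact fun a _ b _ h => (isGenericPoint_closure (x := a)).eq (show IsGenericPoint b (closure {a}) from h.symm)

/-- The uniformiser as a global function. -/
noncomputable abbrev unif (ϖ : R) : Γ(X.left, ⊤) := Coh.toGlobal X.hom ϖ

theorem mem_basicOpen_unif {ϖ : R} (hϖ : Irreducible ϖ) (x : X.left) :
    x ∈ X.left.basicOpen (unif R (X := X) ϖ) ↔ x ∉ Models.specialFibreSet R X := by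
  rw [show X.left.basicOpen (unif R (X := X) ϖ) = X.hom ⁻¹ᵁ (Spec (CommRingCat.of R)).basicOpen
    ((Scheme.ΓSpecIso (CommRingCat.of R)).inv ϖ) from (Scheme.preimage_basicOpen X.hom _).symm]
  show X.hom x ∈ (Spec (CommRingCat.of R)).basicOpen _ ↔ X.hom x ∉ ({closedPoint R} : Set _)
  rw [basicOpen_eq_of_affine]
  show ϖ ∉ (X.hom x).asIdeal ↔ _
  rcases base_eq_bot_or_closedPoint R (X.hom x) with h | h <;> rw [h]
  · exact iff_of_true (fun h' => hϖ.ne_zero (Ideal.mem_bot.1 h')) (bot_ne_closedPoint R)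
  · exact iff_of_false (not_not.2 ((mem_maximalIdeal ϖ).2 hϖ.not_isUnit)) (not_not.2 rfl)

theorem specialFibreIdeal_ideal {ϖ : R} (hϖ : Irreducible ϖ) (U : X.left.affineOpens) :
    (Models.specialFibreIdeal R X).ideal U = Ideal.span {PicLib.res le_top (unif R (X := X) ϖ)} := by
  rw [Models.specialFibreIdeal,
    ProjLib.comap_ideal_eq _ X.hom ⟨⊤, isAffineOpen_top (Spec (CommRingCat.of R))⟩ U le_top]
  have h : (Curv2.idealSheaf R (IsLocalRing.maximalIdeal R)).ideal ⟨⊤, isAffineOpen_top _⟩ =
      Ideal.span {(Scheme.ΓSpecIso (CommRingCat.of R)).inv.hom ϖ} := by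
    simp [Curv2.idealSheaf, hϖ.maximalIdeal_eq, Ideal.map_span]
  rw [h, Ideal.map_span, Set.image_singleton]
  rfl

variable [Flat X.hom]

theorem regular_unif {ϖ : R} (hϖ : Irreducible ϖ) (U : X.left.Opens) (hU : IsAffineOpen U)
    (a : Γ(X.left, U)) (h : resW (unif R (X := X) ϖ) U * a = 0) : a = 0 := by
  obtain ⟨φ, hφ⟩ := Spec.map_surjective (hU.fromSpec ≫ X.hom)
  have hfl : φ.hom.Flat := by
    have h : Flat (Spec.map φ) := hφ ▸ inferInstance
    rwa [HasRingHomProperty.Spec_iff (P := @Flat)] at h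
  algebraize [φ.hom]
  have hφ' : φ.hom ϖ = resW (unif R (X := X) ϖ) U := by
    have h2 := congrArg (fun ψ : Spec Γ(X.left, U) ⟶ _ =>
      (Scheme.ΓSpecIso Γ(X.left, U)).hom (ψ.appTop ((Scheme.ΓSpecIso (CommRingCat.of R)).inv ϖ))) hφ
    simp only [Scheme.Hom.comp_appTop, CommRingCat.comp_apply] at h2
    have h3 := congr($(Scheme.ΓSpecIso_naturality φ) ((Scheme.ΓSpecIso (CommRingCat.of R)).inv ϖ))
    simp only [CommRingCat.comp_apply, Iso.inv_hom_id_apply] at h3
    rw [← h3]
    refine h2.trans ?_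
    rw [show hU.fromSpec.appTop = _ from hU.fromSpec_app_of_le ⊤ le_top]
    simp [PicLib.resW, Coh.toGlobal]
    refine (congr($(Scheme.ΓSpecIso_naturality (X.left.presheaf.map (homOfLE (le_top : U ≤ ⊤)).op))
      ((Scheme.ΓSpecIso Γ(X.left, ⊤)).inv (X.hom.appTop ((Scheme.ΓSpecIso (CommRingCat.of R)).inv ϖ))))).trans ?_
    simp [Coh.toGlobal]
    rfl
  have h1 : ϖ • a = 0 := by
    show φ.hom ϖ * a = 0
    rw [hφ', h]
  exact (smul_eq_zero.1 h1).resolve_left hϖ.ne_zero

section Section

variable {ϖ : R} (hϖ : Irreducible ϖ) {L : X.left.Modules} (hL : PicF.IsInvertible L)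
variable {t : Γ(L, ⊤)} (ht : IsGen L (X.left.basicOpen (unif R (X := X) ϖ)) (resM L le_top t))
include hϖ hL ht

omit hϖ hL in
theorem coord_dvd (V : X.left.Opens) (hV : IsAffineOpen V) (e : Γ(L, V)) (he : IsGen L V e) :
    ∃ k : ℕ, he.coef le_rfl (unitVal (unitDesc L t) V) ∣ resW (unif R (X := X) ϖ) V ^ k := by
  let B := X.left.basicOpen (resW (unif R (X := X) ϖ) V)
  have hBV : B ≤ V := X.left.basicOpen_le _
  have hBD : B ≤ X.left.basicOpen (unif R (X := X) ϖ) := (inf_basicOpen _ V).le.trans inf_le_right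
  have hu := (he.restrict hBV).isUnit_coef (ht.restrict hBD)
  have hc2 := (he.restrict hBV).coef_spec le_rfl (resM L hBD (resM L le_top t))
  rw [resM_self, resM_resM] at hc2
  generalize hcdef : he.coef le_rfl (unitVal (unitDesc L t) V) = c
  have hc := congrArg (resM L hBV) (he.coef_spec le_rfl (unitVal (unitDesc L t) V))
  rw [hcdef, resM_self, resM_smul, unitVal_unitDesc, resM_resM] at hc
  have heq : X.left.presheaf.map (homOfLE hBV).op c =
      (he.restrict hBV).coef le_rfl (resM L hBD (resM L le_top t)) := by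
    refine ((he.restrict hBV) B le_rfl).1 ?_
    simp only [resM_self, resM_resM]
    rw [hc]
    exact hc2.symm
  rw [← heq] at hu
  have := hV.isLocalization_basicOpen (resW (unif R (X := X) ϖ) V)
  obtain ⟨b, hb⟩ := hu.exists_right_inv
  obtain ⟨⟨a, _, k, rfl⟩, hak⟩ := IsLocalization.surj (Submonoid.powers (resW (unif R (X := X) ϖ) V)) b
  simp only at hak
  have h1 : algebraMap Γ(X.left, V) _ (c * a) =
      algebraMap Γ(X.left, V) Γ(X.left, B) (resW (unif R (X := X) ϖ) V ^ k) := by
    rw [map_mul, ← hak, ← mul_assoc]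
    refine (congrArg (· * _) (?_ : algebraMap Γ(X.left, V) _ c * b = 1)).trans (one_mul _)
    exact hb
  obtain ⟨⟨_, l, rfl⟩, hl⟩ := (IsLocalization.eq_iff_exists
    (Submonoid.powers (resW (unif R (X := X) ϖ) V)) _).1 h1
  simp only at hl
  exact ⟨l + k, resW (unif R (X := X) ϖ) V ^ l * a, by rw [pow_add, ← hl]; ring⟩

theorem coord_mem_nonZeroDivisors (V : X.left.Opens) (hV : IsAffineOpen V) (e : Γ(L, V)) (he : IsGen L V e) :
    he.coef le_rfl (unitVal (unitDesc L t) V) ∈ nonZeroDivisors Γ(X.left, V) := by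
  obtain ⟨k, w, hw⟩ := coord_dvd R ht V hV e he
  have hp : resW (unif R (X := X) ϖ) V ^ k ∈ nonZeroDivisors Γ(X.left, V) :=
    pow_mem (mem_nonZeroDivisors_iff_right.2 fun a ha => regular_unif R hϖ V hV a (by rwa [mul_comm])) k
  refine mem_nonZeroDivisors_iff_right.2 fun a ha => mem_nonZeroDivisors_iff_right.1 hp a ?_
  rw [hw, ← mul_assoc, ha, zero_mul]

theorem isEffCartier_zeroScheme : BlowUp.IsEffCartierIdeal (PicF2.zeroScheme L (unitDesc L t)) := by
  intro x
  obtain ⟨U₀, hx₀, e₀, he₀⟩ := exists_isGen hL x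
  obtain ⟨V, hV, hxV, hVU⟩ := exists_isAffineOpen_mem_and_subset (x := x) (U := U₀) hx₀
  exact ⟨⟨V, hV⟩, hxV, _, coord_mem_nonZeroDivisors R hϖ hL ht V hV _ (he₀.restrict hVU),
    ZeroSchLib.zeroScheme_ideal_eq_span _ hL ⟨V, hV⟩ (he₀.restrict hVU)⟩

theorem support_zeroScheme_subset :
    ((PicF2.zeroScheme L (unitDesc L t)).support : Set X.left) ⊆ Models.specialFibreSet R X := by
  intro x hx
  by_contra hxf
  obtain ⟨U₀, hx₀, e₀, he₀⟩ := exists_isGen hL x
  obtain ⟨V, hV, hxV, hVU⟩ := exists_isAffineOpen_mem_and_subset (x := x) (U := U₀) hx₀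
  obtain ⟨k, hk⟩ := coord_dvd R ht V hV _ (he₀.restrict hVU)
  have h := (mem_support_iff_stk _ x).1 hx
  rw [stk_eq _ ⟨V, hV⟩ hxV, ZeroSchLib.zeroScheme_ideal_eq_span _ hL ⟨V, hV⟩ (he₀.restrict hVU), Ideal.map_span,
    Set.image_singleton, Ideal.span_singleton_le_iff_mem] at h
  refine (mem_maximalIdeal _).1 h (isUnit_of_dvd_unit (map_dvd (X.left.presheaf.germ V x hxV).hom hk) ?_)
  rw [map_pow]
  refine IsUnit.pow _ (((X.left.mem_basicOpen _ x hxV).1 ?_))
  rw [inf_basicOpen]
  exact ⟨hxV, (mem_basicOpen_unif R hϖ x).2 hxf⟩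

/-- A section vanishing on the whole special fibre is divisible by the uniformiser. -/
theorem exists_div (hred : Models.specialFibreIdeal R X = Models.redFibreIdeal R X)
    (hsub : Models.specialFibreSet R X ⊆ (PicF2.zeroScheme L (unitDesc L t)).support) :
    ∃ t' : Γ(L, ⊤), resW (unif R (X := X) ϖ) ⊤ • t' = t := by
  have hle : PicF2.zeroScheme L (unitDesc L t) ≤ Models.specialFibreIdeal R X :=
    hred ▸ Scheme.IdealSheafData.le_support_iff_le_vanishingIdeal.1 hsub
  have hloc : ∀ x : X.left, ∃ (V : X.left.Opens) (v : Γ(L, V)), x ∈ V ∧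
      resW (unif R (X := X) ϖ) V • v = resM L le_top t := by
    intro x
    obtain ⟨U₀, hx₀, e₀, he₀⟩ := exists_isGen hL x
    obtain ⟨V, hV, hxV, hVU⟩ := exists_isAffineOpen_mem_and_subset (x := x) (U := U₀) hx₀
    have hmem := hle ⟨V, hV⟩ ((ZeroSchLib.zeroScheme_ideal_eq_span _ hL ⟨V, hV⟩ (he₀.restrict hVU)).ge
      (Ideal.mem_span_singleton_self _))
    rw [specialFibreIdeal_ideal R hϖ] at hmem
    obtain ⟨a, ha⟩ := Ideal.mem_span_singleton'.1 hmem
    refine ⟨V, a • resM L hVU e₀, hxV, ?_⟩
    have hc := (he₀.restrict hVU).coef_spec le_rfl (unitVal (unitDesc L t) V)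
    rw [resM_self, ← ha] at hc
    rw [← unitVal_unitDesc L t V, ← hc, smul_smul, mul_comm]
  choose V v hxV hv using hloc
  have hreg := regular_unif R (X := X) hϖ
  have compat : TopCat.Presheaf.IsCompatible (Coh.toAb L).obj V v := by
    intro a b
    change resM L inf_le_left (v a) = resM L inf_le_right (v b)
    refine resM_injective_of_regular hreg hL ?_
    have hu : IsUnit (resW (unif R (X := X) ϖ) (V a ⊓ V b ⊓ X.left.basicOpen (unif R (X := X) ϖ))) :=
      isUnit_resW _ inf_le_right
    refine hu.smul_left_cancel.1 ?_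
    have ea := congrArg (resM L ((inf_le_left.trans inf_le_left) :
      V a ⊓ V b ⊓ X.left.basicOpen (unif R (X := X) ϖ) ≤ V a)) (hv a)
    have eb := congrArg (resM L ((inf_le_left.trans inf_le_right) :
      V a ⊓ V b ⊓ X.left.basicOpen (unif R (X := X) ϖ) ≤ V b)) (hv b)
    rw [resM_smul, resW_res, resM_resM] at ea eb
    rw [resM_resM, resM_resM, ea, eb]
  obtain ⟨t', ht', -⟩ := TopCat.Sheaf.existsUnique_gluing' (X := X.left.toTopCat) (Coh.toAb L)
    V ⊤ (fun a => homOfLE le_top) (fun y _ => Opens.mem_iSup.2 ⟨y, hxV y⟩) v compat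
  refine ⟨t', sec_ext _ _ _ fun x _ => ⟨V x, le_top, hxV x, ?_⟩⟩
  rw [resM_smul, resW_res, show resM L le_top t' = v x from ht' x, hv]

end Section

omit [Flat X.hom] in
/-- Divisors supported in the special fibre contain a component through each of their points. -/
theorem exists_maximal_support [IsLocallyNoetherian X.left] [Flat X.hom] (I : X.left.IdealSheafData)
    (hI : BlowUp.IsEffCartierIdeal I) (hsub : (I.support : Set X.left) ⊆ Models.specialFibreSet R X)
    {z : X.left} (hz : z ∈ I.support) :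
    ∃ w ∈ I.support, w ⤳ z ∧ ∀ v ∈ Models.specialFibreSet R X, v ⤳ w → v = w := by
  obtain ⟨w, ⟨hw, hwz⟩, hmin⟩ := (wellFounded_lt (α := ℕ∞)).onFun.has_min
    (r := Function.onFun (· < ·) (fun w : X.left => Order.coheight w))
    {w | w ∈ I.support ∧ w ⤳ z} ⟨z, hz, specializes_rfl⟩
  refine ⟨w, hw, hwz, fun v hv hvw => by_contra fun hne => ?_⟩
  have hfin : ∀ v : X.left, Order.coheight v ≠ ⊤ := fun v htop => by
    have h := ringKrullDim_stalk_eq_coheight (X := X.left) v
    rw [htop] at h
    exact ringKrullDim_ne_top (R := X.left.presheaf.stalk v) h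
  obtain ⟨g, -, hg⟩ := exists_gen hI w
  have hmem : maximalIdeal (X.left.presheaf.stalk w) ∈ (Ideal.span {g}).minimalPrimes := by
    refine ⟨⟨inferInstance, hg ▸ (mem_support_iff_stk I w).1 hw⟩, fun Q ⟨hQ, hgQ⟩ hle => ?_⟩
    let P : PrimeSpectrum (X.left.presheaf.stalk w) := ⟨Q, hQ⟩
    let i := X.left.fromSpecStalk w
    have hu : i P ∈ I.support := (fromSpecStalk_mem_support_iff _ P).2 (hg ▸ hgQ)
    have huw : i P ⤳ w := Scheme.range_fromSpecStalk.le ⟨P, rfl⟩
    have he : i P = i (closedPoint (X.left.presheaf.stalk w)) := by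
      rw [Scheme.fromSpecStalk_closedPoint]
      by_contra hne'
      refine hmin (i P) ⟨hu, huw.trans hwz⟩ ?_
      exact lt_of_lt_of_le ((ENat.lt_add_one_iff (hfin _)).2 le_rfl) (dim_add_one_le huw hne')
    exact (congrArg PrimeSpectrum.asIdeal (i.isEmbedding.injective he)).ge
  have hh := Ideal.height_le_one_of_isPrincipal_of_mem_minimalPrimes (Ideal.span {g}) _ hmem
  have h := ringKrullDim_stalk_eq_coheight (X := X.left) w
  rw [← IsLocalRing.maximalIdeal_height_eq_ringKrullDim] at h
  have hco : Order.coheight w ≤ 1 := (WithBot.coe_inj.1 h) ▸ hh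
  let bot : Spec (CommRingCat.of R) := (⟨⊥, Ideal.isPrime_bot⟩ : PrimeSpectrum R)
  obtain ⟨y, hy, hpy⟩ := Flat.generalizingMap X.hom
    ((PrimeSpectrum.le_iff_specializes _ _).1 bot_le : bot ⤳ X.hom v)
  have hyv : y ≠ v := fun e => bot_ne_closedPoint R (hpy.symm.trans ((congrArg _ e).trans hv))
  have h1 := dim_add_one_le hy hyv
  have h2 := (dim_add_one_le hvw hne).trans hco
  have h3 : (1 : ℕ∞) + 1 ≤ 1 := (add_le_add_left (le_trans le_add_self h1) 1).trans h2
  exact absurd h3 (by decide)

/-- An invertible module that is generated off the special fibre and has degree zero on every component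
is trivial, when the special fibre is reduced, connected and one-dimensional. -/
theorem trivial_of_inter_eq_zero [IsProper X.hom]
    (hred : Models.specialFibreIdeal R X = Models.redFibreIdeal R X)
    (hdim : ∀ Z ∈ Models.fibreComponents R X, topologicalKrullDim Z = 1)
    (hconn : _root_.IsConnected (Models.specialFibreSet R X))
    {ϖ : R} (hϖ : Irreducible ϖ) (L : X.left.Modules) (hL : PicF.IsInvertible L)
    (s : Γ(L, X.left.basicOpen (unif R (X := X) ϖ))) (hs : IsGen L _ s)
    (hdeg : ∀ Γ : ArSurf.VertComp R X, ArSurf.inter R X L Γ = 0) :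
    Nonempty (L ≅ Coh.structureModule X.left) := by
  haveI := isLocallyNoetherian_of_isProper R (X := X)
  haveI : CompactSpace X.left := (quasiCompact_iff_compactSpace X.hom).1 inferInstance
  haveI : Coh.IsQCoh L := AmpleLib.isQCoh_of_isInvertible hL
  haveI : X.left.IsSeparated := ⟨by
    rw [terminal.hom_ext (terminal.from X.left) (X.hom ≫ terminal.from _)]; infer_instance⟩
  let π := unif R (X := X) ϖ
  obtain ⟨N, t₀, ht₀⟩ := Coherent.qcqs_exists_pow_smul L (U := ⊤) CompactSpace.isCompact_univ
    isQuasiSeparated_univ π s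
  have hgen₀ : IsGen L (X.left.basicOpen π) (resM L le_top t₀) := by
    rw [show resM L (le_top : X.left.basicOpen π ≤ ⊤) t₀ = _ from ht₀]
    refine (AmpleLib.isGen_smul_iff ?_).2 hs
    rw [map_pow]
    exact (X.left.toRingedSpace.isUnit_res_basicOpen π).pow N
  obtain ⟨z₀, hz₀⟩ := hconn.nonempty
  have hdiv : ∀ (t : Γ(L, ⊤)) (n : ℕ), resW π ⊤ ^ n • t = t₀ → IsGen L (X.left.basicOpen π) (resM L le_top t) := by
    intro t n h
    rw [← h, resM_smul, map_pow, resW_res] at hgen₀
    exact (AmpleLib.isGen_smul_iff ((isUnit_resW _ le_rfl).pow n)).1 hgen₀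
  have hbound : ∃ n, ∀ t : Γ(L, ⊤), resW π ⊤ ^ n • t ≠ t₀ := by
    by_contra hc
    push Not at hc
    obtain ⟨U₀, hx₀, e₀, he₀⟩ := exists_isGen hL z₀
    obtain ⟨V, hV, hxV, hVU⟩ := exists_isAffineOpen_mem_and_subset (x := z₀) (U := U₀) hx₀
    let he := he₀.restrict hVU
    let q := X.left.presheaf.germ V z₀ hxV
    have hmem : ∀ n : ℕ, q (he.coef le_rfl (resM L le_top t₀)) ∈ maximalIdeal (X.left.presheaf.stalk z₀) ^ n := by
      intro n
      obtain ⟨t, ht⟩ := hc n
      have hcoef : he.coef le_rfl (resM L le_top t₀) = resW π V ^ n * he.coef le_rfl (resM L le_top t) := by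
        refine (he V le_rfl).1 ?_
        show _ • resM L le_rfl (resM L hVU e₀) = _ • resM L le_rfl (resM L hVU e₀)
        rw [mul_smul, he.coef_spec, he.coef_spec, ← ht, resM_smul, map_pow, resW_res]
      rw [hcoef, map_mul, map_pow]
      refine Ideal.mul_mem_right _ _ (Ideal.pow_mem_pow ?_ n)
      refine (mem_maximalIdeal _).2 fun hu => ?_
      have hz := (X.left.mem_basicOpen (resW π V) z₀ hxV).2 hu
      rw [inf_basicOpen] at hz
      exact (mem_basicOpen_unif R hϖ z₀).1 hz.2 hz₀
    have h0 : q (he.coef le_rfl (resM L le_top t₀)) = 0 := by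
      have h : q (he.coef le_rfl (resM L le_top t₀)) ∈ ⨅ n, maximalIdeal (X.left.presheaf.stalk z₀) ^ n :=
        (Ideal.mem_iInf).2 hmem
      rwa [Ideal.iInf_pow_eq_bot_of_isLocalRing _ (maximalIdeal.isMaximal _).ne_top, Ideal.mem_bot] at h
    have hnz := germ_mem_nonZeroDivisors ⟨V, hV⟩ (coord_mem_nonZeroDivisors R hϖ hL hgen₀ V hV _ he) hxV
    rw [unitVal_unitDesc] at hnz
    exact nonZeroDivisors.ne_zero hnz h0
  classical
  obtain ⟨m, hm⟩ : ∃ m, Nat.find hbound = m + 1 := Nat.exists_eq_succ_of_ne_zero fun h0 => by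
    have h := Nat.find_spec hbound t₀
    rw [h0, pow_zero, one_smul] at h
    exact h rfl
  obtain ⟨t, ht⟩ := not_forall_not.1 (Nat.find_min hbound (hm ▸ Nat.lt_succ_self m : m < Nat.find hbound))
  have hgen := hdiv t m ht
  let σ := unitDesc L t
  let I := PicF2.zeroScheme L σ
  have hI : BlowUp.IsEffCartierIdeal I := isEffCartier_zeroScheme R hϖ hL hgen
  have hIf := support_zeroScheme_subset R hϖ hL hgen
  have hnot : ¬ Models.specialFibreSet R X ⊆ I.support := fun hsub => by
    obtain ⟨t', ht'⟩ := exists_div R hϖ hL hgen hred hsub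
    refine Nat.find_spec hbound t' ?_
    rw [hm, pow_succ, mul_smul, ht', ht]
  have hempty : (I.support : Set X.left) = ∅ := by
    by_contra hne
    obtain ⟨hfin, hmax⟩ := finite_maximal_points R (X := X)
    let T := {z : X.left | z ∈ Models.specialFibreSet R X ∧ (∀ w ∈ Models.specialFibreSet R X, w ⤳ z → w = z) ∧
      z ∉ I.support}
    let B := ⋃ z ∈ T, closure {z}
    have hT : T.Finite := hfin.subset fun z hz => ⟨hz.1, hz.2.1⟩
    have hBc : IsClosed B := hT.isClosed_biUnion fun z _ => isClosed_closure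
    have hcov : Models.specialFibreSet R X ⊆ (I.support : Set X.left) ∪ B := fun z hz => by
      obtain ⟨w, hw, hwz, hwmax⟩ := exists_maximal_generization R (X := X) hz
      by_cases hwI : w ∈ I.support
      · exact Or.inl (hwz.mem_closed I.support.isClosed hwI)
      · exact Or.inr (Set.mem_biUnion (⟨hw, hwmax, hwI⟩ : w ∈ T) hwz.mem_closure)
    obtain ⟨a, ha⟩ := Set.nonempty_iff_ne_empty.2 hne
    obtain ⟨b, hb, hbI⟩ := Set.not_subset.1 hnot
    obtain ⟨z, -, hzI, hzB⟩ := isPreconnected_closed_iff.1 hconn.isPreconnected _ B I.support.isClosed hBc hcov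
      ⟨a, hIf ha, ha⟩ ⟨b, hb, (hcov hb).resolve_left hbI⟩
    obtain ⟨w, hwT, hzw⟩ := Set.mem_iUnion₂.1 hzB
    have hZ := hmax w hwT.1 hwT.2.1
    obtain ⟨Γ, hΓ⟩ := exists_vertComp_of_dim R (X := X) isClosed_closure isIrreducible_singleton.closure
      ((Models.isClosed_specialFibreSet R X).closure_subset_iff.2 (Set.singleton_subset_iff.2 hwT.1)) (hdim _ hZ)
    haveI := isProper_curve R Γ
    have hgenI : Γ.ι.base (genericPoint Γ.curve.left) ∉ (I.support : Set X.left) := by
      rw [(genPt_isGenericPoint R Γ).eq (show IsGenericPoint w (Set.range Γ.ι.base) from hΓ.symm)]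
      exact hwT.2.2
    obtain ⟨e⟩ := nonempty_tensor_zeroScheme_iso hL σ hI
    have hd := (inter_eq_zero_iff R Γ I hI hgenI L ⟨e⟩).1 (hdeg Γ)
    exact Set.disjoint_left.1 hd (hΓ.ge hzw) hzI
  obtain ⟨e⟩ := nonempty_tensor_zeroScheme_iso hL σ hI
  have hI1 : I = (1 : X.left.IdealSheafData) := by
    refine ext_stk fun x => ?_
    have h1 : x ∉ I.support := fun hx => (Set.eq_empty_iff_forall_notMem.1 hempty x) hx
    rw [stk_eq_top h1, stk_eq_top]
    rw [Scheme.IdealSheafData.one_eq_top, Scheme.IdealSheafData.support_top]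
    exact fun h => h
  have h : PicM.of hL * idealCl I hI = 1 := by
    simp only [idealCl, PicM.of_mul, PicM.of_eq_one_iff]
    exact ⟨e⟩
  rw [idealCl_congr hI1 hI isEffCartier_one, idealCl_one, mul_one] at h
  exact (PicM.of_eq_one_iff hL).1 h

end Groth.Agent.Inters29
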