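import Groth.Agent.Inters29.GenTriv

/-!
# The special fibre as a closed subscheme
-/

set_option autoImplicit false
set_option linter.style.haveILetI false
set_option backward.isDefEq.respectTransparency false

universe u

open CategoryTheory CategoryTheory.Limits AlgebraicGeometry TopologicalSpace IsLocalRing

namespace Groth.Agent.Inters29

variable (R : Type u) [CommRing R] [IsDomain R] [IsDiscreteValuationRing R]

theorem isClosedImmersion_residue :
    IsClosedImmersion (Spec.map (CommRingCat.ofHom (IsLocalRing.residue R))) :=
  IsClosedImmersion.spec_of_surjective _ IsLocalRing.residue_surjective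

/-- The kernel of the closed point. -/
theorem ker_residue :
    (Spec.map (CommRingCat.ofHom (IsLocalRing.residue R))).ker = Curv2.idealSheaf R (maximalIdeal R) := by
  let c := Spec.map (CommRingCat.ofHom (IsLocalRing.residue R))
  haveI : IsClosedImmersion c := isClosedImmersion_residue R
  refine Scheme.IdealSheafData.ext_of_isAffine ?_
  rw [Scheme.Hom.ker_apply]
  simp only [Curv2.idealSheaf, Scheme.IdealSheafData.ofIdealTop_ideal, homOfLE_refl, op_id,
    CategoryTheory.Functor.map_id, CommRingCat.hom_id, Ideal.map_id]
  let e := (Scheme.ΓSpecIso (CommRingCat.of R)).symm.commRingCatIsoToRingEquiv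
  have hn := Scheme.ΓSpecIso_inv_naturality (CommRingCat.ofHom (IsLocalRing.residue R))
  ext a
  obtain ⟨r, rfl⟩ := e.surjective a
  have h : c.appTop (e r) = (Scheme.ΓSpecIso (CommRingCat.of (ResidueField R))).inv (IsLocalRing.residue R r) :=
    (congr($hn r)).symm
  have hr : e r ∈ Ideal.map e (maximalIdeal R) ↔ r ∈ maximalIdeal R :=
    ⟨fun h => by
      obtain ⟨b, hb, hbr⟩ := (Ideal.mem_map_iff_of_surjective e e.surjective).1 h
      exact e.injective hbr ▸ hb, fun h => Ideal.mem_map_of_mem e h⟩
  refine Iff.trans ?_ hr.symm
  rw [RingHom.mem_ker]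
  show c.appTop (e r) = 0 ↔ _
  rw [h]
  exact ((Scheme.ΓSpecIso (CommRingCat.of (ResidueField R))).symm.commRingCatIsoToRingEquiv.map_eq_zero_iff).trans
    Ideal.Quotient.eq_zero_iff_mem

/-- The special fibre is cut out by the special fibre ideal. -/
theorem ker_fst_specialFibre {X : Over (Spec (CommRingCat.of R))} [QuasiCompact X.hom] :
    (pullback.fst X.hom (Spec.map (CommRingCat.ofHom (IsLocalRing.residue R)))).ker =
      Models.specialFibreIdeal R X := by
  haveI := isClosedImmersion_residue R
  rw [Models.specialFibreIdeal, ← ker_residue R, ← Scheme.IdealSheafData.ker_fst_of_isClosedImmersion _ X.hom]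

end Groth.Agent.Inters29
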