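import Groth.Agent.Inters29.Fibre
import Groth.Agent.CAlgH3.RegularLocal
import Groth.Prelude.Def_Curve
import Mathlib.AlgebraicGeometry.PullbackCarrier

/-!
# Regular models of integral curves are integral
-/

set_option autoImplicit false
set_option linter.style.haveILetI false

universe u

open CategoryTheory CategoryTheory.Limits AlgebraicGeometry TopologicalSpace IsLocalRing

namespace Groth.Agent.Inters29

variable (R : Type u) [CommRing R] [IsDomain R] [IsDiscreteValuationRing R]

theorem isIntegral_model {C X : Scheme.{u}} {f : C ⟶ Spec (CommRingCat.of (FractionRing R))}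
    {p : X ⟶ Spec (CommRingCat.of R)} [IsIntegral C] (hX : Models.IsModel R X p C f)
    (hreg : Models.IsRegularScheme X) : IsIntegral X := by
  obtain ⟨hflat, hlft, -, g, hg⟩ := hX
  haveI := hflat
  haveI : ∀ x : X, _root_.IsReduced (X.presheaf.stalk x) := fun x => by
    haveI := hreg x
    haveI := CAlgH3.isDomain_of_isRegularLocalRing (X.presheaf.stalk x)
    infer_instance
  haveI := isReduced_of_isReduced_stalk X
  let η := g (genericPoint C)
  have hrange : ∀ y : X, p y = (⟨⊥, Ideal.isPrime_bot⟩ : PrimeSpectrum R) → y ∈ Set.range g := by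
    intro y hy
    rw [← hg.isoPullback_hom_fst, Scheme.Hom.comp_base, TopCat.coe_comp, Set.range_comp,
      Set.range_eq_univ.2 hg.isoPullback.hom.surjective, Set.image_univ, Scheme.Pullback.range_fst]
    refine ⟨(⟨⊥, Ideal.isPrime_bot⟩ : PrimeSpectrum (FractionRing R)), ?_⟩
    rw [hy]
    exact PrimeSpectrum.ext (Ideal.comap_bot_of_injective _ (IsFractionRing.injective R (FractionRing R)))
  have hall : ∀ x : X, η ⤳ x := by
    intro x
    let bot : Spec (CommRingCat.of R) := (⟨⊥, Ideal.isPrime_bot⟩ : PrimeSpectrum R)
    obtain ⟨y, hy, hpy⟩ := Flat.generalizingMap p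
      ((PrimeSpectrum.le_iff_specializes (⟨⊥, Ideal.isPrime_bot⟩ : PrimeSpectrum R) _).1 bot_le :
        bot ⤳ p x)
    obtain ⟨c, rfl⟩ := hrange y hpy
    exact ((((genericPoint_spec C).specializes (Set.mem_univ c))).map g.continuous).trans hy
  haveI : IrreducibleSpace X := by
    rw [irreducibleSpace_def, Set.top_eq_univ, ← (show closure ({η} : Set X) = Set.univ from
      Set.eq_univ_of_forall fun x => specializes_iff_mem_closure.1 (hall x))]
    exact isIrreducible_singleton.closure
  exact isIntegral_of_irreducibleSpace_of_isReduced X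

end Groth.Agent.Inters29
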