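import Groth.Agent.Inters29.Exist
import Groth.Agent.Inters29.Model
import Groth.Agent.CAlgH.CIImmersion
import Groth.Agent.AbVarLib.GeomIntegralSmooth
import Groth.Agent.CurveRR24.RR
import Groth.Agent.EulerLib.SupportVanishing
import Groth.Agent.DimLib.Points
import Groth.Prelude.Def_ModelsG

/-!
# Generic fibres of regular models with constants `K`
-/

set_option autoImplicit false
set_option linter.style.haveILetI false
set_option backward.isDefEq.respectTransparency.types false

universe u

open CategoryTheory CategoryTheory.Limits AlgebraicGeometry TopologicalSpace IsLocalRing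
open Groth.Agent.Coherent Groth.Agent.EulerLib Groth.Agent.CurveRR24

namespace Groth.Agent.Inters29

/-- A scheme over a field with `h⁰(O) = 1` is connected. -/
theorem connectedSpace_of_finrank_structure (k : Type u) [Field k] {X : Scheme.{u}}
    [X.Over (Spec (CommRingCat.of k))]
    (h : Module.finrank k (Coh.HH X (Coh.structureModule X) 0) = 1) : ConnectedSpace X := by
  rw [(hhZero k (Coh.structureModule X)).finrank_eq] at h
  have hne : Nonempty X := by
    by_contra hn
    rw [not_nonempty_iff] at hn
    haveI : Subsingleton Γ(X, ⊤) := CommRingCat.subsingleton_of_isTerminal (by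
      rw [show (⊤ : X.Opens) = ⊥ from Opens.ext (Set.eq_empty_of_isEmpty _)]
      exact X.sheaf.isTerminalOfEmpty)
    haveI : Subsingleton (GA (baseHom k X) (Coh.structureModule X)) :=
      (inferInstanceAs (Subsingleton Γ(X, ⊤)))
    rw [Module.finrank_zero_of_subsingleton] at h
    exact zero_ne_one h
  obtain ⟨x₀⟩ := hne
  haveI : Nonempty (⊤ : X.Opens) := ⟨⟨x₀, trivial⟩⟩
  have h1 : (show GA (baseHom k X) (Coh.structureModule X) from (1 : Γ(X, ⊤))) ≠ 0 :=
    fun he => one_ne_zero (α := Γ(X, ⊤)) he
  have hspan : ∀ e : Γ(X, ⊤), ∃ c : k, baseHom k X c = e := fun e => by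
    obtain ⟨c, hc⟩ := exists_smul_eq_of_finrank_eq_one h h1
      (show GA (baseHom k X) (Coh.structureModule X) from e)
    exact ⟨c, (mul_one _).symm.trans hc⟩
  refine { isPreconnected_univ := ?_, toNonempty := ⟨x₀⟩ }
  suffices h2 : PreconnectedSpace X from h2.isPreconnected_univ
  refine preconnectedSpace_iff_clopen.2 fun s hs => ?_
  let U : X.Opens := ⟨s, hs.2⟩
  let V : X.Opens := ⟨sᶜ, hs.1.isOpen_compl⟩
  let W : ULift.{u} Bool → X.Opens := fun b => if b.down then U else V
  let sf : ∀ b, Γ(X, W b) := fun b =>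
    match b with
    | ⟨true⟩ => (1 : Γ(X, U))
    | ⟨false⟩ => (0 : Γ(X, V))
  have hcompat : TopCat.Presheaf.IsCompatible X.presheaf W sf := by
    have hsub : Subsingleton Γ(X, U ⊓ V) := CommRingCat.subsingleton_of_isTerminal (by
      rw [show U ⊓ V = ⊥ from Opens.ext (Set.inter_compl_self s)]
      exact X.sheaf.isTerminalOfEmpty)
    have hsub' : Subsingleton Γ(X, V ⊓ U) := inf_comm U V ▸ hsub
    rintro ⟨_ | _⟩ ⟨_ | _⟩
    · rfl
    · exact hsub'.elim _ _
    · exact hsub.elim _ _
    · rfl
  obtain ⟨e, he, -⟩ := X.sheaf.existsUnique_gluing' W ⊤ (fun _ => homOfLE le_top)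
    (fun z _ => by
      by_cases hz : z ∈ s
      · exact Opens.mem_iSup.2 ⟨⟨true⟩, hz⟩
      · exact Opens.mem_iSup.2 ⟨⟨false⟩, hz⟩) sf hcompat
  obtain ⟨c, rfl⟩ := hspan e
  rcases eq_or_ne c 0 with rfl | hc
  · refine Or.inl (Set.eq_empty_of_forall_notMem fun z hz => ?_)
    have h01 := he ⟨true⟩
    rw [map_zero] at h01
    haveI : Subsingleton Γ(X, U) := subsingleton_of_zero_eq_one ((map_zero _).symm.trans h01)
    exact not_subsingleton (X.presheaf.stalk z) (subsingleton_of_zero_eq_one (by
      rw [← map_zero (X.presheaf.germ U z hz).hom, ← map_one (X.presheaf.germ U z hz).hom,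
        Subsingleton.elim (0 : Γ(X, U)) 1]))
  · refine Or.inr (Set.eq_univ_of_forall fun z => ?_)
    by_contra hz
    have h01 := he ⟨false⟩
    have hu : IsUnit (X.presheaf.germ V z hz (0 : Γ(X, V))) := by
      rw [show (0 : Γ(X, V)) = _ from h01.symm]
      exact (((IsUnit.mk0 c hc).map (baseHom k X)).map (X.presheaf.map _).hom).map
        (X.presheaf.germ V z hz).hom
    rw [map_zero] at hu
    exact not_isUnit_zero hu

variable (K : Type u) [Field K] {C : Scheme.{u}} (f : C ⟶ Spec (CommRingCat.of K))

/-- A smooth proper scheme with one-dimensional `H⁰` of the structure sheaf is integral. -/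
theorem isIntegral_of_hRank [IsProper f] [Smooth f]
    (h : Models.hRank K C f (Coh.structureModule C) 0 = 1) : IsIntegral C := by
  letI : C.Over (Spec (CommRingCat.of K)) := ⟨f⟩
  haveI : ConnectedSpace C := connectedSpace_of_finrank_structure K h
  exact AbVarLib.isIntegral_of_smooth_connected f

/-- One-dimensional `H⁰` means that the global functions are the constants. -/
theorem isIso_appTop_of_hRank [IsProper f] [Smooth f]
    (h : Models.hRank K C f (Coh.structureModule C) 0 = 1) : IsIso f.appTop := by
  letI : C.Over (Spec (CommRingCat.of K)) := ⟨f⟩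
  haveI := isIntegral_of_hRank K f h
  have h' : Module.finrank K (Coh.HH C (Coh.structureModule C) 0) = 1 := h
  rw [(hhZero K (Coh.structureModule C)).finrank_eq] at h'
  haveI : Nonempty (⊤ : C.Opens) := ⟨⟨genericPoint C, trivial⟩⟩
  let e := (Scheme.ΓSpecIso (CommRingCat.of K)).symm.commRingCatIsoToRingEquiv
  have h1 : (show GA (baseHom K C) (Coh.structureModule C) from (1 : Γ(C, ⊤))) ≠ 0 :=
    fun he => one_ne_zero (α := Γ(C, ⊤)) he
  refine (ConcreteCategory.isIso_iff_bijective f.appTop).2 ⟨fun a b hab => ?_, fun s => ?_⟩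
  · obtain ⟨a, rfl⟩ := e.surjective a
    obtain ⟨b, rfl⟩ := e.surjective b
    exact congrArg e ((f.appTop.hom.comp e.toRingHom).injective hab)
  · obtain ⟨c, hc⟩ := exists_smul_eq_of_finrank_eq_one h' h1
      (show GA (baseHom K C) (Coh.structureModule C) from s)
    exact ⟨e c, (mul_one _).symm.trans hc⟩

section Model

variable (R : Type u) [CommRing R] [IsDomain R] [IsDiscreteValuationRing R]

/-- The generic point of a DVR is open. -/
theorem isOpenImmersion_generic : IsOpenImmersion (Spec.map (CommRingCat.ofHom (algebraMap R (FractionRing R)))) := by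
  obtain ⟨ϖ, hϖ⟩ := IsDiscreteValuationRing.exists_irreducible R
  haveI : IsLocalization.Away ϖ (FractionRing R) := by
    refine { map_units := ?_, surj := ?_, exists_of_eq := ?_ }
    · rintro ⟨_, k, rfl⟩
      exact (isUnit_iff_ne_zero).2 ((map_ne_zero_iff _ (IsFractionRing.injective R (FractionRing R))).2 (pow_ne_zero k hϖ.ne_zero))
    · intro z
      obtain ⟨⟨a, b⟩, hab⟩ := IsLocalization.surj (nonZeroDivisors R) z
      obtain ⟨k, u, hbu⟩ := IsDiscreteValuationRing.eq_unit_mul_pow_irreducible (nonZeroDivisors.ne_zero b.2) hϖ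
      refine ⟨(a * ↑u⁻¹, ⟨ϖ ^ k, k, rfl⟩), ?_⟩
      simp only at hab
      rw [hbu, map_mul] at hab
      show z * algebraMap R (FractionRing R) (ϖ ^ k) = algebraMap R (FractionRing R) (a * ↑u⁻¹)
      rw [map_mul, ← hab, mul_comm (algebraMap R (FractionRing R) ↑u), ← mul_assoc, mul_assoc _ (algebraMap R (FractionRing R) ↑u), ← map_mul]
      simp
    · intro x y h
      exact ⟨1, by rw [IsFractionRing.injective R (FractionRing R) h]⟩
  exact IsOpenImmersion.of_isLocalization ϖ

variable {X : Over (Spec (CommRingCat.of R))} [IsIntegral X.left] [Flat X.hom] [IsProper X.hom]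

/-- The points off the special fibre of a regular surface have codimension at most one. -/
theorem coheight_le_one_of_notMem [IsLocallyNoetherian X.left]
    (hreg : ∀ x : X.left, IsRegularLocalRing (X.left.presheaf.stalk x))
    {n : ℕ} (Γ : Fin n → ArSurf.VertComp R X) (hΓ : Models.IsComponentList R X Γ)
    {w : X.left} (hw : w ∉ Models.specialFibreSet R X) : Order.coheight w ≤ 1 := by
  have hcl : IsClosed (X.hom.base '' closure {w}) := X.hom.isClosedMap _ isClosed_closure
  obtain ⟨x, hxw, hx⟩ : closedPoint R ∈ X.hom.base '' closure {w} :=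
    (IsLocalRing.specializes_closedPoint (X.hom w)).mem_closed hcl ⟨w, subset_closure rfl, rfl⟩
  have hwx : w ⤳ x := specializes_iff_mem_closure.2 hxw
  obtain ⟨i, hi⟩ := exists_genPt_specializes R Γ hΓ (show x ∈ Models.specialFibreSet R X from hx)
  obtain ⟨y, rfl⟩ := hi.mem_closed (Γ i).ι.isClosedEmbedding.isClosed_range ⟨_, rfl⟩
  let A := X.left.presheaf.stalk ((Γ i).ι y)
  obtain ⟨d, -, hd⟩ := Misc15.DivDescent.exists_gen (isEffCartier_listComp R Γ hreg hΓ i) ((Γ i).ι y)
  let σ := ((Γ i).ι.stalkMap y).hom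
  obtain ⟨U, hU, hyU, -⟩ := exists_isAffineOpen_mem_and_subset (x := (Γ i).ι y) (U := ⊤) trivial
  have hker : RingHom.ker σ = Ideal.span {d} := by
    rw [CAlgH.CIImmersion.ker_stalkMap_eq (Γ i).ι y hU hyU, ← hd,
      Misc15.DivDescent.stk_eq _ ⟨U, hU⟩ hyU, Scheme.Hom.ker_apply]
  have hdm : d ∈ maximalIdeal A := IsLocalRing.le_maximalIdeal (RingHom.ker_ne_top σ)
    (hker.ge (Ideal.mem_span_singleton_self d))
  have h1 : ringKrullDim A ≤ ringKrullDim (A ⧸ Ideal.span {d}) + 1 := by
    have h := ringKrullDim_le_ringKrullDim_quotient_add_encard ({d} : Set A) (Set.singleton_subset_iff.2 (by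
      show d ∈ Ring.jacobson A
      rw [← Ideal.jacobson_bot, IsLocalRing.jacobson_eq_maximalIdeal ⊥ bot_ne_top]
      exact hdm))
    simpa using h
  have h2 : ringKrullDim (A ⧸ Ideal.span {d}) ≤ 1 := by
    rw [ringKrullDim_eq_of_ringEquiv ((Ideal.quotEquivOfEq hker.symm).trans
      (RingHom.quotientKerEquivOfSurjective ((Γ i).ι.stalkMap_surjective y)))]
    exact (CurvesLib24.stalk_dim_le_topologicalKrullDim y).trans (Γ i).dim_eq.le
  have h3 : ringKrullDim A ≤ 2 := h1.trans ((add_le_add_left h2 1).trans (by norm_num))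
  rw [ringKrullDim_stalk_eq_coheight] at h3
  have h4 := SDiv28.CartierPart.dim_add_one_le hwx (fun h => hw (h ▸ hx))
  have h5 : Order.coheight w + 1 ≤ 2 := h4.trans (WithBot.coe_le_coe.1 h3)
  exact (ENat.add_le_add_iff_right ENat.one_ne_top).1 (h5.trans_eq (by norm_num))

end Model

/-- The generic fibre of a regular proper model with constants `K` and positive genus is a curve. -/
theorem isSmoothProperCurve_of_model (R : Type u) [CommRing R] [IsDomain R] [IsDiscreteValuationRing R]
    {C X : Scheme.{u}} {f : C ⟶ Spec (CommRingCat.of (FractionRing R))} {p : X ⟶ Spec (CommRingCat.of R)}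
    [IsProper f] [Smooth f] (h : Models.hRank (FractionRing R) C f (Coh.structureModule C) 0 = 1)
    (hg : 1 ≤ Models.curveGenus (FractionRing R) C f) (hX : Models.IsRegularProperModel R X p C f)
    {n : ℕ} (Γ : Fin n → ArSurf.VertComp R (Over.mk p)) (hΓ : Models.IsComponentList R (Over.mk p) Γ) :
    Curve.IsSmoothProperCurve (FractionRing R) C f := by
  haveI := isIntegral_of_hRank (FractionRing R) f h
  haveI := isIntegral_model R hX.1 hX.2.2
  haveI : IsIntegral (Over.mk p).left := inferInstanceAs (IsIntegral X)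
  haveI : Flat (Over.mk p).hom := hX.1.1
  haveI : IsProper (Over.mk p).hom := hX.2.1
  haveI : IsLocallyNoetherian (Over.mk p).left := isLocallyNoetherian_of_isProper R (X := Over.mk p)
  obtain ⟨g, hgp⟩ := hX.1.2.2.2
  haveI := isOpenImmersion_generic R
  haveI : IsOpenImmersion g := MorphismProperty.of_isPullback (P := @IsOpenImmersion) hgp.flip inferInstance
  refine ⟨inferInstance, inferInstance, inferInstance, le_antisymm ?_ ?_⟩
  · rw [DimLib.topologicalKrullDim_eq_krullDim, Order.krullDim_eq_iSup_coheight]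
    refine iSup_le fun c => WithBot.coe_le_coe.2 ?_
    have hc : g c ∉ Models.specialFibreSet R (Over.mk p) := by
      intro hcs
      have hcs' : p (g c) = closedPoint R := hcs
      rw [← Scheme.Hom.comp_apply, hgp.w, Scheme.Hom.comp_apply,
        Subsingleton.elim (f c) (⟨⊥, Ideal.isPrime_bot⟩ : PrimeSpectrum (FractionRing R))] at hcs'
      exact bot_ne_closedPoint R
        ((PrimeSpectrum.ext (Ideal.comap_bot_of_injective _ (IsFractionRing.injective R (FractionRing R))).symm).trans hcs')
    have h1 := coheight_le_one_of_notMem R (X := Over.mk p) hX.2.2 Γ hΓ hc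
    have h2 := ringKrullDim_stalk_eq_coheight (X := C) c
    rw [← ringKrullDim_eq_of_ringEquiv (asIso (g.stalkMap c)).commRingCatIsoToRingEquiv,
      ringKrullDim_stalk_eq_coheight] at h2
    exact (WithBot.coe_inj.1 h2) ▸ h1
  · by_contra hlt
    have hle : topologicalKrullDim C ≤ ((0 : ℕ) : WithBot ℕ∞) := by
      have := not_le.1 hlt
      revert this
      generalize topologicalKrullDim C = d
      intro hd
      rcases d with _ | d
      · exact bot_le
      · exact WithBot.coe_le_coe.2 (le_of_eq (ENat.lt_one_iff_eq_zero.1 (WithBot.coe_lt_coe.1 hd)))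
    letI : C.Over (Spec (CommRingCat.of (FractionRing R))) := ⟨f⟩
    haveI : IsProper (C ↘ Spec (CommRingCat.of (FractionRing R))) := inferInstanceAs (IsProper f)
    haveI : C.IsSeparated := ⟨by
      rw [terminal.hom_ext (terminal.from C) (f ≫ terminal.from _)]; infer_instance⟩
    haveI := isNoetherian_of_proper (X := C) (FractionRing R)
    haveI : Coh.IsQCoh (Coh.structureModule C) := (isCoh_structureModule C).1
    haveI := subsingleton_HH_of_dim (Coh.structureModule C) hle (q := 1) Nat.one_pos
    have h0 : Module.finrank (FractionRing R) (Coh.HH C (Coh.structureModule C) 1) = 0 :=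
      Module.finrank_zero_of_subsingleton
    exact absurd (hg.trans_eq h0) (by norm_num)

end Groth.Agent.Inters29
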