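import Groth.Agent.ModPairLib.EffCartier
import Groth.Agent.FlatMor12.IdealModGen
import Groth.Agent.AmpleLib.Power
import Groth.Agent.PicLib.PullbackGen
import Groth.Agent.BlowUpLib.Chart

/-!
# The pullback of the ideal of an effective Cartier divisor
-/

set_option autoImplicit false
set_option backward.isDefEq.respectTransparency.types false

universe u

open CategoryTheory CategoryTheory.Limits AlgebraicGeometry Opposite TopologicalSpace
open Groth.Agent.Coherent Groth.Agent.PicLib Groth.Agent.AmpleLib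

namespace Groth.Agent.Inters29

variable {X Y : Scheme.{u}}

/-- The pullback of the ideal of an effective Cartier divisor is the ideal of the pulled back divisor,
when that is again effective Cartier. -/
theorem nonempty_pullback_idealMod_iso (j : Y ⟶ X) (I : X.IdealSheafData) (hI : BlowUp.IsEffCartierIdeal I)
    (hI' : BlowUp.IsEffCartierIdeal (I.comap j)) :
    Nonempty ((Scheme.Modules.pullback j).obj (ClSub.idealMod I) ≅ ClSub.idealMod (I.comap j)) := by
  have hL : PicF.IsInvertible (ClSub.idealMod I) := FlatMor12.IdealModGen.isInvertible_idealMod I hI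
  let P := (Scheme.Modules.pullback j).obj (ClSub.idealMod I)
  let ψ : P ⟶ Coh.structureModule Y := ((Scheme.Modules.pullbackPushforwardAdjunction j).homEquiv _ _).symm
    (ClSub.idealModι I ≫ ClSub.unitToPush j)
  have hψ : ∀ (U : X.Opens) (k : Γ(ClSub.idealMod I, U)), ψ.app (j ⁻¹ᵁ U) (pullSec j k) =
      (show Γ(Y, j ⁻¹ᵁ U) from j.app U ((ClSub.idealModι I).app U k : Γ(X, U))) := fun U k =>
    homEquiv_symm_app_pullSec j _ k
  have hloc : ∀ y : Y, ∃ (V : Y.Opens) (t : Γ(P, V)) (k' : Γ(ClSub.idealMod (I.comap j), V)),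
      y ∈ V ∧ IsGen P V t ∧ IsGen (ClSub.idealMod (I.comap j)) V k' ∧
        (ClSub.idealModι (I.comap j)).app V k' = ψ.app V t := by
    intro y
    obtain ⟨U, hyU, f, hf, hspan⟩ := hI (j y)
    obtain ⟨k, hk⟩ := (AmpleLib.mem_range_idealModι I U.1 f).2 (RingHom.mem_ker.1
      ((I.ker_subschemeι_app U).symm ▸ hspan.ge (Ideal.mem_span_singleton_self f)))
    have hreg : IsLeftRegular f := (isRegular_iff_mem_nonZeroDivisors.2 hf).left
    have hkgen := FlatMor12.IdealModGen.bijective_smul_of_affine_gen I U.2 hk hreg hspan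
    obtain ⟨_, ⟨V, hV, rfl⟩, hyV, hVU⟩ :=
      Y.isBasis_affineOpens.exists_subset_of_mem_open (show y ∈ j ⁻¹ᵁ U.1 from hyU) (j ⁻¹ᵁ U.1).isOpen
    have hid : (I.comap j).ideal ⟨V, hV⟩ = Ideal.span {(j.appLE U.1 V hVU).hom f} := by
      rw [ProjLib.comap_ideal_eq I j U ⟨V, hV⟩ hVU, hspan, Ideal.map_span, Set.image_singleton]
    have hreg' : IsLeftRegular ((j.appLE U.1 V hVU).hom f) :=
      (isRegular_iff_mem_nonZeroDivisors.2 (BlowUpLib.mem_nonZeroDivisors_of_eff hI' hid)).left
    obtain ⟨k', hk'⟩ := (AmpleLib.mem_range_idealModι (I.comap j) V ((j.appLE U.1 V hVU).hom f)).2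
      (RingHom.mem_ker.1 (((I.comap j).ker_subschemeι_app ⟨V, hV⟩).symm ▸
        hid.ge (Ideal.mem_span_singleton_self _)))
    refine ⟨V, resM P hVU (pullSec j k), k', hyV, (isGen_pullSec j hkgen hL).restrict hVU,
      FlatMor12.IdealModGen.bijective_smul_of_affine_gen _ hV hk' hreg' hid, ?_⟩
    rw [hk', app_resM, hψ, hk]
    rfl
  choose V t k' hyV ht hk' hψk using hloc
  haveI := AmpleLib.mono_idealModι (I.comap j)
  obtain ⟨e, -⟩ := AmpleLib.exists_iso_of_gens V
    (top_le_iff.1 fun y _ => Opens.mem_iSup.2 ⟨y, hyV y⟩) t ht k' hk' (fun a b W ha hb c hc => by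
      apply Coherent.app_injective_of_mono (ClSub.idealModι (I.comap j)) W
      rw [Scheme.Modules.Hom.app_smul, app_resM, app_resM, hψk, hψk, ← app_resM, ← app_resM,
        ← Scheme.Modules.Hom.app_smul, hc])
  exact ⟨e⟩

end Groth.Agent.Inters29
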