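import Groth.Agent.Inters29.Constants
import Groth.Agent.Inters29.FibrePullback
import Groth.Agent.Et18.Descent
import Groth.Agent.Coherent.ConnectedFibre
import Mathlib.RingTheory.AdjoinRoot
import Mathlib.FieldTheory.PrimitiveElement

/-!
# Cohomological flatness in degree zero

Over a perfect residue field, connectedness and coprime multiplicities make the functions on the special
fibre liftable.
-/

set_option autoImplicit false
set_option linter.style.haveILetI false
set_option backward.isDefEq.respectTransparency false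

universe u

open CategoryTheory CategoryTheory.Limits AlgebraicGeometry TopologicalSpace IsLocalRing Polynomial

namespace Groth.Agent.Inters29

/-- A separable root of an irreducible factor gives an idempotent, so without idempotents the degree is one. -/
theorem natDegree_eq_one_of_idempotents {L : Type*} [Field L] (P : L[X]) (hP : P.Monic) (hs : P.Separable)
    (a : L) (ha : P.IsRoot a) (hid : ∀ e : AdjoinRoot P, e * e = e → e = 0 ∨ e = 1) : P.natDegree = 1 := by
  obtain ⟨Q, hQ⟩ := dvd_iff_isRoot.2 ha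
  have hQa : Q.eval a ≠ 0 := fun h => by
    obtain ⟨u, v, huv⟩ := hs
    have h1 := congrArg (eval a) huv
    rw [hQ] at h1
    simp [h] at h1
  have hQm : Q.Monic := (monic_X_sub_C a).of_mul_monic_left (hQ ▸ hP)
  let E := C (Q.eval a)⁻¹ * Q
  have hE : (X - C a) ∣ E - 1 := dvd_iff_isRoot.2 (by simp [E, inv_mul_cancel₀ hQa])
  have hidem : AdjoinRoot.mk P E * AdjoinRoot.mk P E = AdjoinRoot.mk P E := by
    rw [← map_mul, AdjoinRoot.mk_eq_mk]
    obtain ⟨G, hG⟩ := hE
    refine ⟨C (Q.eval a)⁻¹ * G, ?_⟩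
    have h0 : E * E - E = E * (E - 1) := by ring
    rw [h0, hG, hQ]; simp only [E]; ring
  have hdeg : P.natDegree = 1 + Q.natDegree := by
    rw [hQ, (monic_X_sub_C a).natDegree_mul hQm, natDegree_X_sub_C]
  rcases hid _ hidem with h | h
  · rw [AdjoinRoot.mk_eq_zero] at h
    have h' : P ∣ Q := (IsUnit.dvd_mul_left (isUnit_C.2 (isUnit_iff_ne_zero.2 (inv_ne_zero hQa)))).1 h
    have := natDegree_le_of_dvd h' hQm.ne_zero
    omega
  · rw [← map_one (AdjoinRoot.mk P), AdjoinRoot.mk_eq_mk] at h
    have hQE : Q ∣ E - 1 := (Dvd.intro_left _ hQ.symm).trans h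
    have hu : IsUnit Q := isUnit_of_dvd_one (by
      have h2 : Q ∣ E := Dvd.intro_left _ rfl
      simpa using dvd_sub h2 hQE)
    rw [hdeg, natDegree_eq_zero_of_isUnit hu]

variable (R : Type u) [CommRing R] [IsDomain R] [IsDiscreteValuationRing R]
variable {X : Over (Spec (CommRingCat.of R))} [IsIntegral X.left] [IsLocallyNoetherian X.left] [Flat X.hom]
  [IsProper X.hom]

omit [Flat X.hom] [IsLocallyNoetherian X.left] in
/-- Every maximal ideal of the global functions is the kernel of restriction to the special fibre. -/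
theorem eq_ker_of_isMaximal {Z : Scheme.{u}} (j : Z ⟶ X.left)
    (hr : Set.range j.base = Models.specialFibreSet R X) (hM : (RingHom.ker j.appTop.hom).IsMaximal)
    (N : Ideal Γ(X.left, ⊤)) (hN : N.IsMaximal) : N = RingHom.ker j.appTop.hom := by
  haveI : Nonempty (⊤ : X.left.Opens) := ⟨⟨genericPoint X.left, trivial⟩⟩
  let R' := Γ(X.left, ⊤)
  let str : R →+* R' := X.hom.appTop.hom.comp (Scheme.ΓSpecIso (CommRingCat.of R)).symm.commRingCatIsoToRingEquiv.toRingHom
  have hint : str.IsIntegral := RingHom.isIntegral_respectsIso.2 X.hom.appTop.hom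
    (Scheme.ΓSpecIso (CommRingCat.of R)).symm.commRingCatIsoToRingEquiv
    (isIntegral_appTop_of_universallyClosed X.hom)
  let P : Spec (CommRingCat.of R') := (⟨N, hN.isPrime⟩ : PrimeSpectrum R')
  haveI : IsProper X.left.toSpecΓ := by
    haveI : IsProper (X.left.toSpecΓ ≫ Spec.map X.hom.appTop) := by
      rw [← Scheme.toSpecΓ_naturality]; infer_instance
    exact IsProper.of_comp _ (Spec.map X.hom.appTop)
  have hgen : X.left.toSpecΓ (genericPoint X.left) = (⟨⊥, Ideal.isPrime_bot⟩ : PrimeSpectrum R') := by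
    refine PrimeSpectrum.ext (le_bot_iff.1 fun r hr => ?_)
    by_contra h0
    have hb : genericPoint X.left ∈ X.left.basicOpen r := by
      refine (X.left.mem_basicOpen r (genericPoint X.left) trivial).2 ?_
      refine (isUnit_iff_ne_zero (G₀ := X.left.functionField)).2 fun h => h0 ?_
      exact germ_injective_of_isIntegral X.left (genericPoint X.left) (U := ⊤) trivial (h.trans (map_zero _).symm)
    rw [← Scheme.toSpecΓ_preimage_basicOpen] at hb
    exact hb hr
  obtain ⟨x, hx⟩ := ((PrimeSpectrum.le_iff_specializes (⟨⊥, Ideal.isPrime_bot⟩ : PrimeSpectrum R') P).1 bot_le).mem_closed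
    X.left.toSpecΓ.isClosedMap.isClosed_range ⟨genericPoint X.left, hgen⟩
  have hxF : x ∈ Models.specialFibreSet R X := by
    have hN' : (N.comap str).IsMaximal := Ideal.isMaximal_comap_of_isIntegral_of_isMaximal' str hint N
    have hm := IsLocalRing.eq_maximalIdeal hN'
    by_contra hxF
    obtain ⟨ϖ, hϖ⟩ := IsDiscreteValuationRing.exists_irreducible R
    have hb : x ∈ X.left.basicOpen (str ϖ) := (mem_basicOpen_unif R hϖ x).2 hxF
    rw [← Scheme.toSpecΓ_preimage_basicOpen] at hb
    have hb' : str ϖ ∉ N := by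
      have := hb
      rw [Scheme.Hom.mem_preimage, hx] at this
      exact this
    exact hb' (show ϖ ∈ N.comap str from hm ▸ (mem_maximalIdeal ϖ).2 hϖ.not_isUnit)
  obtain ⟨z, rfl⟩ := hr.ge hxF
  refine (hM.eq_of_le hN.ne_top fun r hrM => ?_).symm
  by_contra hrN
  have hb : j z ∈ X.left.basicOpen r := by
    rw [← Scheme.toSpecΓ_preimage_basicOpen, Scheme.Hom.mem_preimage, hx]
    exact hrN
  have hb' : z ∈ j ⁻¹ᵁ X.left.basicOpen r := hb
  rw [Scheme.preimage_basicOpen] at hb'
  rw [show j.app ⊤ r = 0 from hrM, Scheme.basicOpen_zero] at hb'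
  exact hb'

/-- An irreducible reduction makes `R'[T]/(P)` local. -/
theorem isLocalRing_adjoinRoot {R' F : Type u} [CommRing R'] [Field F] (φF : R' →+* F) (hφF : Function.Surjective φF)
    (hmax : ∀ N : Ideal R', N.IsMaximal → N = RingHom.ker φF) (P : R'[X]) (hPm : P.Monic) (p : F[X])
    [Fact (Irreducible p)] (hPmap : P.map φF = p) : IsLocalRing (AdjoinRoot P) := by
  let R'' := AdjoinRoot P
  let ρ : R'' →+* AdjoinRoot (p) :=
    AdjoinRoot.lift ((AdjoinRoot.of (p)).comp φF) (AdjoinRoot.root _) (by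
      rw [← Polynomial.eval₂_map, hPmap]; exact AdjoinRoot.eval₂_root _)
  have hρ : Function.Surjective ρ := fun e => by
    obtain ⟨G, rfl⟩ := AdjoinRoot.mk_surjective e
    obtain ⟨G', rfl⟩ := Polynomial.map_surjective φF hφF G
    refine ⟨AdjoinRoot.mk P G', ?_⟩
    rw [AdjoinRoot.lift_mk, ← Polynomial.eval₂_map, ← AdjoinRoot.aeval_eq]
    rfl
  haveI : Module.Finite R' R'' := hPm.finite_adjoinRoot
  refine IsLocalRing.of_unique_max_ideal ⟨RingHom.ker ρ, RingHom.ker_isMaximal_of_surjective ρ hρ, fun N hN => ?_⟩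
  refine ((RingHom.ker_isMaximal_of_surjective ρ hρ).eq_of_le hN.ne_top fun e he => ?_).symm
  obtain ⟨G, rfl⟩ := AdjoinRoot.mk_surjective e
  have hMN : N.comap (algebraMap R' R'') = RingHom.ker φF := hmax _ (Ideal.isMaximal_comap_of_isIntegral_of_isMaximal N)
  rw [RingHom.mem_ker, AdjoinRoot.lift_mk, ← Polynomial.eval₂_map] at he
  have hd : p ∣ G.map φF := by
    rw [← AdjoinRoot.mk_eq_zero, ← AdjoinRoot.aeval_eq]
    exact he
  obtain ⟨H, hH⟩ := hd
  obtain ⟨H', rfl⟩ := Polynomial.map_surjective φF hφF H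
  have hk : G - P * H' ∈ RingHom.ker (Polynomial.mapRingHom φF) := by
    rw [RingHom.mem_ker, map_sub, map_mul, Polynomial.coe_mapRingHom, hPmap, hH, sub_self]
  rw [Polynomial.ker_mapRingHom] at hk
  have hle : (RingHom.ker φF).map (Polynomial.C : R' →+* R'[X]) ≤ N.comap (AdjoinRoot.mk P) :=
    Ideal.map_le_iff_le_comap.2 fun r hr => by
      show r ∈ N.comap (algebraMap R' R'')
      rw [hMN]; exact hr
  have h' : AdjoinRoot.mk P (G - P * H') ∈ N := hle hk
  rwa [map_sub, map_mul, AdjoinRoot.mk_self, zero_mul, sub_zero] at h'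

set_option maxHeartbeats 800000 in
/-- Restriction of functions to a special fibre without nilpotents or idempotents is surjective. -/
theorem surjective_appTop_of_field [PerfectField (ResidueField R)] {Z : Scheme.{u}} (j : Z ⟶ X.left)
    [IsClosedImmersion j] (hj : j.ker = Models.specialFibreIdeal R X)
    (q : Z ⟶ Spec (CommRingCat.of (ResidueField R))) [IsProper q]
    (hq : q ≫ Spec.map (CommRingCat.ofHom (IsLocalRing.residue R)) = j ≫ X.hom)
    (hF : IsField Γ(Z, ⊤)) (hfin : q.appTop.hom.Finite) :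
    Function.Surjective j.appTop.hom := by
  classical
  let R' := Γ(X.left, ⊤)
  let κ := Γ(Z, ⊤)
  letI : Field κ := hF.toField
  haveI : Nonempty (⊤ : X.left.Opens) := ⟨⟨genericPoint X.left, trivial⟩⟩
  let φ : R' →+* κ := j.appTop.hom
  let eR := (Scheme.ΓSpecIso (CommRingCat.of R)).symm.commRingCatIsoToRingEquiv
  let ek := (Scheme.ΓSpecIso (CommRingCat.of (ResidueField R))).symm.commRingCatIsoToRingEquiv
  let str : R →+* R' := X.hom.appTop.hom.comp eR.toRingHom
  let strκ : ResidueField R →+* κ := q.appTop.hom.comp ek.toRingHom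
  have hcomp : φ.comp str = strκ.comp (IsLocalRing.residue R) := by
    ext r
    have h := congrArg (fun m : Z ⟶ Spec (CommRingCat.of R) => m.appTop.hom (eR r)) hq
    simp only [Scheme.Hom.comp_appTop, CommRingCat.comp_apply] at h
    refine h.symm.trans (congrArg q.appTop.hom ?_)
    exact (congr($(Scheme.ΓSpecIso_inv_naturality (CommRingCat.ofHom (IsLocalRing.residue R))) r)).symm
  letI : Algebra (ResidueField R) κ := strκ.toAlgebra
  haveI : Module.Finite (ResidueField R) κ :=
    RingHom.Finite.comp hfin (RingHom.Finite.of_surjective _ ek.surjective)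
  -- the image is a field
  let S : Subalgebra (ResidueField R) κ :=
    { φ.range.toSubsemiring with
      algebraMap_mem' := fun c => by
        obtain ⟨r, rfl⟩ := IsLocalRing.residue_surjective c
        exact ⟨str r, RingHom.congr_fun hcomp r⟩ }
  let F : IntermediateField (ResidueField R) κ :=
    S.toIntermediateField fun x hx => S.inv_mem_of_algebraic (x := ⟨x, hx⟩) (Algebra.IsAlgebraic.isAlgebraic x)
  intro a
  have hmemF : ∀ r, φ r ∈ F := fun r => (⟨r, rfl⟩ : φ r ∈ φ.range)
  let φF : R' →+* F :=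
    { toFun := fun r => ⟨φ r, hmemF r⟩
      map_one' := Subtype.ext φ.map_one
      map_mul' := fun x y => Subtype.ext (φ.map_mul x y)
      map_zero' := Subtype.ext φ.map_zero
      map_add' := fun x y => Subtype.ext (φ.map_add x y) }
  have hφF : Function.Surjective φF := by
    intro x
    obtain ⟨r, hr⟩ : (x : κ) ∈ φ.range := x.2
    exact ⟨r, Subtype.ext hr⟩
  -- `R'` is local
  let M := RingHom.ker φ
  have hker : M = RingHom.ker φF := by
    ext r; exact ⟨fun h => Subtype.ext h, fun h => congrArg Subtype.val h⟩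
  haveI hM : M.IsMaximal := hker.symm ▸ RingHom.ker_isMaximal_of_surjective φF hφF
  have hr := range_eq_specialFibreSet R j hj
  have hmax : ∀ N : Ideal R', N.IsMaximal → N = M := fun N hN => eq_ker_of_isMaximal R j hr hM N hN
  -- a separable extension of the image
  haveI : Algebra.IsSeparable (ResidueField R) κ := inferInstance
  haveI : Algebra.IsSeparable F κ := Algebra.isSeparable_tower_top_of_isSeparable (ResidueField R) F κ
  have hsep : (minpoly F a).Separable := Algebra.IsSeparable.isSeparable F a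
  have hai : IsIntegral F a := IsIntegral.of_finite F a
  haveI : Fact (Irreducible (minpoly F a)) := ⟨minpoly.irreducible hai⟩
  obtain ⟨P, hPmap, -, hPm⟩ := lifts_and_degree_eq_and_monic
    (f := φF) (p := minpoly F a) (Polynomial.map_surjective φF hφF (minpoly F a)) (minpoly.monic hai)
  let R'' := AdjoinRoot P
  have hlocal : IsLocalRing R'' :=
    isLocalRing_adjoinRoot φF hφF (fun N hN => (hmax N hN).trans hker) P hPm _ hPmap
  -- the base change
  haveI : Module.Free R' R'' := hPm.free_adjoinRoot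
  haveI : Module.Finite R' R'' := hPm.finite_adjoinRoot
  let sb : Spec (CommRingCat.of R'') ⟶ Spec (CommRingCat.of R') := Spec.map (CommRingCat.ofHom (algebraMap R' R''))
  haveI : Flat sb := by
    show Flat (Spec.map _)
    rw [HasRingHomProperty.Spec_iff (P := @Flat)]
    exact RingHom.flat_algebraMap_iff.2 inferInstance
  haveI : IsFinite sb := by
    show IsFinite (Spec.map _)
    rw [IsFinite.SpecMap_iff]
    exact RingHom.finite_algebraMap.2 inferInstance
  let t : X.left ⟶ Spec (CommRingCat.of R') := X.left.toSpecΓ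
  let g : pullback t sb ⟶ X.left := pullback.fst t sb
  haveI : IsFinite g := MorphismProperty.pullback_fst (P := @IsFinite) t sb ‹_›
  letI : (pullback t sb).Over (Spec (CommRingCat.of R)) := ⟨g ≫ X.hom⟩
  haveI : IsProper ((pullback t sb) ↘ Spec (CommRingCat.of R)) := inferInstanceAs (IsProper (g ≫ X.hom))
  haveI : CompactSpace X.left := QuasiCompact.compactSpace_of_compactSpace X.hom
  haveI : QuasiSeparatedSpace X.left := quasiSeparatedSpace_of_quasiSeparated X.hom
  have hpo := Et18.isPushout_appTop_of_flat (IsPullback.of_hasPullback t sb)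
  haveI : IsIso t.appTop := by
    show IsIso (Scheme.toSpecΓ X.left).appTop
    rw [Scheme.toSpecΓ_appTop]; infer_instance
  haveI := hpo.isIso_inr_of_isIso
  haveI : IsLocalRing Γ(pullback t sb, ⊤) :=
    ((Scheme.ΓSpecIso (CommRingCat.of R'')).symm.commRingCatIsoToRingEquiv.trans
      (asIso (pullback.snd t sb).appTop).commRingCatIsoToRingEquiv).isLocalRing
  have hc := Coherent.isPreconnected_closedFibre_of_isLocalRing (A := R) (X := pullback t sb)
  have hz : PrimeSpectrum.zeroLocus (maximalIdeal R : Set R) = {closedPoint R} := by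
    rw [← IsLocalRing.isClosed_singleton_closedPoint R |>.closure_eq, PrimeSpectrum.closure_singleton]
    rfl
  rw [hz] at hc
  let j2 := pullback.snd j g
  haveI : PreconnectedSpace ↥(pullback j g) := ⟨by
    refine j2.isEmbedding.isInducing.isPreconnected_image.1 ?_
    rw [Set.image_univ, Scheme.Pullback.range_snd, hr]
    exact hc⟩
  haveI : CompactSpace Z := QuasiCompact.compactSpace_of_compactSpace q
  haveI : QuasiSeparatedSpace Z := quasiSeparatedSpace_of_quasiSeparated q
  have H2 : IsPullback (pullback.fst j g) (j2 ≫ pullback.snd t sb) (j ≫ t) sb :=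
    (IsPullback.of_hasPullback j g).paste_vert (IsPullback.of_hasPullback t sb)
  have hpo2 := Et18.isPushout_appTop_of_flat H2
  let eR' := (Scheme.ΓSpecIso (CommRingCat.of R')).symm.commRingCatIsoToRingEquiv
  let eR'' := (Scheme.ΓSpecIso (CommRingCat.of R'')).symm.commRingCatIsoToRingEquiv
  let W := Γ(pullback j g, ⊤)
  let μ : R'' →+* W := (j2 ≫ pullback.snd t sb).appTop.hom.comp eR''.toRingHom
  let ν : κ →+* W := (pullback.fst j g).appTop.hom
  have hjt : ∀ r : R', (j ≫ t).appTop.hom (eR' r) = φ r := fun r => by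
    rw [Scheme.Hom.comp_appTop]
    show j.appTop (X.left.toSpecΓ.appTop ((Scheme.ΓSpecIso Γ(X.left, ⊤)).inv r)) = φ r
    rw [Scheme.toSpecΓ_appTop, Iso.inv_hom_id_apply]
  have hsb : ∀ r : R', sb.appTop.hom (eR' r) = eR'' (algebraMap R' R'' r) := fun r =>
    (congr($(Scheme.ΓSpecIso_inv_naturality (CommRingCat.ofHom (algebraMap R' R''))) r)).symm
  have hw : μ.comp (algebraMap R' R'') = ν.comp φ := by
    ext r
    show (j2 ≫ pullback.snd t sb).appTop (eR'' (algebraMap R' R'' r)) = (pullback.fst j g).appTop (φ r)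
    rw [← hsb, ← hjt]
    exact (congr($(hpo2.w) (eR' r))).symm
  let Pκ : κ[X] := P.map φ
  have hPκ : Pκ = (minpoly F a).map F.val.toRingHom := by
    rw [← hPmap, Polynomial.map_map]; rfl
  let χ : AdjoinRoot Pκ →+* W := AdjoinRoot.lift ν (μ (AdjoinRoot.root P)) (by
    rw [Polynomial.eval₂_map, ← hw, ← Polynomial.hom_eval₂]
    exact (congrArg μ (AdjoinRoot.eval₂_root P)).trans (map_zero μ))
  have hβ : Polynomial.eval₂ ((AdjoinRoot.of Pκ).comp φ) (AdjoinRoot.root Pκ) P = 0 := by
    rw [← Polynomial.eval₂_map]; exact AdjoinRoot.eval₂_root _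
  let β : R'' →+* AdjoinRoot Pκ := AdjoinRoot.lift ((AdjoinRoot.of Pκ).comp φ) (AdjoinRoot.root Pκ) hβ
  let ψ := hpo2.desc (CommRingCat.ofHom (AdjoinRoot.of Pκ))
    (CommRingCat.ofHom (β.comp eR''.symm.toRingHom)) (by
      ext r0
      obtain ⟨r, rfl⟩ := eR'.surjective r0
      show AdjoinRoot.of Pκ ((j ≫ t).appTop.hom (eR' r)) = β (eR''.symm (sb.appTop.hom (eR' r)))
      rw [hjt, hsb, RingEquiv.symm_apply_apply]
      exact (AdjoinRoot.lift_of hβ).symm)
  have hψχ : ∀ e, ψ.hom (χ e) = e := by
    refine RingHom.congr_fun (?_ : ψ.hom.comp χ = RingHom.id _)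
    refine RingHom.ext fun e => ?_
    obtain ⟨G, rfl⟩ := AdjoinRoot.mk_surjective e
    show ψ.hom (AdjoinRoot.lift ν _ _ (AdjoinRoot.mk Pκ G)) = AdjoinRoot.mk Pκ G
    rw [AdjoinRoot.lift_mk, Polynomial.hom_eval₂]
    have h1 : ψ.hom.comp ν = AdjoinRoot.of Pκ := congrArg CommRingCat.Hom.hom (hpo2.inl_desc _ _ _)
    have h2 : ψ.hom (μ (AdjoinRoot.root P)) = AdjoinRoot.root Pκ := by
      refine (congr($(hpo2.inr_desc (CommRingCat.ofHom (AdjoinRoot.of Pκ)) _ _) (eR'' (AdjoinRoot.root P)))).trans ?_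
      show β (eR''.symm (eR'' _)) = _
      rw [RingEquiv.symm_apply_apply]
      exact AdjoinRoot.lift_root hβ
    rw [h1, h2]
    exact AdjoinRoot.aeval_eq G
  have hid : ∀ e : AdjoinRoot Pκ, e * e = e → e = 0 ∨ e = 1 := fun e he => by
    rcases idempotent_eq_zero_or_one (χ e) (by rw [← map_mul, he]) with h | h
    · exact Or.inl (by rw [← hψχ e, h, map_zero])
    · exact Or.inr (by rw [← hψχ e, h, map_one])
  have hdeg : Pκ.natDegree = 1 := natDegree_eq_one_of_idempotents Pκ (hPm.map φ) (hPκ ▸ hsep.map) a (by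
    rw [hPκ, Polynomial.IsRoot, Polynomial.eval_map]
    exact minpoly.aeval F a) hid
  rw [hPκ, Polynomial.natDegree_map] at hdeg
  obtain ⟨⟨y, r, hry⟩, hy⟩ := minpoly.natDegree_eq_one_iff.1 hdeg
  exact ⟨r, hry.trans hy⟩

end Groth.Agent.Inters29
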