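import Mathlib

/-!
# Ranks of finite algebras as combinations of residue degrees
-/

set_option autoImplicit false
set_option linter.style.haveILetI false

universe u

open scoped TensorProduct

namespace Groth.Agent.Inters29

/-- The dimension of a finite module over a finite-dimensional algebra is a combination of those of the
residue fields of the algebra. -/
theorem finrank_mem_of_forall_maximal {K E : Type u} [Field K] [CommRing E] [Algebra K E] [Module.Finite K E]
    (H : AddSubgroup ℤ) (h : ∀ M : Ideal E, M.IsMaximal → (Module.finrank K (E ⧸ M) : ℤ) ∈ H) :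
    ∀ (n : ℕ) (N : Type u) [AddCommGroup N] [Module K N] [Module E N] [IsScalarTower K E N] [Module.Finite K N],
      Module.finrank K N = n → (n : ℤ) ∈ H := by
  intro n
  induction n using Nat.strong_induction_on with
  | _ n ih =>
    intro N _ _ _ _ _ hn
    rcases eq_or_ne n 0 with rfl | hn0
    · simp
    haveI : Nontrivial N := Module.nontrivial_of_finrank_pos (R := K) (by omega)
    haveI : IsNoetherian E N := isNoetherian_of_tower K inferInstance
    obtain ⟨N', hN'⟩ : ∃ N' : Submodule E N, IsCoatom N' :=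
      (eq_top_or_exists_le_coatom (⊥ : Submodule E N)).resolve_left bot_ne_top |>.imp fun _ h => h.1
    haveI : IsSimpleModule E (N ⧸ N') := isSimpleModule_iff_isCoatom.2 hN'
    obtain ⟨M, hM, ⟨e⟩⟩ := isSimpleModule_iff_quot_maximal.1 ‹IsSimpleModule E (N ⧸ N')›
    have hsum := Submodule.finrank_quotient_add_finrank (N'.restrictScalars K)
    have he : Module.finrank K (N ⧸ N'.restrictScalars K) = Module.finrank K (E ⧸ M) :=
      ((Submodule.Quotient.restrictScalarsEquiv K N').trans (e.restrictScalars K)).finrank_eq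
    haveI : Nontrivial (E ⧸ M) := Ideal.Quotient.nontrivial_iff.2 hM.ne_top
    have hpos : 0 < Module.finrank K (E ⧸ M) := Module.finrank_pos
    haveI : Module.Finite K N' := inferInstanceAs (Module.Finite K (N'.restrictScalars K))
    have h1 : (Module.finrank K N' : ℤ) ∈ H := ih _ (by
      have : Module.finrank K N' = Module.finrank K (N'.restrictScalars K) := rfl
      omega) N' rfl
    have hn' : (n : ℤ) = Module.finrank K (E ⧸ M) + Module.finrank K N' := by
      have : Module.finrank K N' = Module.finrank K (N'.restrictScalars K) := rfl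
      omega
    rw [hn']
    exact H.add_mem (h M hM) h1

/-- The rank of a finite free algebra over a domain `R` receiving an `R`-algebra `A` by fractions is a
combination of the degrees of points of `A` over the fraction field. -/
theorem finrank_mem {R A C : Type u} [CommRing R] [IsDomain R] [CommRing A] [Algebra R A] [CommRing C]
    [Algebra R C] [Module.Finite R C] [Module.Free R C] (φ : A →ₐ[R] C)
    (hφ : ∀ c : C, ∃ a s, IsUnit (φ s) ∧ c * φ s = φ a) (H : AddSubgroup ℤ)
    (hH : ∀ (L : Type u) [Field L] [Algebra (FractionRing R) L] [Module.Finite (FractionRing R) L] (ψ : A →+* L),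
      (∀ r, ψ (algebraMap R A r) = algebraMap (FractionRing R) L (algebraMap R _ r)) →
      (∀ z : L, ∃ a s, z = ψ a / ψ s) → (Module.finrank (FractionRing R) L : ℤ) ∈ H) :
    (Module.finrank R C : ℤ) ∈ H := by
  let K := FractionRing R
  let E := K ⊗[R] C
  refine finrank_mem_of_forall_maximal (K := K) (E := E) H (fun M hM => ?_) _ E Module.finrank_baseChange
  letI := Ideal.Quotient.field M
  let ι : C →ₐ[R] E := Algebra.TensorProduct.includeRight
  let ψ : A →+* E ⧸ M := (Ideal.Quotient.mk M).comp (ι.comp φ).toRingHom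
  have hψ : ∀ r, ψ (algebraMap R A r) = algebraMap K (E ⧸ M) (algebraMap R K r) := fun r => by
    show Ideal.Quotient.mk M ((ι.comp φ) (algebraMap R A r)) = Ideal.Quotient.mk M (algebraMap K E (algebraMap R K r))
    rw [AlgHom.commutes, IsScalarTower.algebraMap_apply R K E]
  refine hH (E ⧸ M) ψ hψ fun z => ?_
  obtain ⟨z, rfl⟩ := Ideal.Quotient.mk_surjective z
  suffices H' : ∃ a s, ψ s ≠ 0 ∧ Ideal.Quotient.mk M z = ψ a / ψ s by
    obtain ⟨a, s, -, h⟩ := H'
    exact ⟨a, s, h⟩
  induction z using TensorProduct.induction_on with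
  | zero => exact ⟨0, 1, by rw [map_one]; exact one_ne_zero, by rw [map_zero, map_zero, zero_div]⟩
  | add x y hx hy =>
    obtain ⟨a, s, hs, hx⟩ := hx
    obtain ⟨b, t, ht, hy⟩ := hy
    refine ⟨a * t + s * b, s * t, by rw [map_mul]; exact mul_ne_zero hs ht, ?_⟩
    rw [map_add, hx, hy, div_add_div _ _ hs ht, map_add, map_mul, map_mul, map_mul]
  | tmul k c =>
    obtain ⟨a, s, hs, hc⟩ := hφ c
    obtain ⟨⟨r, d⟩, hk⟩ := IsLocalization.surj (M := nonZeroDivisors R) k
    have hd : algebraMap K (E ⧸ M) (algebraMap R K d) ≠ 0 :=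
      ((IsLocalization.map_units K d).map (algebraMap K (E ⧸ M))).ne_zero
    have hψs : ψ s ≠ 0 := ((hs.map ι).map (Ideal.Quotient.mk M)).ne_zero
    have hden : ψ (algebraMap R A d * s) ≠ 0 := by rw [map_mul, hψ]; exact mul_ne_zero hd hψs
    refine ⟨algebraMap R A r * a, algebraMap R A d * s, hden, ?_⟩
    rw [eq_div_iff hden]
    show Ideal.Quotient.mk M (k ⊗ₜ c) * Ideal.Quotient.mk M ((ι.comp φ) (algebraMap R A d * s)) =
      Ideal.Quotient.mk M ((ι.comp φ) (algebraMap R A r * a))
    rw [← map_mul]
    congr 1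
    rw [map_mul, map_mul, AlgHom.commutes, AlgHom.commutes]
    show (k ⊗ₜ[R] c) * ((algebraMap R K d) ⊗ₜ[R] (1 : C) * ((1 : K) ⊗ₜ[R] φ s)) =
      (algebraMap R K r) ⊗ₜ[R] (1 : C) * ((1 : K) ⊗ₜ[R] φ a)
    simp only [Algebra.TensorProduct.tmul_mul_tmul, mul_one, one_mul]
    rw [hk, hc]

end Groth.Agent.Inters29
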