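import Groth.Agent.Inters29.ModelPic
import Groth.Agent.Inters29.Connected
import Groth.Agent.Inters29.ModelCurve
import Groth.Agent.S0234

/-!
# The component group and the Picard group of the generic fibre
-/

set_option autoImplicit false
set_option linter.style.haveILetI false
set_option backward.isDefEq.respectTransparency.types false

universe u

open CategoryTheory CategoryTheory.Limits AlgebraicGeometry TopologicalSpace
open Groth.Agent.PicLib

namespace Groth.Agent.Inters29

/-- Invertible classes extend from an open subscheme with regular complement. -/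
theorem exists_pull_eq {C X : Scheme.{u}} [IsLocallyNoetherian X] (g : C ⟶ X) [IsOpenImmersion g]
    (hreg : ∀ x : X, IsRegularLocalRing (X.presheaf.stalk x)) (c : PicM C) :
    ∃ μ : PicM X, PicM.pull g μ = c := by
  obtain ⟨N, hN, rfl⟩ := PicM.exists_eq_of c
  let e := g.isoOpensRange
  have he : e.hom ≫ g.opensRange.ι = g := g.isoOpensRange_hom_ι
  obtain ⟨L, hL, ⟨eL⟩⟩ := S0234.result X g.opensRange _ (PicLoc.isInvertible_pullback e.inv hN)
    (fun x _ => by
      haveI := hreg x
      haveI := CAlgH3.isDomain_of_isRegularLocalRing (X.presheaf.stalk x)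
      exact CAlgH3.ufm_of_regular _)
  refine ⟨PicM.of hL, ?_⟩
  have h1 : PicM.pull g.opensRange.ι (PicM.of hL) = PicM.pull e.inv (PicM.of hN) := by
    rw [PicM.pull_of, PicM.pull_of, PicM.of_eq_iff]
    exact ⟨((Scheme.Modules.restrictFunctorIsoPullback g.opensRange.ι).app L).symm ≪≫ eL⟩
  rw [← he, ← PicM.pull_pull, h1, PicM.pull_pull, Iso.hom_inv_id, PicM.pull_id]

variable {R : Type u} [CommRing R] [IsDomain R] [IsDiscreteValuationRing R]
variable {C X : Scheme.{u}} {f : C ⟶ Spec (CommRingCat.of (FractionRing R))} {p : X ⟶ Spec (CommRingCat.of R)}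
variable {n : ℕ} (Γ : Fin n → ArSurf.VertComp R (Over.mk p))

/-- The degrees on the components. -/
noncomputable def degVec (μ : PicM X) : Fin n → ℤ := fun j => intCl R (X := Over.mk p) (Γ j) μ

theorem degVec_mul [IsProper p] (a b : PicM X) : degVec Γ (a * b) = degVec Γ a + degVec Γ b := by
  haveI : IsProper (Over.mk p).hom := ‹IsProper p›
  funext j
  haveI := isProper_curve R (Γ j)
  exact intCl_mul R (X := Over.mk p) (Γ j) a b

theorem degVec_one [IsProper p] : degVec Γ (1 : PicM X) = 0 := by
  have h := degVec_mul Γ (1 : PicM X) 1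
  rw [mul_one] at h
  exact left_eq_add.1 h

theorem degVec_of [IsProper p] {L : X.Modules} (hL : PicF.IsInvertible L) :
    degVec Γ (PicM.of hL) = fun j => ArSurf.inter R (Over.mk p) L (Γ j) := by
  haveI : IsProper (Over.mk p).hom := ‹IsProper p›
  funext j
  exact intCl_of R (X := Over.mk p) (Γ j) hL

/-- `degVec` on units, additively. -/
noncomputable def degHom [IsProper p] : Additive (PicM X)ˣ →+ (Fin n → ℤ) :=
  AddMonoidHom.mk' (fun u => degVec Γ (u.toMul : PicM X)) fun _ _ => degVec_mul Γ _ _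

variable (hC : Curve.IsSmoothProperCurve (FractionRing R) C f) (hH0 : IsIso f.appTop)
variable (hX : Models.IsRegularProperModel R X p C f)
variable {Γ} (hΓ : Models.IsComponentList R (Over.mk p) Γ)
variable {L : Fin n → X.Modules} (hL : ∀ i, ClSub.IsInverseOf (L i) (ClSub.idealMod (Γ i).ι.ker))

omit hH0 in
theorem degVec_zcl (v : Fin n → ℤ) :
    degVec Γ (zcl hC hX hΓ hL v : PicM X) =
      Matrix.mulVecLin (Matrix.of fun j i => ArSurf.inter R (Over.mk p) (L i) (Γ j)) v := by
  haveI := hX.2.1
  have h : degHom Γ (Additive.ofMul (zcl hC hX hΓ hL v)) =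
      ∑ i, v i • degHom Γ (Additive.ofMul (lunit hC hX hΓ hL i)) := by
    simp only [zcl, ofMul_prod, ofMul_zpow, map_sum, map_zsmul]
  refine h.trans (funext fun j => ?_)
  simp only [Matrix.mulVecLin_apply, Matrix.mulVec, dotProduct, Matrix.of_apply, Finset.sum_apply, Pi.smul_apply,
    smul_eq_mul]
  refine Finset.sum_congr rfl fun i _ => (mul_comm _ _).trans (congrArg (· * v i) ?_)
  exact congrFun (degVec_of Γ (isInvertible_model hC hX hΓ hL i)) j

include hC hX hΓ hL hH0

/-- A generically trivial class has degrees in the image of the intersection matrix. -/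
theorem degVec_sub_mem (g : C ⟶ X)
    (hg : IsPullback g f p (Spec.map (CommRingCat.ofHom (algebraMap R (FractionRing R)))))
    {μ ν : PicM X} (h : PicM.pull g μ = PicM.pull g ν) :
    degVec Γ μ - degVec Γ ν ∈ LinearMap.range
      (Matrix.mulVecLin (Matrix.of fun j i => ArSurf.inter R (Over.mk p) (L i) (Γ j))) := by
  haveI := hX.2.1
  obtain ⟨w, hw⟩ := PicM.exists_mul_eq_one ν
  have h1 : PicM.pull g (μ * w) = 1 := by rw [map_mul, h, ← map_mul, hw, map_one]
  obtain ⟨v, hv⟩ := exists_eq_zcl_of_pull_eq_one hC hH0 hX hΓ hL g hg _ h1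
  refine ⟨v, ?_⟩
  rw [← degVec_zcl hC hX hΓ hL, ← hv, degVec_mul]
  have h2 := degVec_mul Γ ν w
  rw [hw, degVec_one] at h2
  rw [eq_neg_of_add_eq_zero_right h2.symm, sub_eq_add_neg]

/-- A vertical class of degree zero on all components is trivial when the multiplicities are coprime. -/
theorem zcl_eq_one_of_degVec (g : C ⟶ X)
    (hg : IsPullback g f p (Spec.map (CommRingCat.ofHom (algebraMap R (FractionRing R)))))
    (hgcd : Models.multGcd R (Over.mk p) Γ = 1) (v : Fin n → ℤ)
    (hv : Matrix.mulVecLin (Matrix.of fun j i => ArSurf.inter R (Over.mk p) (L i) (Γ j)) v = 0) :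
    zcl hC hX hΓ hL v = 1 := by
  have hint : IsIntegral C := hC.2.2.1
  haveI := hint
  haveI := isIntegral_model R hX.1 hX.2.2
  haveI := hX.2.1
  haveI : IsLocallyNoetherian X := LocallyOfFiniteType.isLocallyNoetherian p
  haveI : IsIntegral (Over.mk p).left := inferInstanceAs (IsIntegral X)
  haveI : IsLocallyNoetherian (Over.mk p).left := inferInstanceAs (IsLocallyNoetherian X)
  haveI : Flat (Over.mk p).hom := hX.1.1
  haveI : IsProper (Over.mk p).hom := hX.2.1
  haveI : ∀ i, IsProper (Γ i).curve.hom := fun i => isProper_curve R (Γ i)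
  have hconn : _root_.IsConnected (Models.specialFibreSet R (Over.mk p)) :=
    isConnected_specialFibreSet R hH0 g hg
  obtain ⟨q, hq⟩ := (quad_nonpos_and_of_connected R (X := Over.mk p) hX.2.2 Γ hΓ L hL hconn
    (fun i => (v i : ℚ))).2.1 (by
      rw [show Matrix.mulVec (interMat R Γ L ℚ) (fun i => (v i : ℚ)) = 0 from funext fun i => by
        show ∑ j, (ArSurf.inter R (Over.mk p) (L j) (Γ i) : ℚ) * (v j : ℚ) = 0
        exact_mod_cast congrFun hv i, dotProduct_zero])
  have hqi : ∀ i, v i * (q.den : ℤ) = q.num * (Models.mult R (Over.mk p) (Γ i) : ℤ) := fun i => by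
    have h1 : (v i : ℚ) = q * (Models.mult R (Over.mk p) (Γ i) : ℚ) := congrFun hq i
    have h2 : (v i : ℚ) * (q.den : ℚ) = (q.num : ℚ) * (Models.mult R (Over.mk p) (Γ i) : ℚ) := by
      rw [h1, mul_right_comm, Rat.mul_den_eq_num]
    exact_mod_cast h2
  have hden : q.den ∣ Models.multGcd R (Over.mk p) Γ := Finset.dvd_gcd fun i _ => by
    have h1 : (q.den : ℤ) ∣ q.num * (Models.mult R (Over.mk p) (Γ i) : ℤ) := ⟨v i, by rw [← hqi i]; ring⟩
    have h2 := Int.natAbs_dvd_natAbs.2 h1
    simp only [Int.natAbs_natCast, Int.natAbs_mul] at h2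
    exact q.reduced.symm.dvd_of_dvd_mul_left h2
  rw [hgcd, Nat.dvd_one] at hden
  refine (zcl_eq_one_iff hC hH0 hX hΓ hL v).2 ⟨q.num, fun i => ?_⟩
  have h := hqi i
  rwa [hden, Nat.cast_one, mul_one] at h

end Groth.Agent.Inters29
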