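import Groth.Agent.Inters29.Comp
import Mathlib.RingTheory.OrderOfVanishing.Basic

/-!
# The special fibre as a sum of its components
-/

set_option autoImplicit false
set_option linter.style.haveILetI false
set_option backward.isDefEq.respectTransparency false

universe u

open CategoryTheory CategoryTheory.Limits AlgebraicGeometry TopologicalSpace IsLocalRing
open Groth.Agent.Misc15.DivDescent Groth.Agent.SDiv28.CartierPart

namespace Groth.Agent.Inters29

variable (R : Type u) [CommRing R] [IsDomain R] [IsDiscreteValuationRing R]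
variable {X : Over (Spec (CommRingCat.of R))}

/-- The stalks of the ideal of the special fibre. -/
theorem stk_specialFibreIdeal (x : X.left) :
    stk (Models.specialFibreIdeal R X) x = (maximalIdeal R).map (Models.stalkHom R X x) := by
  rw [Models.specialFibreIdeal, stk_comap,
    stk_eq _ ⟨⊤, isAffineOpen_top (Spec (CommRingCat.of R))⟩ (trivial : X.hom x ∈ (⊤ : (Spec _).Opens))]
  have h : (Curv2.idealSheaf R (maximalIdeal R)).ideal ⟨⊤, isAffineOpen_top _⟩ =
      (maximalIdeal R).map (Scheme.ΓSpecIso (CommRingCat.of R)).inv.hom := by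
    simp [Curv2.idealSheaf]
  rw [h, Ideal.map_map, Ideal.map_map]
  refine congrArg (fun F => Ideal.map F (maximalIdeal R)) (RingHom.ext fun r => ?_)
  exact Scheme.Hom.germ_stalkMap_apply X.hom ⊤ x trivial _

theorem stk_specialFibreIdeal_span {ϖ : R} (hϖ : Irreducible ϖ) (x : X.left) :
    stk (Models.specialFibreIdeal R X) x = Ideal.span {Models.stalkHom R X x ϖ} := by
  rw [stk_specialFibreIdeal, hϖ.maximalIdeal_eq, Ideal.map_span, Set.image_singleton]

theorem support_specialFibreIdeal :
    ((Models.specialFibreIdeal R X).support : Set X.left) = Models.specialFibreSet R X := by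
  ext x
  rw [Models.specialFibreSet, Set.mem_preimage, Set.mem_singleton_iff, SetLike.mem_coe,
    mem_support_iff_stk, stk_specialFibreIdeal, Ideal.map_le_iff_le_comap]
  have key : (maximalIdeal (X.left.presheaf.stalk x)).comap (Models.stalkHom R X x) = (X.hom x).asIdeal := by
    ext r
    rw [Ideal.mem_comap, mem_maximalIdeal, mem_nonunits_iff]
    have h2 : X.hom x ∈ (Spec (CommRingCat.of R)).basicOpen ((Scheme.ΓSpecIso (CommRingCat.of R)).inv r) ↔
        IsUnit (Models.stalkHom R X x r) := by
      rw [← Scheme.Hom.mem_preimage, Scheme.preimage_basicOpen_top, Scheme.mem_basicOpen_top]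
      rfl
    rw [← h2, basicOpen_eq_of_affine]
    exact not_not
  rw [key]
  exact ⟨fun h => PrimeSpectrum.ext ((IsLocalRing.maximalIdeal.isMaximal R).eq_of_le
    (X.hom x).isPrime.ne_top h).symm, fun h => by rw [h]; exact le_rfl⟩

theorem mem_maximalIdeal_stalkHom {ϖ : R} (hϖ : Irreducible ϖ) {x : X.left} (hx : x ∈ Models.specialFibreSet R X) :
    Models.stalkHom R X x ϖ ∈ maximalIdeal (X.left.presheaf.stalk x) := by
  have h : x ∈ (Models.specialFibreIdeal R X).support := (support_specialFibreIdeal R).ge hx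
  rw [mem_support_iff_stk, stk_specialFibreIdeal_span R hϖ] at h
  exact (Ideal.span_singleton_le_iff_mem _).1 h

/-- The points of the special fibre without generisations in it have codimension at most one. -/
theorem coheight_le_one_of_maximal [IsLocallyNoetherian X.left] {z : X.left}
    (hz : z ∈ Models.specialFibreSet R X) (hmax : ∀ w ∈ Models.specialFibreSet R X, w ⤳ z → w = z) :
    Order.coheight z ≤ 1 := by
  obtain ⟨ϖ, hϖ⟩ := IsDiscreteValuationRing.exists_irreducible R
  let π := Models.stalkHom R X z ϖ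
  have hmem : maximalIdeal (X.left.presheaf.stalk z) ∈ (Ideal.span {π}).minimalPrimes := by
    refine ⟨⟨inferInstance, (Ideal.span_singleton_le_iff_mem _).2 (mem_maximalIdeal_stalkHom R hϖ hz)⟩,
      fun Q ⟨hQ, hπQ⟩ hle => ?_⟩
    let P : PrimeSpectrum (X.left.presheaf.stalk z) := ⟨Q, hQ⟩
    let i := X.left.fromSpecStalk z
    have hw : i P ∈ Models.specialFibreSet R X := (support_specialFibreIdeal R).le
      ((fromSpecStalk_mem_support_iff _ P).2 (by rw [stk_specialFibreIdeal_span R hϖ]; exact hπQ))
    have hwz : i P ⤳ z := Scheme.range_fromSpecStalk.le ⟨P, rfl⟩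
    have he : i P = i (closedPoint (X.left.presheaf.stalk z)) :=
      (hmax _ hw hwz).trans Scheme.fromSpecStalk_closedPoint.symm
    exact (congrArg PrimeSpectrum.asIdeal (i.isEmbedding.injective he)).ge
  have hh := Ideal.height_le_one_of_isPrincipal_of_mem_minimalPrimes (Ideal.span {π}) _ hmem
  have h := ringKrullDim_stalk_eq_coheight (X := X.left) z
  rw [← IsLocalRing.maximalIdeal_height_eq_ringKrullDim] at h
  exact (WithBot.coe_inj.1 h) ▸ hh

/-- Every point of the special fibre is a specialisation of one without generisations in it. -/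
theorem exists_maximal_generization [IsLocallyNoetherian X.left] {z : X.left}
    (hz : z ∈ Models.specialFibreSet R X) :
    ∃ w ∈ Models.specialFibreSet R X, w ⤳ z ∧ ∀ v ∈ Models.specialFibreSet R X, v ⤳ w → v = w := by
  obtain ⟨w, ⟨hw, hwz⟩, hmin⟩ := (wellFounded_lt (α := ℕ∞)).onFun.has_min (r := Function.onFun (· < ·) (fun w : X.left => Order.coheight w))
    {w | w ∈ Models.specialFibreSet R X ∧ w ⤳ z} ⟨z, hz, specializes_rfl⟩
  refine ⟨w, hw, hwz, fun v hv hvw => by_contra fun hne => hmin v ⟨hv, hvw.trans hwz⟩ ?_⟩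
  have h1 := dim_add_one_le hvw hne
  have hfin : Order.coheight v ≠ ⊤ := by
    intro htop
    have h := ringKrullDim_stalk_eq_coheight (X := X.left) v
    rw [htop] at h
    exact ringKrullDim_ne_top (R := X.left.presheaf.stalk v) h
  exact lt_of_lt_of_le (ENat.lt_add_one_iff hfin |>.2 le_rfl) h1

section List

variable {n : ℕ} (Γ : Fin n → ArSurf.VertComp R X)

theorem genPt_isGenericPoint (Γ : ArSurf.VertComp R X) :
    IsGenericPoint (Γ.ι (genericPoint Γ.curve.left)) (Set.range Γ.ι.base) := by
  have h := (genericPoint_spec Γ.curve.left).image Γ.ι.continuous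
  rwa [Set.image_univ, Γ.ι.isClosedEmbedding.isClosed_range.closure_eq] at h

theorem range_subset_specialFibreSet (Γ : ArSurf.VertComp R X) :
    Set.range Γ.ι.base ⊆ Models.specialFibreSet R X := by
  rintro _ ⟨y, rfl⟩
  exact hom_ι_eq R Γ y

/-- The generic point of a component has no generisation in the special fibre. -/
theorem genPt_maximal (hΓ : Models.IsComponentList R X Γ) (i : Fin n) {w : X.left}
    (hw : w ∈ Models.specialFibreSet R X) (h : w ⤳ (Γ i).ι (genericPoint (Γ i).curve.left)) :
    w = (Γ i).ι (genericPoint (Γ i).curve.left) := by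
  have hc : Maximal (fun S : Set X.left => IsIrreducible S ∧ S ⊆ Models.specialFibreSet R X)
      (Set.range (Γ i).ι.base) := hΓ.2.le ⟨i, rfl⟩
  have hsub : closure {w} ⊆ Models.specialFibreSet R X :=
    (Models.isClosed_specialFibreSet R X).closure_subset_iff.2 (Set.singleton_subset_iff.2 hw)
  have hle : Set.range (Γ i).ι.base ⊆ closure {w} := by
    rw [← (genPt_isGenericPoint R (Γ i)).def]
    exact h.closure_subset
  have heq := le_antisymm hle (hc.2 ⟨isIrreducible_singleton.closure, hsub⟩ hle)
  exact (isGenericPoint_closure (x := w)).eq (heq ▸ genPt_isGenericPoint R (Γ i))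

/-- The components cover the special fibre by their generic points. -/
theorem exists_genPt_specializes [IsLocallyNoetherian X.left] (hΓ : Models.IsComponentList R X Γ)
    {z : X.left} (hz : z ∈ Models.specialFibreSet R X) :
    ∃ i, (Γ i).ι (genericPoint (Γ i).curve.left) ⤳ z := by
  obtain ⟨w, hw, hwz, hmax⟩ := exists_maximal_generization R hz
  have hmem : closure {w} ∈ Models.fibreComponents R X := by
    refine ⟨⟨isIrreducible_singleton.closure,
      (Models.isClosed_specialFibreSet R X).closure_subset_iff.2 (Set.singleton_subset_iff.2 hw)⟩,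
      fun S ⟨hS, hSf⟩ hle => ?_⟩
    obtain ⟨g, hg⟩ := QuasiSober.sober hS.closure isClosed_closure
    have hgf : g ∈ Models.specialFibreSet R X :=
      (Models.isClosed_specialFibreSet R X).closure_subset_iff.2 hSf hg.mem
    have hgw : g ⤳ w := hg.specializes (subset_closure (hle (subset_closure rfl)))
    rw [← hmax g hgf hgw, hg.def]
    exact subset_closure
  rw [← hΓ.2] at hmem
  obtain ⟨i, hi⟩ := hmem
  refine ⟨i, ?_⟩
  rw [(genPt_isGenericPoint R (Γ i)).eq (hi.symm ▸ isGenericPoint_closure)]
  exact hwz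

theorem genPt_injective (hΓ : Models.IsComponentList R X Γ) :
    Function.Injective fun i => (Γ i).ι (genericPoint (Γ i).curve.left) := fun i j h => hΓ.1 (by
  show Set.range (Γ i).ι.base = Set.range (Γ j).ι.base
  rw [← (genPt_isGenericPoint R (Γ i)).def, ← (genPt_isGenericPoint R (Γ j)).def]
  exact congrArg (fun x => closure {x}) h)

variable [IsIntegral X.left] [IsLocallyNoetherian X.left] [Flat X.hom]

omit Γ in
theorem stalkHom_injective (x : X.left) : Function.Injective (Models.stalkHom R X x) := by
  have hη : (genericPoint X.left) ⤳ x := (genericPoint_spec X.left).specializes trivial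
  have hcomp : Models.stalkHom R X (genericPoint X.left) =
      (X.left.presheaf.stalkSpecializes hη).hom.comp (Models.stalkHom R X x) := by
    ext r
    exact (X.left.presheaf.germ_stalkSpecializes_apply (U := ⊤) (y := x) (by trivial) hη _).symm
  refine Function.Injective.of_comp (f := (X.left.presheaf.stalkSpecializes hη).hom) ?_
  rw [← RingHom.coe_comp, ← hcomp, injective_iff_map_eq_zero]
  intro r hr
  by_contra hr0
  obtain ⟨ϖ, hϖ⟩ := IsDiscreteValuationRing.exists_irreducible R
  obtain ⟨m, hm⟩ := IsDiscreteValuationRing.associated_pow_irreducible hr0 hϖ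
  have h0 : Models.stalkHom R X (genericPoint X.left) ϖ ^ m = 0 := by
    rw [← map_pow]
    obtain ⟨u, hu⟩ := hm
    rw [← hu, map_mul, hr, zero_mul]
  have hmem : genericPoint X.left ∈ Models.specialFibreSet R X := by
    refine (support_specialFibreIdeal R).le ((mem_support_iff_stk _ _).2 ?_)
    rw [stk_specialFibreIdeal_span R hϖ, Ideal.span_singleton_le_iff_mem]
    exact (maximalIdeal.isMaximal _).isPrime.mem_of_pow_mem m (h0 ▸ zero_mem _)
  let bot : Spec (CommRingCat.of R) := (⟨⊥, Ideal.isPrime_bot⟩ : PrimeSpectrum R)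
  obtain ⟨y, hy, hfy⟩ := Flat.generalizingMap X.hom
    ((PrimeSpectrum.le_iff_specializes (⟨⊥, Ideal.isPrime_bot⟩ : PrimeSpectrum R) _).1 bot_le :
      bot ⤳ X.hom (genericPoint X.left))
  have h := ((genericPoint_spec X.left).specializes (Set.mem_univ y)).map X.hom.continuous
  rw [hfy, show X.hom (genericPoint X.left) = closedPoint R from hmem] at h
  exact IsDiscreteValuationRing.not_a_field R (le_bot_iff.1
    ((PrimeSpectrum.le_iff_specializes (closedPoint R) (⟨⊥, Ideal.isPrime_bot⟩ : PrimeSpectrum R)).2 h))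

variable (hreg : ∀ x : X.left, IsRegularLocalRing (X.left.presheaf.stalk x))
include hreg

theorem isEffCartier_listComp (hΓ : Models.IsComponentList R X Γ) (i : Fin n) :
    BlowUp.IsEffCartierIdeal (Γ i).ι.ker := by
  refine isEffCartier_of_coheight_one hreg _ ?_ ?_
  · rw [gen_ker]
    exact coheight_le_one_of_maximal R (range_subset_specialFibreSet R (Γ i) ⟨_, rfl⟩)
      fun w hw h => genPt_maximal R Γ hΓ i hw h
  · rw [gen_ker]
    exact gen_ne_genericPoint R (Γ i)

/-- The special fibre ideal at the generic point of a component is a power of the maximal ideal, with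
exponent the multiplicity. -/
theorem stk_specialFibreIdeal_genPt (hΓ : Models.IsComponentList R X Γ) (i : Fin n) :
    stk (Models.specialFibreIdeal R X) (gen (Γ i).ι.ker) =
      stk (Γ i).ι.ker (gen (Γ i).ι.ker) ^ Models.mult R X (Γ i) := by
  have hD := isEffCartier_listComp R Γ hreg hΓ i
  obtain ⟨_, _⟩ := SDiv28.StalkCartier.exists_dvr hD _ (isGenericPoint_gen (Γ i).ι.ker)
  rw [stk_gen hD]
  let g := gen (Γ i).ι.ker
  have hne : stk (Models.specialFibreIdeal R X) g ≠ ⊥ := by
    obtain ⟨ϖ, hϖ⟩ := IsDiscreteValuationRing.exists_irreducible R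
    rw [stk_specialFibreIdeal_span R hϖ, Ne, Ideal.span_singleton_eq_bot]
    exact fun h => hϖ.ne_zero (stalkHom_injective R g (h.trans (map_zero _).symm))
  obtain ⟨q, hq⟩ := IsDiscreteValuationRing.exists_irreducible (X.left.presheaf.stalk g)
  obtain ⟨m, hm⟩ := IsDiscreteValuationRing.ideal_eq_span_pow_irreducible hne hq
  have hord : Module.length (X.left.presheaf.stalk g) (X.left.presheaf.stalk g ⧸ stk (Models.specialFibreIdeal R X) g) = m := by
    rw [hm]
    show Ring.ord (X.left.presheaf.stalk g) (q ^ m) = m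
    rw [Ring.ord_pow (mem_nonZeroDivisors_of_ne_zero hq.ne_zero)]
    have h1 : Ring.ord (X.left.presheaf.stalk g) q = 1 := by
      rw [Ring.ord, Module.length_eq_one_iff, isSimpleModule_iff_isCoatom]
      exact Ideal.isMaximal_def.1 (hq.maximalIdeal_eq ▸ maximalIdeal.isMaximal _)
    rw [h1, nsmul_one]
  have hmult : Models.mult R X (Γ i) = m := by
    have key : ∀ x : X.left, x = g → (Module.length (X.left.presheaf.stalk x)
        (X.left.presheaf.stalk x ⧸ Ideal.map (Models.stalkHom R X x) (maximalIdeal R))).toNat = m := by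
      rintro x rfl
      rw [← stk_specialFibreIdeal, hord, ENat.toNat_natCast]
    exact key _ (gen_ker R (Γ i)).symm
  rw [hm, hmult, hq.maximalIdeal_eq, Ideal.span_singleton_pow]

/-- The special fibre is the sum of its components with multiplicities. -/
theorem specialFibreIdeal_eq_prod (hΓ : Models.IsComponentList R X Γ) :
    Models.specialFibreIdeal R X = ∏ i, (Γ i).ι.ker ^ Models.mult R X (Γ i) := by
  classical
  let D := fun i => (Γ i).ι.ker
  have hD := isEffCartier_listComp R Γ hreg hΓ
  have hgen : ∀ i j, gen (D i) = gen (D j) → i = j := fun i j h => genPt_injective R Γ hΓ (by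
    show (Γ i).ι _ = (Γ j).ι _
    rw [← gen_ker, ← gen_ker]; exact h)
  obtain ⟨ϖ, hϖ⟩ := IsDiscreteValuationRing.exists_irreducible R
  refine ext_stk fun x => ?_
  haveI := hreg x
  haveI := CAlgH3.ufm_of_regular (X.left.presheaf.stalk x)
  have hS := stk_specialFibreIdeal_span R (X := X) hϖ x
  let J := ∏ i, D i ^ Models.mult R X (Γ i)
  have hle : stk (Models.specialFibreIdeal R X) x ≤ stk J x := by
    rw [hS, Ideal.span_singleton_le_iff_mem]
    refine mem_stk_prod D hD _ Finset.univ (fun i _ j _ h => hgen i j h) x _ fun i _ h => ?_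
    show _ ∈ stk (Γ i).ι.ker (gen (Γ i).ι.ker) ^ Models.mult R X (Γ i)
    rw [← stk_specialFibreIdeal_genPt R Γ hreg hΓ i, stk_specializes _ h, hS]
    exact Ideal.mem_map_of_mem _ (Ideal.mem_span_singleton_self _)
  refine le_antisymm hle ?_
  have hp : ∀ i, (stk (D i) x).IsPrincipal := fun i => by
    obtain ⟨g, -, hg⟩ := exists_gen (hD i) x
    exact ⟨g, hg⟩
  choose d hd using fun i => (hp i).principal
  let g := ∏ i, d i ^ Models.mult R X (Γ i)
  have hJ : stk J x = Ideal.span {g} := by
    rw [stk_prod, ← Ideal.prod_span_singleton]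
    refine Finset.prod_congr rfl fun i _ => ?_
    rw [stk_pow, ← Ideal.span_singleton_pow]
    exact congrArg (· ^ _) (hd i)
  have hmem : Models.stalkHom R X x ϖ ∈ Ideal.span {g} := hJ ▸ hle (hS ▸ Ideal.mem_span_singleton_self _)
  obtain ⟨u, hu⟩ := Ideal.mem_span_singleton'.1 hmem
  have hπ0 : Models.stalkHom R X x ϖ ≠ 0 :=
    fun h => hϖ.ne_zero (stalkHom_injective R x (h.trans (map_zero _).symm))
  suffices hunit : IsUnit u by
    rw [hJ, hS, ← hu, Ideal.span_singleton_mul_left_unit hunit]
  by_contra hnu
  have hu0 : u ≠ 0 := fun h => hπ0 (by rw [← hu, h, zero_mul])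
  obtain ⟨q, hq, hqu⟩ := WfDvdMonoid.exists_irreducible_factor hnu hu0
  have hqprime := UniqueFactorizationMonoid.irreducible_iff_prime.1 hq
  let P : PrimeSpectrum (X.left.presheaf.stalk x) :=
    ⟨Ideal.span {q}, (Ideal.span_singleton_prime hq.ne_zero).2 hqprime⟩
  have hπq : Models.stalkHom R X x ϖ ∈ P.asIdeal :=
    Ideal.mem_span_singleton.2 (hqu.trans ⟨g, hu.symm⟩)
  have hz : X.left.fromSpecStalk x P ∈ Models.specialFibreSet R X := (support_specialFibreIdeal R).le
    ((fromSpecStalk_mem_support_iff _ P).2 (by rw [hS]; exact (Ideal.span_singleton_le_iff_mem _).2 hπq))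
  obtain ⟨j, hj⟩ := exists_genPt_specializes R Γ hΓ hz
  rw [← gen_ker] at hj
  have hzx : X.left.fromSpecStalk x P ⤳ x := Scheme.range_fromSpecStalk.le ⟨P, rfl⟩
  have hzD : X.left.fromSpecStalk x P ∈ ((D j).support : Set X.left) :=
    hj.mem_closed (D j).support.isClosed (isGenericPoint_gen (D j)).mem
  have hPle : stk (D j) x ≤ Ideal.span {q} := (fromSpecStalk_mem_support_iff _ P).1 hzD
  have hxD : x ∈ (D j).support := hzx.mem_closed (D j).support.isClosed hzD
  have hprime : Prime (d j) := by
    have h := isPrime_stk (D := D j) hxD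
    rw [hd j] at h
    refine (Ideal.span_singleton_prime (fun h0 => ?_)).1 h
    obtain ⟨e, he, hge⟩ := exists_gen (hD j) x
    rw [hd j, h0, Ideal.submodule_span_eq, Ideal.span_singleton_eq_bot.2 rfl] at hge
    exact nonZeroDivisors.ne_zero he (Ideal.span_singleton_eq_bot.1 hge.symm)
  have hq' : q ∣ d j := Ideal.mem_span_singleton.1 (hPle (hd j ▸ Ideal.mem_span_singleton_self _))
  have hdu : d j ∣ u := ((hqprime.associated_of_dvd hprime hq').symm.dvd).trans hqu
  have hmem2 : Models.stalkHom R X x ϖ ∈ stk (J * D j) x := by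
    have hdj : stk (D j) x = Ideal.span {d j} := hd j
    rw [stk_mul, hJ, hdj, Ideal.span_singleton_mul_span_singleton, Ideal.mem_span_singleton, ← hu,
      mul_comm g]
    exact mul_dvd_mul_right hdu g
  have hjx : gen (D j) ⤳ x := hj.trans hzx
  have h2 : stk (Models.specialFibreIdeal R X) (gen (D j)) ≤ stk (J * D j) (gen (D j)) := by
    rw [stk_specializes _ hjx, stk_specializes (J * D j) hjx, hS]
    exact Ideal.map_mono ((Ideal.span_singleton_le_iff_mem _).2 hmem2)
  have hJg : stk J (gen (D j)) = stk (D j) (gen (D j)) ^ Models.mult R X (Γ j) := by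
    rw [stk_prod, Finset.prod_eq_single j (fun i _ hij => ?_) (by simp), stk_pow]
    rw [stk_pow, stk_eq_top (fun hm => hij ?_), Ideal.top_pow, Ideal.one_eq_top]
    refine (hgen j i (eq_gen_of_coheight_le (hD i) hm ?_)).symm
    exact (coheight_gen (hD j)).le
  rw [stk_mul, hJg, stk_specialFibreIdeal_genPt R Γ hreg hΓ j] at h2
  obtain ⟨_, _⟩ := SDiv28.StalkCartier.exists_dvr (hD j) _ (isGenericPoint_gen (D j))
  change stk (D j) (gen (D j)) ^ _ ≤ _ at h2
  rw [← pow_succ, stk_gen (hD j)] at h2
  have hlt := Ideal.pow_right_strictAnti (maximalIdeal (X.left.presheaf.stalk (gen (D j))))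
    (IsDiscreteValuationRing.not_a_field _) (Ideal.IsPrime.ne_top inferInstance)
    (Nat.lt_succ_self (Models.mult R X (Γ j)))
  exact absurd h2 (not_le_of_gt hlt)

end List

end Groth.Agent.Inters29
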