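import Groth.Agent.Inters29.Exist
import Groth.Agent.Inters29.ModelCurve
import Groth.Agent.EGA43.CMChart.Main
import Groth.Agent.EGA43.DimFormula.JacobsonDim
import Groth.Agent.EGA43.RectDepthJacobson

/-!
# The dimension of a model of a curve
-/

set_option autoImplicit false
set_option linter.style.haveILetI false
set_option backward.isDefEq.respectTransparency false

universe u

open CategoryTheory CategoryTheory.Limits AlgebraicGeometry TopologicalSpace IsLocalRing
open Groth.Agent.EGA43.DimFormula Groth.Agent.FlatMorWeight

namespace Groth.Agent.Inters29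

theorem trdAt_id {X : Scheme.{u}} (x : X) : trdAt (𝟙 X) x = 0 := by
  have h := trdAt_trans (𝟙 X) (𝟙 X) x
  rw [EGA43.CMChart.trdAt_congr (Category.id_comp (𝟙 X)) x] at h
  simpa using h

theorem trdAt_preimmersion {X Y : Scheme.{u}} (ι : X ⟶ Y) [IsPreimmersion ι] (x : X) : trdAt ι x = 0 := by
  rw [← EGA43.CMChart.trdAt_congr (Category.comp_id ι) x, trdAt_comp ι (𝟙 Y) x, trdAt_id]

variable (R : Type u) [CommRing R] [IsDomain R] [IsDiscreteValuationRing R]
variable {X : Over (Spec (CommRingCat.of R))} [IsIntegral X.left] [Flat X.hom] [IsProper X.hom]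

theorem isRegularLocalRing_stalk_base (s : Spec (CommRingCat.of R)) :
    IsRegularLocalRing ((Spec (CommRingCat.of R)).presheaf.stalk s) := by
  haveI : IsRegularRing R := CAlgH3.isRegularRing_of_isRegularLocalRing (R := R)
  haveI := IsRegularRing.isRegularLocalRing_localization (R := R) s.asIdeal
  exact IsRegularLocalRing.of_ringEquiv (R := Localization.AtPrime s.asIdeal)
    (Spec.stalkIso (CommRingCat.of R) s).commRingCatIsoToRingEquiv.symm

theorem dimAt_closedPoint : dimAt (X := Spec (CommRingCat.of R)) (closedPoint R) = 1 := by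
  rw [dimAt, natDim, ringKrullDim_eq_of_ringEquiv
    (stalkClosedPointIso (CommRingCat.of R)).commRingCatIsoToRingEquiv,
    show ringKrullDim R = 1 from IsDiscreteValuationRing.ringKrullDim_eq_one R]
  rfl

/-- The generic point of a model of a curve has transcendence degree one over the base. -/
theorem trdAt_genericPoint {C : Scheme.{u}} [IsIntegral C] (f : C ⟶ Spec (CommRingCat.of (FractionRing R)))
    [LocallyOfFiniteType f] (hdim : topologicalKrullDim C = 1) (g : C ⟶ X.left)
    (hg : IsPullback g f X.hom (Spec.map (CommRingCat.ofHom (algebraMap R (FractionRing R))))) :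
    trdAt X.hom (genericPoint X.left) = 1 := by
  haveI := isOpenImmersion_generic R
  haveI : IsOpenImmersion g := MorphismProperty.of_isPullback (P := @IsOpenImmersion) hg.flip inferInstance
  rw [← genericPoint_eq_of_isOpenImmersion g, ← trdAt_comp g X.hom (genericPoint C),
    EGA43.CMChart.trdAt_congr hg.w (genericPoint C), trdAt_trans, trdAt_preimmersion, zero_add]
  haveI : JacobsonSpace C := LocallyOfFiniteType.jacobsonSpace f
  haveI : IsLocallyNoetherian C := LocallyOfFiniteType.isLocallyNoetherian f
  have key : ∀ c : C, IsClosed ({c} : Set C) →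
      ringKrullDim (C.presheaf.stalk c) = (trdAt f (genericPoint C) : WithBot ℕ∞) := by
    intro c hc
    have h := fibre_formula f ((genericPoint_spec C).specializes (Set.mem_univ c)) (Subsingleton.elim _ _)
    rw [dimAt_eq_cod_of_irreducible, trdAt_eq_zero_of_isClosed f hc, add_zero] at h
    rw [dimAt_eq, h]
  rw [topologicalKrullDim_eq_iSup_closed] at hdim
  obtain ⟨c, -, hc⟩ := nonempty_inter_closedPoints (Z := (Set.univ : Set C)) ⟨genericPoint C, trivial⟩
    isClosed_univ.isLocallyClosed
  haveI : Nonempty {c : C // IsClosed ({c} : Set C)} := ⟨⟨c, hc⟩⟩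
  rw [iSup_congr (fun c : {c : C // IsClosed ({c} : Set C)} => key c.1 c.2), ciSup_const] at hdim
  exact_mod_cast hdim

variable (htr : trdAt X.hom (genericPoint X.left) = 1)
include htr

theorem coheight_le_two [IsLocallyNoetherian X.left] (x : X.left) : dimAt x ≤ 2 := by
  have h := le_formula X.hom ((genericPoint_spec X.left).specializes (Set.mem_univ x))
  rw [htr, dimAt_eq_cod_of_irreducible] at h
  have h2 := cod_le_dimAt (((genericPoint_spec X.left).specializes (Set.mem_univ x)).map X.hom.continuous)
  have h3 : dimAt (X.hom x) ≤ 1 := by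
    rcases base_eq_bot_or_closedPoint R (X.hom x) with hb | hb
    · rw [hb]
      have : ringKrullDim ((Spec (CommRingCat.of R)).presheaf.stalk
          (⟨⊥, Ideal.isPrime_bot⟩ : PrimeSpectrum R)) ≤ 1 :=
        (CurvesLib24.stalk_dim_le_topologicalKrullDim _).trans (le_of_eq
          ((PrimeSpectrum.topologicalKrullDim_eq_ringKrullDim (R := R)).trans
            (IsDiscreteValuationRing.ringKrullDim_eq_one R)))
      rw [dimAt_eq] at this
      exact_mod_cast this
    · rw [hb, dimAt_closedPoint]
  omega

/-- A model of a curve is two-dimensional. -/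
theorem topologicalKrullDim_eq_two : topologicalKrullDim X.left = 2 := by
  haveI := isLocallyNoetherian_of_isProper R (X := X)
  haveI : CompactSpace X.left := (quasiCompact_iff_compactSpace X.hom).1 inferInstance
  refine le_antisymm ?_ ?_
  · rw [DimLib.topologicalKrullDim_eq_krullDim, Order.krullDim_eq_iSup_coheight]
    refine iSup_le fun x => ?_
    rw [← ringKrullDim_stalk_eq_coheight, dimAt_eq]
    exact_mod_cast coheight_le_two R htr x
  · obtain ⟨x, -, hx⟩ := IsClosed.exists_closed_singleton (isClosed_univ (X := X.left)) Set.univ_nonempty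
    have hxs : X.hom x = closedPoint R := by
      have h := X.hom.isClosedMap _ hx
      rw [Set.image_singleton] at h
      exact (IsLocalRing.specializes_closedPoint (X.hom x)).mem_closed h rfl |>.symm
    have h := eq_formula X.hom ((genericPoint_spec X.left).specializes (Set.mem_univ x))
      (EGA43.RectDepth.isUniversallyCatenary_stalk (isRegularLocalRing_stalk_base R) _)
    have hc : cod (X.hom (genericPoint X.left)) (closedPoint R) = 1 := by
      have hg : X.hom (genericPoint X.left) = genericPoint (Spec (CommRingCat.of R)) := by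
        have h1 : genericPoint (Spec (CommRingCat.of R)) ⤳ X.hom (genericPoint X.left) :=
          (genericPoint_spec _).specializes trivial
        rw [hom_genericPoint R x] at h1 ⊢
        exact ((PrimeSpectrum.le_iff_specializes _ _).1 bot_le).antisymm h1 |>.eq
      rw [hg, dimAt_eq_cod_of_irreducible, dimAt_closedPoint]
    rw [htr, trdAt_eq_zero_of_isClosed X.hom hx, add_zero, hxs, hc, dimAt_eq_cod_of_irreducible] at h
    refine le_trans (le_of_eq ?_) (CurvesLib24.stalk_dim_le_topologicalKrullDim x)
    rw [dimAt_eq, h]
    rfl

end Groth.Agent.Inters29
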