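import Groth.Agent.Inters29.Constants
import Groth.Agent.Inters29.Horizontal

/-!
# Multiplicities as lengths of stalks of the special fibre
-/

set_option autoImplicit false
set_option linter.style.haveILetI false
set_option backward.isDefEq.respectTransparency false

universe u

open CategoryTheory CategoryTheory.Limits AlgebraicGeometry TopologicalSpace IsLocalRing
open Groth.Agent.Misc15.DivDescent

namespace Groth.Agent.Inters29

variable (R : Type u) [CommRing R] [IsDomain R] [IsDiscreteValuationRing R]
variable {X : Over (Spec (CommRingCat.of R))} [IsIntegral X.left] [IsLocallyNoetherian X.left] [Flat X.hom]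
  [IsProper X.hom]
variable {n : ℕ} (Γ : Fin n → ArSurf.VertComp R X) (hΓ : Models.IsComponentList R X Γ)
include hΓ

/-- The local ring of the special fibre at a maximal point has length the multiplicity. -/
theorem exists_length_eq_mult {Z : Scheme.{u}} (j : Z ⟶ X.left) [IsClosedImmersion j]
    (hj : j.ker = Models.specialFibreIdeal R X) {z : Z} (hz : ∀ w : Z, w ⤳ z → w = z) :
    ∃ i, (Module.length (Z.presheaf.stalk z) (Z.presheaf.stalk z)).toNat = Models.mult R X (Γ i) := by
  have hr := range_eq_specialFibreSet R j hj
  obtain ⟨i, hi⟩ := exists_genPt_specializes R Γ hΓ (hr.le ⟨z, rfl⟩)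
  obtain ⟨w, hw⟩ := hr.ge (range_subset_specialFibreSet R (Γ i) ⟨genericPoint (Γ i).curve.left, rfl⟩)
  have hwz : w = z := hz w (j.isClosedEmbedding.isInducing.specializes_iff.1 (hw.symm ▸ hi))
  subst hwz
  refine ⟨i, ?_⟩
  let φ := (j.stalkMap w).hom
  letI := φ.toAlgebra
  have key : ∀ x : X.left, x = j w → (Module.length (X.left.presheaf.stalk x)
      (X.left.presheaf.stalk x ⧸ Ideal.map (Models.stalkHom R X x) (maximalIdeal R))).toNat =
      (Module.length (Z.presheaf.stalk w) (Z.presheaf.stalk w)).toNat := by
    rintro x rfl
    rw [← stk_specialFibreIdeal, ← hj, ← ker_stalkMap_eq_stk j w,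
      ← Module.length_eq_of_surjective (R := Z.presheaf.stalk w) (S := X.left.presheaf.stalk (j w))
        (M := Z.presheaf.stalk w) (j.stalkMap_surjective w)]
    exact congrArg ENat.toNat
      ((Ideal.quotientKerAlgEquivOfSurjective (f := Algebra.ofId (X.left.presheaf.stalk (j w)) (Z.presheaf.stalk w))
        (j.stalkMap_surjective w)).toLinearEquiv.length_eq)
  exact (key _ hw.symm).symm

end Groth.Agent.Inters29
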