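import Groth.Agent.S2498
import Mathlib

/-!
# Lengths of stalks along flat morphisms
-/

set_option autoImplicit false
set_option linter.style.haveILetI false
set_option backward.isDefEq.respectTransparency false

universe u

open CategoryTheory CategoryTheory.Limits AlgebraicGeometry TopologicalSpace IsLocalRing TensorProduct

namespace Groth.Agent.Inters29

/-- Points without generisations have Artinian local rings. -/
theorem isArtinianRing_stalk_of_maximal {X : Scheme.{u}} [IsLocallyNoetherian X] {x : X}
    (hx : ∀ y : X, y ⤳ x → y = x) : IsArtinianRing (X.presheaf.stalk x) := by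
  have hsub : Subsingleton (Spec (X.presheaf.stalk x)) := ⟨fun a b => by
    refine (X.fromSpecStalk x).isEmbedding.injective ?_
    have key : ∀ c, X.fromSpecStalk x c = x := fun c => hx _ (Scheme.range_fromSpecStalk.le ⟨c, rfl⟩)
    exact (key a).trans (key b).symm⟩
  haveI : Ring.KrullDimLE 0 (X.presheaf.stalk x) := by
    refine Ring.krullDimLE_iff.2 ?_
    haveI : Subsingleton (PrimeSpectrum (X.presheaf.stalk x)) := hsub
    exact Order.krullDim_nonpos_of_subsingleton
  exact isArtinianRing_iff_krullDimLE_zero.2 inferInstance

/-- Along a flat local homomorphism of Artinian rings the length is multiplied. -/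
theorem length_dvd_of_flat {A B : Type u} [CommRing A] [CommRing B] [IsLocalRing A] [IsLocalRing B]
    [IsArtinianRing B] (φ : A →+* B) (hφ : φ.Flat) [IsLocalHom φ] :
    (Module.length A A).toNat ∣ (Module.length B B).toNat := by
  algebraize [φ]
  haveI : IsLocalHom (algebraMap A B) := ‹_›
  haveI : Module.FaithfullyFlat A B := Module.FaithfullyFlat.of_flat_of_isLocalHom
  haveI : IsNoetherianRing B := inferInstance
  have hN : IsFiniteLength B (B ⧸ ((maximalIdeal A).map (algebraMap A B) • (⊤ : Submodule B B))) :=
    isFiniteLength_iff_isNoetherian_isArtinian.2 ⟨inferInstance, inferInstance⟩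
  have h := S2498.result (A := A) (B := B) A B hN
  rw [(AlgebraTensorModule.rid A B B).length_eq] at h
  exact ⟨_, (congrArg ENat.toNat h).trans (ENat.toNat_mul _ _)⟩

variable {X' X : Scheme.{u}} (f : X' ⟶ X) [Flat f]

/-- Flat morphisms send points without generisations to such points. -/
theorem maximal_of_flat {x' : X'} (hx' : ∀ y : X', y ⤳ x' → y = x') {y : X} (hy : y ⤳ f x') : y = f x' := by
  obtain ⟨z, hz, rfl⟩ := Flat.generalizingMap f hy
  rw [hx' z hz]

/-- The length of the local ring of the image divides. -/
theorem length_stalk_dvd [IsLocallyNoetherian X'] {x' : X'} (hx' : ∀ y : X', y ⤳ x' → y = x') :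
    (Module.length (X.presheaf.stalk (f x')) (X.presheaf.stalk (f x'))).toNat ∣
      (Module.length (X'.presheaf.stalk x') (X'.presheaf.stalk x')).toNat := by
  haveI := isArtinianRing_stalk_of_maximal hx'
  exact length_dvd_of_flat (f.stalkMap x').hom (Flat.stalkMap f x')

end Groth.Agent.Inters29
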