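import Groth.Agent.Inters29.FibreDim
import Groth.Agent.HenselLib.Olivier
import Mathlib.AlgebraicGeometry.ZariskisMainTheorem
import Mathlib.RingTheory.LocalRing.Quotient
import Mathlib.RingTheory.LocalRing.Length
import Mathlib.RingTheory.OrderOfVanishing.Basic

/-!
# Horizontal curves meeting the special fibre in one point
-/

set_option autoImplicit false
set_option linter.style.haveILetI false
set_option backward.isDefEq.respectTransparency false

universe u

open CategoryTheory CategoryTheory.Limits AlgebraicGeometry TopologicalSpace IsLocalRing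

namespace Groth.Agent.Inters29

attribute [local instance] Ideal.Quotient.field in
/-- In a finite free local algebra without residue extension, the order of vanishing of a uniformiser is
the rank. -/
theorem ord_eq_finrank {R B : Type u} [CommRing R] [IsDomain R] [IsDiscreteValuationRing R]
    [IsAlgClosed (ResidueField R)] [CommRing B] [IsLocalRing B] [Algebra R B] [Module.Finite R B]
    [Module.Free R B] [IsLocalHom (algebraMap R B)] {ϖ : R} (hϖ : Irreducible ϖ) :
    Ring.ord B (algebraMap R B ϖ) = Module.finrank R B := by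
  have hmap : Ideal.span {algebraMap R B ϖ} = (maximalIdeal R).map (algebraMap R B) := by
    rw [hϖ.maximalIdeal_eq, Ideal.map_span, Set.image_singleton]
  let Q := B ⧸ (maximalIdeal R).map (algebraMap R B)
  haveI : Module.Finite (R ⧸ maximalIdeal R) Q := Module.Finite.of_restrictScalars_finite R _ _
  have h1 : Module.length R Q = Module.finrank R B := by
    rw [Module.length_eq_of_surjective (M := Q)
      (Ideal.Quotient.mk_surjective : Function.Surjective (algebraMap R (R ⧸ maximalIdeal R)))]
    rw [Module.length_eq_finrank, IsLocalRing.finrank_quotient_map]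
  have h2 : Module.length (ResidueField R) (ResidueField B) = 1 := by
    haveI : Module.Finite (ResidueField R) (ResidueField B) := inferInstance
    haveI : Algebra.IsIntegral (ResidueField R) (ResidueField B) := Algebra.IsIntegral.of_finite _ _
    rw [Module.length_eq_finrank, ← (LinearEquiv.ofBijective (Algebra.linearMap (ResidueField R) (ResidueField B))
      (IsAlgClosed.algebraMap_bijective_of_isIntegral (k := ResidueField R) (K := ResidueField B))).finrank_eq,
      Module.finrank_self, Nat.cast_one]
  have h3 := IsLocalRing.length_restrictScalars R B Q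
  rw [h2, mul_one, h1] at h3
  rw [h3, Ring.ord]
  exact (Submodule.quotEquivOfEq _ _ hmap).length_eq

variable (R : Type u) [CommRing R] [IsDomain R] [IsDiscreteValuationRing R]
variable {X : Over (Spec (CommRingCat.of R))} [IsProper X.hom]

/-- The residue map of a generisation `w` of `x` on the local ring of `x`. -/
noncomputable def specRes {Y : Scheme.{u}} {w x : Y} (h : w ⤳ x) : Y.presheaf.stalk x →+* Y.residueField w :=
  (Y.residue w).hom.comp (Y.presheaf.stalkSpecializes h).hom

/-- Residue fields are fractions of the local rings of specialisations. -/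
theorem exists_div_eq {Y : Scheme.{u}} {w x : Y} (h : w ⤳ x) (z : Y.residueField w) :
    ∃ a s : Y.presheaf.stalk x, z = specRes h a / specRes h s := by
  obtain ⟨U, hU, hxU, -⟩ := exists_isAffineOpen_mem_and_subset (x := x) (U := ⊤) trivial
  have hwU : w ∈ U := h.mem_open U.2 hxU
  obtain ⟨z', rfl⟩ := Y.residue_surjective w z
  letI := Y.presheaf.algebra_section_stalk (⟨w, hwU⟩ : U)
  haveI := hU.isLocalization_stalk ⟨w, hwU⟩
  obtain ⟨⟨a, s⟩, has⟩ :=
    IsLocalization.surj (M := (hU.primeIdealOf ⟨w, hwU⟩).asIdeal.primeCompl) z'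
  refine ⟨Y.presheaf.germ U x hxU a, Y.presheaf.germ U x hxU (s : Γ(Y, U)), ?_⟩
  have hs : IsUnit (Y.presheaf.germ U w hwU (s : Γ(Y, U))) :=
    IsLocalization.map_units (Y.presheaf.stalk w) s
  show Y.residue w z' = Y.residue w (Y.presheaf.stalkSpecializes h (Y.presheaf.germ U x hxU a)) /
    Y.residue w (Y.presheaf.stalkSpecializes h (Y.presheaf.germ U x hxU (s : Γ(Y, U))))
  rw [TopCat.Presheaf.germ_stalkSpecializes_apply, TopCat.Presheaf.germ_stalkSpecializes_apply,
    eq_div_iff (hs.map (Y.residue w).hom).ne_zero, ← map_mul]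
  exact congrArg _ has

/-- If the closure of a point off the special fibre meets that fibre in one point and has no other
points, the image of the local ring at that point in the residue field is a finite module. -/
theorem exists_fg_range [HenselianLocalRing R] {w x : X.left} (hwx : w ⤳ x)
    (hw : w ∉ Models.specialFibreSet R X) (hx : x ∈ Models.specialFibreSet R X)
    (hpts : ∀ v, w ⤳ v → v = w ∨ v = x) :
    letI := ((specRes hwx).comp (Models.stalkHom R X x)).toAlgebra
    ∃ N : Submodule R (X.left.residueField w), N.FG ∧ ∀ a, specRes hwx a ∈ N := by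
  let _ := ((specRes hwx).comp (Models.stalkHom R X x)).toAlgebra
  obtain ⟨Z, ι, hι, hZ, hrange, -⟩ := EGA43.DimFormula.exists_integral_subscheme (X := X.left) w
  haveI := hι
  obtain ⟨η', rfl⟩ : w ∈ Set.range ι := hrange.ge (subset_closure rfl)
  have hmem : ∀ z, ι z = ι η' ∨ ι z = x := fun z =>
    hpts _ (specializes_iff_mem_closure.2 (hrange.le ⟨z, rfl⟩))
  haveI : LocallyQuasiFinite (ι ≫ X.hom) := .of_injective fun z z' hzz => by
    refine ι.isClosedEmbedding.injective ?_
    change X.hom (ι z) = X.hom (ι z') at hzz
    rcases hmem z with h | h <;> rcases hmem z' with h' | h' <;> rw [h, h'] at hzz ⊢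
    · exact absurd (hzz.trans hx) hw
    · exact absurd (hzz.symm.trans hx) hw
  haveI : IsFinite (ι ≫ X.hom) := IsFinite.of_isProper_of_locallyQuasiFinite _
  let φ : R →+* Γ(Z, ⊤) := (ι ≫ X.hom).appTop.hom.comp (Scheme.ΓSpecIso (CommRingCat.of R)).inv.hom
  have hφ : φ.Finite :=
    ((ι ≫ X.hom).finite_app ⊤ (isAffineOpen_top _)).comp
      (RingHom.Finite.of_surjective _ (Scheme.ΓSpecIso (CommRingCat.of R)).symm.commRingCatIsoToRingEquiv.surjective)
  let e : X.left.residueField (ι η') →+* Z.residueField η' := (ι.residueFieldMap η').hom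
  have he : Function.Bijective e := ⟨e.injective, fun b => by
    obtain ⟨b', rfl⟩ := Z.residue_surjective η' b
    obtain ⟨a, rfl⟩ := ι.stalkMap_surjective η' b'
    exact ⟨X.left.residue _ a, ConcreteCategory.congr_hom (Scheme.residue_residueFieldMap ι η') a⟩⟩
  let θ : Γ(Z, ⊤) →+* X.left.residueField (ι η') :=
    (RingEquiv.ofBijective e he).symm.toRingHom.comp (Z.Γevaluation η').hom
  have hθ : ∀ r, θ (φ r) = (algebraMap R (X.left.residueField (ι η'))) r := fun r => by
    apply e.injective
    show e ((RingEquiv.ofBijective e he).symm (Z.Γevaluation η' (φ r))) = _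
    refine ((RingEquiv.ofBijective e he).apply_symm_apply _).trans ?_
    show Z.Γevaluation η' (ι.appTop (X.hom.appTop ((Scheme.ΓSpecIso (CommRingCat.of R)).inv r))) =
      ι.residueFieldMap η' (X.left.residue _ (X.left.presheaf.stalkSpecializes hwx
        (X.left.presheaf.germ ⊤ x trivial _)))
    rw [TopCat.Presheaf.germ_stalkSpecializes_apply]
    exact (Scheme.Γevaluation_naturality_apply ι η' _).symm
  letI := φ.toAlgebra
  haveI : Module.Finite R Γ(Z, ⊤) := hφ
  let L : Γ(Z, ⊤) →ₐ[R] X.left.residueField (ι η') := { θ with commutes' := hθ }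
  refine ⟨LinearMap.range L.toLinearMap, by rw [LinearMap.range_eq_map]; exact Module.Finite.fg_top.map _, fun a => ?_⟩
  obtain ⟨U, hxU, s, rfl⟩ := X.left.presheaf.exists_germ_eq a
  have hU : ι ⁻¹ᵁ U = ⊤ := top_le_iff.1 fun z _ => by
    show ι z ∈ U
    rcases hmem z with h | h <;> rw [h]
    · exact hwx.mem_open U.2 hxU
    · exact hxU
  refine ⟨Z.presheaf.map (eqToHom hU.symm).op (ι.app U s), e.injective ?_⟩
  show e ((RingEquiv.ofBijective e he).symm (Z.Γevaluation η' _)) = _
  refine ((RingEquiv.ofBijective e he).apply_symm_apply _).trans ?_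
  show Z.residue η' (Z.presheaf.germ ⊤ η' trivial (Z.presheaf.map (eqToHom hU.symm).op (ι.app U s))) =
    ι.residueFieldMap η' (X.left.residue _ (X.left.presheaf.stalkSpecializes hwx (X.left.presheaf.germ U x hxU s)))
  rw [TopCat.Presheaf.germ_res_apply, TopCat.Presheaf.germ_stalkSpecializes_apply]
  exact (Scheme.evaluation_naturality_apply ι η' (hwx.mem_open U.2 hxU) s).symm

end Groth.Agent.Inters29
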