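import Groth.Agent.Inters29.GenMult
import Groth.Agent.Inters29.HorizLength
import Groth.Agent.VarietyLib.SmoothStalk
import Groth.Agent.CAlgH3.RegularCore
import Groth.Agent.S5035
import Mathlib.RingTheory.ZariskisMainTheorem
import Mathlib.AlgebraicGeometry.Morphisms.Smooth

/-!
# Cutting a flat algebra over a Henselian discrete valuation ring at a general closed point
-/

set_option autoImplicit false
set_option linter.style.haveILetI false

universe u

open RingTheory.Sequence IsLocalRing
open scoped Pointwise TensorProduct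

namespace Groth.Agent.Inters29

section Reg

open AlgebraicGeometry CategoryTheory

set_option backward.isDefEq.respectTransparency false in
/-- A domain of finite type over a perfect field is regular at some maximal ideal off any hypersurface. -/
theorem exists_regular_maximal {k D : Type u} [Field k] [PerfectField k] [CommRing D] [IsDomain D] [Algebra k D]
    [Algebra.FiniteType k D] {g : D} (hg : g ≠ 0) :
    ∃ m : Ideal D, ∃ _ : m.IsMaximal, g ∉ m ∧ IsRegularLocalRing (Localization.AtPrime m) := by
  let f : Spec (CommRingCat.of D) ⟶ Spec (CommRingCat.of k) := Spec.map (CommRingCat.ofHom (algebraMap k D))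
  haveI : LocallyOfFiniteType f := (HasRingHomProperty.Spec_iff (P := @LocallyOfFiniteType)).2
    (RingHom.finiteType_algebraMap.2 inferInstance)
  haveI : LocallyOfFinitePresentation f := inferInstance
  haveI : IsIntegral (Spec (CommRingCat.of D)) := inferInstance
  haveI : JacobsonSpace (Spec (CommRingCat.of D)) := LocallyOfFiniteType.jacobsonSpace f
  let W := f.smoothLocus
  have hgen : genericPoint (Spec (CommRingCat.of D)) ∈ (Spec (CommRingCat.of D)).basicOpen
      ((Scheme.ΓSpecIso (CommRingCat.of D)).inv g) := by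
    rw [basicOpen_eq_of_affine, genericPoint_eq_bot_of_affine]
    exact hg
  obtain ⟨y, ⟨hy1, hy2⟩, hyc⟩ := nonempty_inter_closedPoints
    (Z := (W : Set (Spec (CommRingCat.of D))) ∩ ((Spec (CommRingCat.of D)).basicOpen
      ((Scheme.ΓSpecIso (CommRingCat.of D)).inv g) : Set _))
    ⟨_, f.genericPoint_mem_smoothLocus_of_perfectField, hgen⟩
    (W.2.inter ((Spec (CommRingCat.of D)).basicOpen _).2).isLocallyClosed
  have hmax : y.asIdeal.IsMaximal := (PrimeSpectrum.isClosed_singleton_iff_isMaximal y).1 hyc
  refine ⟨y.asIdeal, hmax, ?_, ?_⟩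
  · rw [SetLike.mem_coe, basicOpen_eq_of_affine] at hy2
    exact hy2
  · haveI : Smooth (W.ι ≫ f) := by
      rw [← Scheme.Hom.smoothLocus_eq_top_iff, ← Scheme.Hom.preimage_smoothLocus_eq]
      exact W.ι_preimage_self
    haveI := VarietyLib.isRegularLocalRing_stalk_of_smooth k W.toScheme (W.ι ≫ f) ⟨y, hy1⟩
    exact IsRegularLocalRing.of_ringEquiv (R := W.toScheme.presheaf.stalk ⟨y, hy1⟩)
      ((asIso (W.ι.stalkMap ⟨y, hy1⟩)).symm ≪≫ Spec.stalkIso (CommRingCat.of D) y).commRingCatIsoToRingEquiv

end Reg

/-- Regularity of `π` survives quotients by sequences regular modulo `π`. -/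
theorem isSMulRegular_quot {A : Type u} [CommRing A] (π : A) :
    ∀ (rs : List A) (M : Type u) [AddCommGroup M] [Module A M], IsSMulRegular M π →
      IsWeaklyRegular (QuotSMulTop π M) rs → IsSMulRegular (M ⧸ (Ideal.ofList rs • ⊤ : Submodule A M)) π := by
  intro rs
  induction rs with
  | nil =>
    intro M _ _ h _
    refine ((Submodule.quotEquivOfEqBot _ ?_).isSMulRegular_congr π).2 h
    rw [Ideal.ofList_nil, Submodule.bot_smul]
  | cons r rs ih =>
    intro M _ _ h hw
    rw [isWeaklyRegular_cons_iff] at hw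
    have h1 : IsSMulRegular (QuotSMulTop r M) π := by
      intro a b hab
      obtain ⟨a, rfl⟩ := Submodule.Quotient.mk_surjective _ a
      obtain ⟨b, rfl⟩ := Submodule.Quotient.mk_surjective _ b
      have hab' : π • (a - b) ∈ r • (⊤ : Submodule A M) := by
        rw [← Submodule.Quotient.mk_eq_zero, Submodule.Quotient.mk_smul, Submodule.Quotient.mk_sub, smul_sub, sub_eq_zero]
        exact hab
      obtain ⟨y, -, hy⟩ := (Submodule.mem_smul_pointwise_iff_exists _ _ _).1 hab'
      have hy0 : (Submodule.Quotient.mk y : QuotSMulTop π M) = 0 := hw.1 (by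
        show r • (Submodule.Quotient.mk y : QuotSMulTop π M) = r • (0 : QuotSMulTop π M)
        rw [smul_zero, ← Submodule.Quotient.mk_smul, Submodule.Quotient.mk_eq_zero, hy]
        exact Submodule.smul_mem_pointwise_smul _ _ _ trivial)
      obtain ⟨z, -, rfl⟩ := (Submodule.mem_smul_pointwise_iff_exists _ _ _).1 ((Submodule.Quotient.mk_eq_zero _).1 hy0)
      rw [Submodule.Quotient.eq]
      exact (Submodule.mem_smul_pointwise_iff_exists _ _ _).2
        ⟨z, trivial, h (show π • (r • z) = π • (a - b) by rw [← hy, smul_comm])⟩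
    let e1 : QuotSMulTop π (QuotSMulTop r M) ≃ₗ[A] QuotSMulTop r (QuotSMulTop π M) :=
      (Submodule.quotEquivOfEq _ _ (by rw [Ideal.ofList_singleton, Submodule.ideal_span_singleton_smul]) :
          QuotSMulTop π (QuotSMulTop r M) ≃ₗ[A] QuotSMulTop r M ⧸ (Ideal.ofList [π] • ⊤ : Submodule A _)) ≪≫ₗ
        (Submodule.quotOfListConsSMulTopEquivQuotSMulTopInner M r [π]).symm ≪≫ₗ
        Submodule.quotEquivOfEq _ _ (by rw [Ideal.ofList_cons, Ideal.ofList_singleton, Ideal.ofList_cons,
          Ideal.ofList_singleton, sup_comm]) ≪≫ₗ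
        Submodule.quotOfListConsSMulTopEquivQuotSMulTopInner M π [r] ≪≫ₗ
        Submodule.quotEquivOfEq _ _ (by rw [Ideal.ofList_singleton, Submodule.ideal_span_singleton_smul])
    exact ((Submodule.quotOfListConsSMulTopEquivQuotSMulTopInner M r rs).isSMulRegular_congr π).2
      (ih _ h1 ((LinearEquiv.isWeaklyRegular_congr e1 rs).2 hw.2))

/-- The length at a component is finite. -/
theorem length_localized_ne_top {A : Type u} [CommRing A] [IsNoetherianRing A] (π : A) (p : Ideal A) [p.IsPrime]
    (hp : p ∈ (Ideal.span {π}).minimalPrimes) :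
    Module.length (Localization.AtPrime p) (LocalizedModule p.primeCompl (A ⧸ Ideal.span {π})) ≠ ⊤ := by
  rw [(localizedCyclicEquiv p.primeCompl (Ideal.span {π}) (LinearEquiv.refl A _)).length_eq]
  let Ap := Localization.AtPrime p
  let J : Ideal Ap := (Ideal.span {π}).map (algebraMap A Ap)
  have hmin : maximalIdeal Ap ∈ J.minimalPrimes := by
    rw [show J = (Ideal.span {π}).map (algebraMap A Ap) from rfl, IsLocalization.minimalPrimes_map p.primeCompl]
    show (maximalIdeal Ap).under A ∈ (Ideal.span {π}).minimalPrimes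
    rw [IsLocalization.AtPrime.under_maximalIdeal Ap p]
    exact hp
  haveI := IsLocalRing.quotient_artinian_of_mem_minimalPrimes_of_isLocalRing J hmin
  rw [Module.length_eq_of_surjective (M := Ap ⧸ J) (S := Ap) (R := Ap ⧸ J) Ideal.Quotient.mk_surjective]
  exact Module.length_ne_top

/-- Residue fields of cuts at closed points are finite over the residue field of the base. -/
theorem finite_residue_of_surjective {R A C : Type u} [CommRing R] [IsLocalRing R] [CommRing A] [Algebra R A]
    [Algebra.FiniteType R A] [CommRing C] [IsLocalRing C] [Algebra R C] [IsLocalHom (algebraMap R C)]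
    (m : Ideal A) [m.IsMaximal] (hmR : maximalIdeal R ≤ m.comap (algebraMap R A)) (φ : A →ₐ[R] C)
    (hm : ∀ a, a ∈ m → φ a ∈ maximalIdeal C) (hφ : ∀ c : C, ∃ a s, IsUnit (φ s) ∧ c * φ s = φ a) :
    Module.Finite (ResidueField R) (ResidueField C) := by
  letI := Ideal.Quotient.field m
  let ψ : A ⧸ m →ₐ[R] ResidueField C := Ideal.Quotient.liftₐ m ((IsScalarTower.toAlgHom R C (ResidueField C)).comp φ)
    fun a ha => Ideal.Quotient.eq_zero_iff_mem.2 (hm a ha)
  have hsurj : Function.Surjective ψ := fun z => by
    obtain ⟨c, rfl⟩ := residue_surjective z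
    obtain ⟨a, s, hs, hc⟩ := hφ c
    refine ⟨Ideal.Quotient.mk m a * (Ideal.Quotient.mk m s)⁻¹, ?_⟩
    rw [map_mul, map_inv₀]
    show residue C (φ a) * (residue C (φ s))⁻¹ = residue C c
    rw [← hc, map_mul, mul_assoc, mul_inv_cancel₀ (hs.map (residue C)).ne_zero, mul_one]
  let θ : ResidueField R →+* A ⧸ m := Ideal.Quotient.lift (maximalIdeal R) (algebraMap R (A ⧸ m)) fun r hr => by
    rw [IsScalarTower.algebraMap_apply R A (A ⧸ m), Ideal.Quotient.algebraMap_eq]
    exact Ideal.Quotient.eq_zero_iff_mem.2 (hmR hr)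
  letI := θ.toAlgebra
  haveI : IsScalarTower R (ResidueField R) (A ⧸ m) := IsScalarTower.of_algebraMap_eq fun r => rfl
  haveI : Algebra.FiniteType (ResidueField R) (A ⧸ m) := Algebra.FiniteType.of_restrictScalars_finiteType R (ResidueField R) (A ⧸ m)
  haveI := finite_of_finite_type_of_isJacobsonRing (ResidueField R) (A ⧸ m)
  haveI : Module.Finite R (ResidueField R) := Module.Finite.of_surjective (Algebra.linearMap R _) residue_surjective
  haveI : Module.Finite R (A ⧸ m) := Module.Finite.trans (ResidueField R) _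
  haveI : Module.Finite R (ResidueField C) := Module.Finite.of_surjective ψ.toLinearMap hsurj
  exact Module.Finite.of_restrictScalars_finite R _ _

variable {R : Type u} [CommRing R] [IsDomain R] [IsDiscreteValuationRing R]
variable {A : Type u} [CommRing A] [Algebra R A] [Algebra.FiniteType R A] {ϖ : R}

/-- A general closed point on a component of the special fibre, with parameters of the component there. -/
theorem exists_paramSeq [PerfectField (ResidueField R)] (hϖ : Irreducible ϖ) (p : Ideal A) [p.IsPrime]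
    (hπ : algebraMap R A ϖ ∈ p) {G : A} (hG : G ∉ p) :
    ∃ m : Ideal A, ∃ _ : m.IsMaximal, G ∉ m ∧ p ≤ m ∧
      ∃ as : List A, IsParamSeq p m (as.map (algebraMap A (Localization.AtPrime m))) := by
  haveI : IsNoetherianRing A := Algebra.FiniteType.isNoetherianRing R A
  let D := A ⧸ p
  have hker : ∀ r ∈ maximalIdeal R, (algebraMap R D) r = 0 := fun r hr => by
    rw [hϖ.maximalIdeal_eq, Ideal.mem_span_singleton] at hr
    obtain ⟨c, rfl⟩ := hr
    rw [map_mul, IsScalarTower.algebraMap_apply R A D ϖ, Ideal.Quotient.algebraMap_eq,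
      Ideal.Quotient.eq_zero_iff_mem.2 hπ, zero_mul]
  letI : Algebra (ResidueField R) D := (Ideal.Quotient.lift (maximalIdeal R) (algebraMap R D) hker).toAlgebra
  haveI : IsScalarTower R (ResidueField R) D := IsScalarTower.of_algebraMap_eq fun r => rfl
  haveI : Algebra.FiniteType (ResidueField R) D := Algebra.FiniteType.of_restrictScalars_finiteType R (ResidueField R) D
  obtain ⟨md, hmd, hGmd, hreg⟩ := exists_regular_maximal (k := ResidueField R)
    (show Ideal.Quotient.mk p G ≠ 0 from fun h => hG (Ideal.Quotient.eq_zero_iff_mem.1 h))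
  let m := md.comap (Ideal.Quotient.mk p)
  haveI hm : m.IsMaximal := Ideal.comap_isMaximal_of_surjective _ Ideal.Quotient.mk_surjective
  have hpm : p ≤ m := fun a ha => by
    show Ideal.Quotient.mk p a ∈ md
    rw [Ideal.Quotient.eq_zero_iff_mem.2 ha]; exact zero_mem _
  refine ⟨m, hm, hGmd, hpm, ?_⟩
  let Am := Localization.AtPrime m
  let J := p.map (algebraMap A Am)
  have hsub : Algebra.algebraMapSubmonoid D m.primeCompl = md.primeCompl := by
    ext d
    refine ⟨?_, fun hd => ?_⟩
    · rintro ⟨a, ha, rfl⟩; exact ha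
    · obtain ⟨a, rfl⟩ := Ideal.Quotient.mk_surjective d
      exact ⟨a, hd, rfl⟩
  haveI : IsLocalization md.primeCompl (Am ⧸ J) := hsub ▸ inferInstance
  haveI : IsRegularLocalRing (Am ⧸ J) := IsRegularLocalRing.of_ringEquiv (R := Localization.AtPrime md)
    (IsLocalization.algEquiv md.primeCompl (Localization.AtPrime md) (Am ⧸ J)).toRingEquiv
  obtain ⟨rs0, hlen, hspan, -⟩ := CAlgH3.exists_isRegular_ofList_eq_maximalIdeal (R := Am ⧸ J)
  have hlift : ∀ c : Am ⧸ J, ∃ a : A, ∃ u : (Am ⧸ J)ˣ, algebraMap A (Am ⧸ J) a = c * u := fun c => by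
    obtain ⟨c, rfl⟩ := Ideal.Quotient.mk_surjective c
    obtain ⟨⟨a, s⟩, has⟩ := IsLocalization.surj (M := m.primeCompl) c
    refine ⟨a, ((IsLocalization.map_units Am s).map (Ideal.Quotient.mk J)).unit, ?_⟩
    rw [IsUnit.unit_spec, ← map_mul, has]
    rfl
  choose a u hau using hlift
  let as := rs0.map a
  have hspan' : Ideal.ofList (as.map (algebraMap A (Am ⧸ J))) = maximalIdeal (Am ⧸ J) := by
    rw [← hspan]
    refine le_antisymm (Ideal.span_le.2 ?_) (Ideal.span_le.2 ?_)
    · intro y hy
      simp only [as, Set.mem_setOf_eq, List.mem_map] at hy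
      obtain ⟨_, ⟨c, hc, rfl⟩, rfl⟩ := hy
      rw [hau]
      exact Ideal.mul_mem_right _ _ (Ideal.subset_span hc)
    · intro c hc
      have h : c = algebraMap A (Am ⧸ J) (a c) * ↑(u c)⁻¹ := by rw [hau, mul_assoc, Units.mul_inv, mul_one]
      rw [h]
      exact Ideal.mul_mem_right _ _ (Ideal.subset_span (by
        simp only [as, Set.mem_setOf_eq, List.mem_map]
        exact ⟨a c, ⟨c, hc, rfl⟩, rfl⟩))
  have hmap : as.map (algebraMap A (Am ⧸ J)) = (as.map (algebraMap A Am)).map (algebraMap Am (Am ⧸ J)) := by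
    simp only [as, List.map_map]; rfl
  refine ⟨as, ?_, ?_⟩
  · refine (isWeaklyRegular_map_algebraMap_iff (Am ⧸ J) (Am ⧸ J) (as.map (algebraMap A Am))).1 ?_
    rw [← hmap]
    exact (CAlgH3.isRegular_of_ofList_eq_maximalIdeal _ hspan' (by simp [as, hlen])).toIsWeaklyRegular
  · have h := congrArg (Ideal.comap (algebraMap Am (Am ⧸ J))) hspan'
    rw [hmap, ← Ideal.map_ofList, Ideal.Quotient.algebraMap_eq, Ideal.comap_map_of_surjective _ Ideal.Quotient.mk_surjective] at h
    rw [← RingHom.ker_eq_comap_bot, Ideal.mk_ker] at h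
    rw [sup_comm]
    refine h.trans ?_
    haveI := IsLocalHom.of_surjective (Ideal.Quotient.mk J) Ideal.Quotient.mk_surjective
    exact IsLocalRing.maximalIdeal_comap _

/-- A flat finite type algebra over a Henselian discrete valuation ring, cut at a general closed point of a
component of its special fibre: a finite free local algebra whose rank is the multiplicity of the component. -/
theorem exists_finite_free_cut [HenselianLocalRing R] [IsAlgClosed (ResidueField R)] (hϖ : Irreducible ϖ)
    (hreg : IsSMulRegular A (algebraMap R A ϖ)) (p : Ideal A) [p.IsPrime]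
    (hp : p ∈ (Ideal.span {algebraMap R A ϖ}).minimalPrimes) :
    ∃ (C : Type u) (_ : CommRing C) (_ : IsLocalRing C) (_ : Algebra R C) (φ : A →ₐ[R] C),
      Module.Finite R C ∧ Module.Free R C ∧ (∀ c : C, ∃ a s, IsUnit (φ s) ∧ c * φ s = φ a) ∧
      Module.length (Localization.AtPrime p) (LocalizedModule p.primeCompl (A ⧸ Ideal.span {algebraMap R A ϖ})) =
        Module.finrank R C := by
  haveI : IsNoetherianRing A := Algebra.FiniteType.isNoetherianRing R A
  set π := algebraMap R A ϖ
  obtain ⟨G, hG, hgen⟩ := exists_generic_length π p hp (A ⧸ Ideal.span {π}) fun x => by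
    obtain ⟨a, rfl⟩ := Ideal.Quotient.mk_surjective x
    rw [← Ideal.Quotient.mk_eq_mk, ← Submodule.Quotient.mk_smul, Submodule.Quotient.mk_eq_zero, smul_eq_mul]
    exact Ideal.mul_mem_right _ _ (Ideal.mem_span_singleton_self π)
  have hπp : π ∈ p := hp.1.2 (Ideal.mem_span_singleton_self π)
  obtain ⟨m, hm, hGm, hpm, as, hps⟩ := exists_paramSeq hϖ p hπp hG
  obtain ⟨hw, hlenM⟩ := hgen m hGm hpm _ hps
  let Am := Localization.AtPrime m
  let rs := as.map (algebraMap A Am)
  let πm := algebraMap A Am π
  let e : LocalizedModule m.primeCompl (A ⧸ Ideal.span {π}) ≃ₗ[Am] QuotSMulTop πm Am :=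
    localizedCyclicEquiv m.primeCompl (Ideal.span {π}) (LinearEquiv.refl A _) ≪≫ₗ
      Submodule.quotEquivOfEq _ _ (by
        rw [Ideal.map_span, Set.image_singleton, ← Submodule.ideal_span_singleton_smul]
        exact (Ideal.mul_top _).symm)
  have hwq : IsWeaklyRegular (QuotSMulTop πm Am) rs := (LinearEquiv.isWeaklyRegular_congr e rs).1 hw
  have hregm : IsSMulRegular Am πm := by
    haveI : Module.Flat A Am := IsLocalization.flat Am m.primeCompl
    exact hreg.of_flat
  let I := Ideal.ofList rs
  have hIm : I ≤ maximalIdeal Am := hps.2 ▸ le_sup_right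
  let C := Am ⧸ I
  haveI : IsLocalRing C := CAlgH3.isLocalRing_quotient hIm
  let φ : A →ₐ[R] C := IsScalarTower.toAlgHom R A C
  have hφ : ∀ c : C, ∃ a s, IsUnit (φ s) ∧ c * φ s = φ a := fun c => by
    obtain ⟨c, rfl⟩ := Ideal.Quotient.mk_surjective c
    obtain ⟨⟨a, s⟩, has⟩ := IsLocalization.surj (M := m.primeCompl) c
    refine ⟨a, s, (IsLocalization.map_units Am s).map (Ideal.Quotient.mk I), ?_⟩
    show Ideal.Quotient.mk I c * Ideal.Quotient.mk I (algebraMap A Am s) = Ideal.Quotient.mk I (algebraMap A Am a)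
    rw [← map_mul, has]
  have hregC : IsSMulRegular C πm := by
    refine ((Submodule.quotEquivOfEq _ _ ?_).isSMulRegular_congr πm).1 (isSMulRegular_quot πm rs Am hregm hwq)
    rw [smul_eq_mul, Ideal.mul_top]
  -- length of the special fibre of the cut
  have hQ : Module.length Am (C ⧸ Ideal.span {algebraMap Am C πm}) =
      Module.length (Localization.AtPrime p) (LocalizedModule p.primeCompl (A ⧸ Ideal.span {π})) := by
    rw [← hlenM]
    have e1 : (C ⧸ Ideal.span {algebraMap Am C πm}) ≃ₗ[Am] Am ⧸ (I ⊔ Ideal.span {πm}) :=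
      ((Ideal.quotientEquivAlgOfEq Am (by rw [Ideal.map_span, Set.image_singleton]; rfl)).trans
        (DoubleQuot.quotQuotEquivQuotSupₐ Am I (Ideal.span {πm}))).toLinearEquiv
    have e2 : (LocalizedModule m.primeCompl (A ⧸ Ideal.span {π}) ⧸ (I • ⊤ : Submodule Am _)) ≃ₗ[Am]
        Am ⧸ (I ⊔ Ideal.span {πm}) :=
      Submodule.Quotient.equiv _ _ e (show Submodule.map _ _ = (I • ⊤ : Submodule Am _) by
          rw [Submodule.map_smul'', Submodule.map_top, LinearEquiv.range]) ≪≫ₗ
        (Submodule.quotOfListConsSMulTopEquivQuotSMulTopInner Am πm rs).symm ≪≫ₗ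
        Submodule.quotEquivOfEq _ _ (by rw [smul_eq_mul, Ideal.mul_top, Ideal.ofList_cons, sup_comm])
    exact (e1.trans e2.symm).length_eq
  -- finiteness
  have hunit : ∀ r : R, r ∉ maximalIdeal R → IsUnit (algebraMap R C r) := fun r hr =>
    (IsLocalRing.notMem_maximalIdeal.1 hr).map _
  have hπC : algebraMap R C ϖ = algebraMap Am C πm := by
    rw [IsScalarTower.algebraMap_apply R A C]; exact IsScalarTower.algebraMap_apply A Am C π
  have hπmax : algebraMap R C ϖ ∈ maximalIdeal C := by
    rw [hπC]
    refine (mem_maximalIdeal _).2 fun hu => ?_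
    haveI := IsLocalHom.of_surjective (algebraMap Am C) Ideal.Quotient.mk_surjective
    exact (mem_maximalIdeal _).1 (show πm ∈ maximalIdeal Am from
      (IsLocalization.AtPrime.to_map_mem_maximal_iff Am m π).2 (hpm hπp)) (isUnit_of_map_unit _ _ hu)
  haveI : IsLocalHom (algebraMap R C) := ⟨fun r hr => by
    by_contra hu
    have hr' : r ∈ maximalIdeal R := hu
    rw [hϖ.maximalIdeal_eq, Ideal.mem_span_singleton] at hr'
    obtain ⟨c, rfl⟩ := hr'
    rw [map_mul] at hr
    exact (mem_maximalIdeal _).1 hπmax (isUnit_of_mul_isUnit_left hr)⟩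
  haveI : Module.Finite R C := by
    let q := m.map (Ideal.Quotient.mk (Ideal.ofList as))
    have hasm : Ideal.ofList as ≤ m := by
      refine Ideal.span_le.2 fun a ha => ?_
      refine (IsLocalization.AtPrime.to_map_mem_maximal_iff Am m a).1 (hIm (Ideal.subset_span ?_))
      exact List.mem_map.2 ⟨a, ha, rfl⟩
    have hcq : q.comap (Ideal.Quotient.mk (Ideal.ofList as)) = m := by
      rw [Ideal.comap_map_of_surjective _ Ideal.Quotient.mk_surjective, ← RingHom.ker_eq_comap_bot, Ideal.mk_ker,
        sup_eq_left.2 hasm]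
    haveI hq : q.IsPrime := Ideal.map_isPrime_of_surjective Ideal.Quotient.mk_surjective (by rw [Ideal.mk_ker]; exact hasm)
    let S := A ⧸ Ideal.ofList as
    have hmapI : (Ideal.ofList as).map (algebraMap A Am) = I := Ideal.map_ofList _ _
    let C' := Am ⧸ (Ideal.ofList as).map (algebraMap A Am)
    have hsub : Algebra.algebraMapSubmonoid S m.primeCompl = q.primeCompl := by
      ext d
      refine ⟨?_, fun hd => ?_⟩
      · rintro ⟨a, ha, rfl⟩ h
        exact ha (hcq.le (Ideal.mem_comap.2 h))
      · obtain ⟨a, rfl⟩ := Ideal.Quotient.mk_surjective d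
        exact ⟨a, fun h => hd (Ideal.mem_map_of_mem _ h), rfl⟩
    haveI : IsLocalization q.primeCompl C' := hsub ▸ inferInstance
    haveI : IsScalarTower R S C' := IsScalarTower.of_algebraMap_eq fun r => rfl
    let eC : Localization.AtPrime q ≃ₐ[R] C :=
      ((IsLocalization.algEquiv q.primeCompl (Localization.AtPrime q) C').restrictScalars R).trans
        (Ideal.quotientEquivAlgOfEq R hmapI)
    haveI : q.LiesOver (maximalIdeal R) := ⟨by
      refine ((maximalIdeal.isMaximal R).eq_of_le (Ideal.comap_ne_top _ hq.ne_top) ?_)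
      rw [hϖ.maximalIdeal_eq, Ideal.span_singleton_le_iff_mem]
      exact hcq.ge (hpm hπp)⟩
    haveI : Algebra.WeaklyQuasiFiniteAt R q := by
      rw [Algebra.weaklyQuasiFiniteAt_iff, ← Ideal.over_def q (maximalIdeal R)]
      suffices Module.Finite R (Localization.AtPrime q ⧸ (maximalIdeal R).map (algebraMap R (Localization.AtPrime q))) from
        inferInstance
      have hfinQ : Module.Finite R (C ⧸ (maximalIdeal R).map (algebraMap R C)) := by
        have hlen : Module.length C (C ⧸ (maximalIdeal R).map (algebraMap R C)) ≠ ⊤ := by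
          rw [hϖ.maximalIdeal_eq, Ideal.map_span, Set.image_singleton, hπC,
            ← Module.length_eq_of_surjective (R := C) (S := Am) (M := C ⧸ Ideal.span {algebraMap Am C πm})
              Ideal.Quotient.mk_surjective, hQ]
          exact length_localized_ne_top π p hp
        have hmR : maximalIdeal R ≤ m.comap (algebraMap R A) := by
          rw [hϖ.maximalIdeal_eq, Ideal.span_singleton_le_iff_mem]
          exact hpm hπp
        have hmC : ∀ a, a ∈ m → φ a ∈ maximalIdeal C := fun a ha => by
          refine (mem_maximalIdeal _).2 fun hu => ?_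
          haveI := IsLocalHom.of_surjective (algebraMap Am C) Ideal.Quotient.mk_surjective
          exact (mem_maximalIdeal _).1 ((IsLocalization.AtPrime.to_map_mem_maximal_iff Am m a).2 ha)
            (isUnit_of_map_unit (algebraMap Am C) _ hu)
        have h2 : Module.Finite (ResidueField R) (ResidueField C) := finite_residue_of_surjective m hmR φ hmC hφ
        have h3 := IsLocalRing.length_restrictScalars R C (C ⧸ (maximalIdeal R).map (algebraMap R C))
        have h4 : Module.length R (C ⧸ (maximalIdeal R).map (algebraMap R C)) ≠ ⊤ := by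
          rw [h3, Module.length_eq_finrank]
          exact WithTop.mul_ne_top hlen (ENat.natCast_ne_top _)
        haveI := (isFiniteLength_iff_isNoetherian_isArtinian.1 (Module.length_ne_top_iff.1 h4)).1
        infer_instance
      have hI : (maximalIdeal R).map (algebraMap R C) =
          ((maximalIdeal R).map (algebraMap R (Localization.AtPrime q))).map (eC : Localization.AtPrime q →+* C) := by
        rw [Ideal.map_map]; congr 1; ext r; exact (eC.commutes r).symm
      exact Module.Finite.equiv (Ideal.quotientEquivAlg _ _ eC hI).symm.toLinearEquiv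
    haveI : Algebra.QuasiFiniteAt R q := Algebra.QuasiFiniteAt.of_weaklyQuasiFiniteAt q
    haveI := (S5035.result R).1 inferInstance S q inferInstance inferInstance
    exact Module.Finite.equiv eC.toLinearEquiv
  have htf : IsSMulRegular C (algebraMap R C ϖ) := by
    rw [hπC, isSMulRegular_algebraMap_iff]
    exact hregC
  have hinj : ∀ r : R, r ≠ 0 → IsSMulRegular C r := fun r hr => by
    obtain ⟨n, v, rfl⟩ := IsDiscreteValuationRing.eq_unit_mul_pow_irreducible hr hϖ
    exact IsSMulRegular.mul (v.isUnit.isSMulRegular _) ((((isSMulRegular_algebraMap_iff ..).1 htf : IsSMulRegular C ϖ)).pow _)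
  haveI : Module.IsTorsionFree R C := ⟨fun r hr => hinj r hr.ne_zero⟩
  haveI : Module.Free R C := Module.free_of_finite_type_torsion_free'
  refine ⟨C, inferInstance, inferInstance, inferInstance, φ, inferInstance, inferInstance, hφ, ?_⟩
  rw [← hQ, ← ord_eq_finrank (B := C) hϖ, Ring.ord, hπC]
  exact Module.length_eq_of_surjective Ideal.Quotient.mk_surjective

end Groth.Agent.Inters29
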