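import Mathlib.RingTheory.Regular.RegularSequence
import Mathlib.RingTheory.Ideal.AssociatedPrime.Finiteness
import Mathlib.RingTheory.Localization.AtPrime.Basic
import Mathlib.RingTheory.Length
import Mathlib.Algebra.Module.LocalizedModule.Exact
import Mathlib.Algebra.Module.LocalizedModule.Submodule
import Mathlib.RingTheory.Localization.Module
import Mathlib.RingTheory.Localization.Ideal
import Mathlib.RingTheory.Support

/-!
# Lengths at generic points seen at general closed points

For a finite module `M` over a Noetherian ring supported on `V(π)` and a minimal prime `p` of `(π)`, at all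
maximal ideals `m ⊇ p` off a suitable hypersurface the length of `M_m` modulo a system of parameters of
`(A/p)_m` is the length of `M_p`.
-/

set_option autoImplicit false
set_option linter.style.haveILetI false

universe u

open RingTheory.Sequence
open scoped Pointwise

namespace Groth.Agent.Inters29

/-- Weakly regular sequences and lengths modulo them in short exact sequences. -/
theorem isWeaklyRegular_and_length {A : Type u} [CommRing A] :
    ∀ (rs : List A) {N M Q : Type u} [AddCommGroup N] [Module A N] [AddCommGroup M] [Module A M]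
      [AddCommGroup Q] [Module A Q] (f : N →ₗ[A] M) (g : M →ₗ[A] Q),
      Function.Injective f → Function.Surjective g → Function.Exact f g →
      IsWeaklyRegular N rs → IsWeaklyRegular Q rs → IsWeaklyRegular M rs ∧
        Module.length A (M ⧸ (Ideal.ofList rs • ⊤ : Submodule A M)) =
          Module.length A (N ⧸ (Ideal.ofList rs • ⊤ : Submodule A N)) +
            Module.length A (Q ⧸ (Ideal.ofList rs • ⊤ : Submodule A Q)) := by
  intro rs
  induction rs with
  | nil =>
    intro N M Q _ _ _ _ _ _ f g hf hg hex _ _
    refine ⟨IsWeaklyRegular.nil A M, ?_⟩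
    have h0 : ∀ (V : Type u) [AddCommGroup V] [Module A V],
        Module.length A (V ⧸ (Ideal.ofList ([] : List A) • ⊤ : Submodule A V)) = Module.length A V := fun V _ _ =>
      (Submodule.quotEquivOfEqBot _ (by rw [Ideal.ofList_nil, Submodule.bot_smul])).length_eq
    rw [h0, h0, h0]
    exact Module.length_eq_add_of_exact f g hf hg hex
  | cons r rs ih =>
    intro N M Q _ _ _ _ _ _ f g hf hg hex hN hQ
    rw [isWeaklyRegular_cons_iff] at hN hQ
    have hM : IsSMulRegular M r := fun a b hab => by
      rw [← sub_eq_zero]
      have h1 : r • (a - b) = 0 := by rw [smul_sub]; exact sub_eq_zero.2 hab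
      have h2 : g (a - b) = 0 := hQ.1 (show r • g (a - b) = r • (0 : Q) by rw [← map_smul, h1, map_zero, smul_zero])
      obtain ⟨n, hn⟩ := (hex _).1 h2
      have h3 : n = 0 := hN.1 (show r • n = r • (0 : N) from hf (by rw [map_smul, hn, h1, smul_zero, map_zero]))
      rw [← hn, h3, map_zero]
    have hsurj : Function.Surjective (QuotSMulTop.map r g) := fun y => by
      obtain ⟨y, rfl⟩ := Submodule.Quotient.mk_surjective _ y
      obtain ⟨x, rfl⟩ := hg y
      exact ⟨Submodule.Quotient.mk x, rfl⟩
    have hinj : Function.Injective (QuotSMulTop.map r f) := by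
      rw [injective_iff_map_eq_zero]
      intro y hy
      obtain ⟨n, rfl⟩ := Submodule.Quotient.mk_surjective _ y
      have hy' : f n ∈ r • (⊤ : Submodule A M) := (Submodule.Quotient.mk_eq_zero _).1 hy
      obtain ⟨x, -, hx⟩ := (Submodule.mem_smul_pointwise_iff_exists _ _ _).1 hy'
      have h2 : g x = 0 := hQ.1 (show r • g x = r • (0 : Q) by
        rw [← map_smul, hx, smul_zero]; exact (hex _).2 ⟨n, rfl⟩)
      obtain ⟨n', hn'⟩ := (hex _).1 h2
      refine (Submodule.Quotient.mk_eq_zero _).2 ((Submodule.mem_smul_pointwise_iff_exists _ _ _).2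
        ⟨n', trivial, hf ?_⟩)
      rw [map_smul, hn', hx]
    have hexq : Function.Exact (QuotSMulTop.map r f) (QuotSMulTop.map r g) := QuotSMulTop.map_exact r hex hg
    obtain ⟨h1, h2⟩ := ih _ _ hinj hsurj hexq hN.2 hQ.2
    refine ⟨(isWeaklyRegular_cons_iff M r rs).2 ⟨hM, h1⟩, ?_⟩
    rw [(Submodule.quotOfListConsSMulTopEquivQuotSMulTopInner M r rs).length_eq,
      (Submodule.quotOfListConsSMulTopEquivQuotSMulTopInner N r rs).length_eq,
      (Submodule.quotOfListConsSMulTopEquivQuotSMulTopInner Q r rs).length_eq, h2]

/-- The localisation of a cyclic module. -/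
noncomputable def localizedCyclicEquiv {A : Type u} [CommRing A] (S : Submonoid A) (I : Ideal A) {N : Type u}
    [AddCommGroup N] [Module A N] (e : N ≃ₗ[A] A ⧸ I) :
    LocalizedModule S N ≃ₗ[Localization S] Localization S ⧸ I.map (algebraMap A (Localization S)) :=
  ((IsLocalizedModule.linearEquiv S (LocalizedModule.mkLinearMap S N)
      ((I.toLocalizedQuotient' (Localization S) S (Algebra.linearMap A (Localization S))).comp e.toLinearMap)).trans
    ((Submodule.quotEquivOfEq _ _ (Ideal.localized'_eq_map (Localization S) S I)).restrictScalars A)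
    ).extendScalarsOfIsLocalization S (Localization S)

theorem subsingleton_localized {A : Type u} [CommRing A] (S : Submonoid A) (N : Type u) [AddCommGroup N]
    [Module A N] {g : A} (hg : g ∈ S) (h : ∀ x : N, g • x = 0) : Subsingleton (LocalizedModule S N) :=
  LocalizedModule.subsingleton_iff.2 fun x => ⟨g, hg, h x⟩

variable {A : Type u} [CommRing A] [IsNoetherianRing A] (π : A) (p : Ideal A) [p.IsPrime]

/-- `rs` is a system of parameters of `(A/p)_m` generating its maximal ideal. -/
def IsParamSeq (m : Ideal A) [m.IsPrime] (rs : List (Localization.AtPrime m)) : Prop :=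
  IsWeaklyRegular (Localization.AtPrime m ⧸ p.map (algebraMap A (Localization.AtPrime m))) rs ∧
    p.map (algebraMap A (Localization.AtPrime m)) ⊔ Ideal.ofList rs =
      IsLocalRing.maximalIdeal (Localization.AtPrime m)

/-- The length of `M` at `p`, seen at general primes containing `p`. -/
theorem exists_generic_length (hp : p ∈ (Ideal.span {π}).minimalPrimes) (M : Type u) [AddCommGroup M] [Module A M]
    [Module.Finite A M] (hM : ∀ x : M, π • x = 0) :
    ∃ G, G ∉ p ∧ ∀ (m : Ideal A) [m.IsPrime], G ∉ m → p ≤ m → ∀ rs : List (Localization.AtPrime m),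
      IsParamSeq p m rs →
        IsWeaklyRegular (LocalizedModule m.primeCompl M) rs ∧
        Module.length (Localization.AtPrime m) (LocalizedModule m.primeCompl M ⧸
            (Ideal.ofList rs • ⊤ : Submodule (Localization.AtPrime m) (LocalizedModule m.primeCompl M))) =
          Module.length (Localization.AtPrime p) (LocalizedModule p.primeCompl M) := by
  revert hM
  induction ‹Module.Finite A M› using IsNoetherianRing.induction_on_isQuotientEquivQuotientPrime A with
  | subsingleton N =>
    intro _
    refine ⟨1, (Ideal.ne_top_iff_one p).1 (Ideal.IsPrime.ne_top inferInstance), fun m _ _ _ rs _ => ?_⟩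
    haveI : Subsingleton (LocalizedModule m.primeCompl N) :=
      subsingleton_localized _ N (one_mem _) fun x => Subsingleton.elim _ _
    haveI : Subsingleton (LocalizedModule p.primeCompl N) :=
      subsingleton_localized _ N (one_mem _) fun x => Subsingleton.elim _ _
    exact ⟨.mk fun i hi => Function.injective_of_subsingleton _, by rw [Module.length_eq_zero, Module.length_eq_zero]⟩
  | quotient N P e =>
    intro hN
    by_cases hPp : P.1 ≤ p
    · have hπP : π ∈ P.1 := by
        have h := congrArg e (hN (e.symm (Ideal.Quotient.mk P.1 1)))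
        rw [map_smul, e.apply_symm_apply, map_zero, Algebra.smul_def, map_one, mul_one] at h
        exact Ideal.Quotient.eq_zero_iff_mem.1 h
      have hP : P.1 = p := le_antisymm hPp
        (hp.2 ⟨P.2, (Ideal.span_singleton_le_iff_mem _).2 hπP⟩ hPp)
      refine ⟨1, (Ideal.ne_top_iff_one p).1 (Ideal.IsPrime.ne_top inferInstance), fun m _ _ _ rs hrs => ?_⟩
      let em := localizedCyclicEquiv m.primeCompl p (e.trans (Submodule.quotEquivOfEq _ _ hP))
      let ep := localizedCyclicEquiv p.primeCompl p (e.trans (Submodule.quotEquivOfEq _ _ hP))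
      refine ⟨(LinearEquiv.isWeaklyRegular_congr em rs).2 hrs.1, ?_⟩
      have h1 : Module.length (Localization.AtPrime p) (LocalizedModule p.primeCompl N) = 1 := by
        rw [ep.length_eq, Module.length_eq_one_iff, isSimpleModule_iff_isCoatom, ← Ideal.isMaximal_def,
          Localization.AtPrime.map_eq_maximalIdeal]
        exact IsLocalRing.maximalIdeal.isMaximal _
      rw [h1, (Submodule.Quotient.equiv _ _ em (show Submodule.map _ _ =
          (Ideal.ofList rs • ⊤ : Submodule (Localization.AtPrime m) _) by
        rw [Submodule.map_smul'', Submodule.map_top, LinearEquiv.range])).length_eq,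
        Module.length_eq_one_iff, isSimpleModule_iff_isCoatom, Ideal.smul_top_eq_map]
      have h2 : (Ideal.ofList rs).map (algebraMap (Localization.AtPrime m)
          (Localization.AtPrime m ⧸ p.map (algebraMap A (Localization.AtPrime m)))) =
          (IsLocalRing.maximalIdeal (Localization.AtPrime m)).map (Ideal.Quotient.mk _) := by
        rw [← hrs.2, Ideal.map_sup, Ideal.map_quotient_self, bot_sup_eq]
        rfl
      rw [h2]
      refine ⟨fun h => ?_, fun J hJ => ?_⟩
      · rw [Submodule.restrictScalars_eq_top_iff] at h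
        have h' := congrArg (Ideal.comap (Ideal.Quotient.mk _)) h
        rw [Ideal.comap_map_of_surjective _ Ideal.Quotient.mk_surjective, Ideal.comap_top,
          ← RingHom.ker_eq_comap_bot, Ideal.mk_ker, sup_eq_left.2 (hrs.2 ▸ le_sup_left)] at h'
        exact (IsLocalRing.maximalIdeal.isMaximal _).ne_top h'
      · obtain ⟨x, hxJ, hx⟩ := SetLike.exists_of_lt hJ
        obtain ⟨a, rfl⟩ := Ideal.Quotient.mk_surjective x
        have ha : IsUnit a := by
          by_contra hu
          exact hx (Ideal.mem_map_of_mem _ hu)
        refine eq_top_iff.2 fun y _ => ?_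
        obtain ⟨b, rfl⟩ := Ideal.Quotient.mk_surjective y
        have h3 := J.smul_mem (b * ↑ha.unit⁻¹) hxJ
        rwa [← Ideal.Quotient.mk_eq_mk, ← Submodule.Quotient.mk_smul, smul_eq_mul, mul_assoc, IsUnit.val_inv_mul, mul_one,
          Ideal.Quotient.mk_eq_mk] at h3
    · obtain ⟨g, hgP, hgp⟩ := Set.not_subset.1 hPp
      refine ⟨g, hgp, fun m _ hgm _ rs _ => ?_⟩
      have hkill : ∀ x : N, g • x = 0 := fun x => e.injective (by
        obtain ⟨a, ha⟩ := Ideal.Quotient.mk_surjective (e x)
        rw [map_smul, map_zero, ← ha, Algebra.smul_def, Ideal.Quotient.algebraMap_eq, ← map_mul,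
          Ideal.Quotient.eq_zero_iff_mem]
        exact Ideal.mul_mem_right _ _ hgP)
      haveI : Subsingleton (LocalizedModule m.primeCompl N) := subsingleton_localized _ N hgm hkill
      haveI : Subsingleton (LocalizedModule p.primeCompl N) := subsingleton_localized _ N hgp hkill
      exact ⟨.mk fun i hi => Function.injective_of_subsingleton _, by rw [Module.length_eq_zero, Module.length_eq_zero]⟩
  | exact N₁ N₂ N₃ f g hf hg hex h₁ h₃ =>
    intro h₂
    obtain ⟨G₁, hG₁, H₁⟩ := h₁ fun x => hf (by rw [map_smul, h₂, map_zero])
    obtain ⟨G₃, hG₃, H₃⟩ := h₃ fun x => by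
      obtain ⟨y, rfl⟩ := hg x
      rw [← map_smul, h₂, map_zero]
    refine ⟨G₁ * G₃, fun h => (Ideal.IsPrime.mem_or_mem inferInstance h).elim hG₁ hG₃, fun m _ hG hpm rs hrs => ?_⟩
    obtain ⟨a1, b1⟩ := H₁ m (fun h => hG (m.mul_mem_right _ h)) hpm rs hrs
    obtain ⟨a3, b3⟩ := H₃ m (fun h => hG (m.mul_mem_left _ h)) hpm rs hrs
    obtain ⟨a2, b2⟩ := isWeaklyRegular_and_length rs (LocalizedModule.map m.primeCompl f)
      (LocalizedModule.map m.primeCompl g) (LocalizedModule.map_injective _ f hf)
      (LocalizedModule.map_surjective _ g hg) (LocalizedModule.map_exact _ f g hex) a1 a3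
    refine ⟨a2, ?_⟩
    rw [b2, b1, b3]
    exact (Module.length_eq_add_of_exact (LocalizedModule.map p.primeCompl f) (LocalizedModule.map p.primeCompl g)
      (LocalizedModule.map_injective _ f hf) (LocalizedModule.map_surjective _ g hg)
      (LocalizedModule.map_exact _ f g hex)).symm

end Groth.Agent.Inters29
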