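import Groth.Agent.Inters29.Matrix
import Groth.Agent.PicLib.PicGroup
import Groth.Prelude.Def_FGA

/-!
# Principal vertical divisors
-/

set_option autoImplicit false
set_option linter.style.haveILetI false
set_option backward.isDefEq.respectTransparency false

universe u

open CategoryTheory CategoryTheory.Limits AlgebraicGeometry TopologicalSpace IsLocalRing
open Groth.Agent.Coherent Groth.Agent.PicLib Groth.Agent.AmpleLib
open Groth.Agent.Misc15.DivDescent Groth.Agent.SDiv28.CartierPart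

namespace Groth.Agent.Inters29

section Twist

variable {Y : Scheme.{u}}

theorem exists_tensorList_class {ι : Type*} (M : ι → Y.Modules) (hM : ∀ i, PicF.IsInvertible (M i)) :
    ∀ l : List ι, ∃ h : PicF.IsInvertible (FGA.tensorList (l.map M)),
      PicM.of h = (l.map fun i => PicM.of (hM i)).prod
  | [] => ⟨isInvertible_structureModule, rfl⟩
  | i :: l => by
    obtain ⟨h, hl⟩ := exists_tensorList_class M hM l
    refine ⟨isInvertible_tensorMod (hM i) h, ?_⟩
    exact ((PicM.of_mul (hM i) h).symm.trans (congrArg (PicM.of (hM i) * ·) hl)).trans (List.prod_cons).symm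

theorem exists_multiTwist_class {n : ℕ} (L : Fin n → Y.Modules) (hL : ∀ i, PicF.IsInvertible (L i))
    (a : Fin n → ℕ) : ∃ h : PicF.IsInvertible (FGA.multiTwist L a),
      PicM.of h = ∏ i, PicM.of (hL i) ^ a i := by
  obtain ⟨h, hl⟩ := exists_tensorList_class (fun i => CohB1.tensorPow (L i) (a i))
    (fun i => isInvertible_tensorPow (hL i) (a i)) (List.finRange n)
  refine ⟨h, hl.trans ((Fin.prod_univ_def _).symm.trans (Finset.prod_congr rfl fun i _ => ?_))⟩
  exact PicM.of_tensorPow (hL i) (a i)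

/-- A trivial invertible ideal has a global generator. -/
theorem exists_global_gen (I : Y.IdealSheafData)
    (h : Nonempty (ClSub.idealMod I ≅ Coh.structureModule Y)) :
    ∃ s : Γ(Y, ⊤), ∀ U : Y.affineOpens, I.ideal U = Ideal.span {PicLib.res le_top s} := by
  obtain ⟨e⟩ := h
  refine ⟨(ClSub.idealModι I).app ⊤ (e.inv.app ⊤ (oneSec ⊤)), fun U => ?_⟩
  let s : Γ(Y, ⊤) := (ClSub.idealModι I).app ⊤ (e.inv.app ⊤ (oneSec ⊤))
  have hs : PicLib.res (le_top : U.1 ≤ ⊤) s = (ClSub.idealModι I).app U.1 (e.inv.app U.1 (oneSec U.1)) := by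
    rw [← resM_oneSec (le_top : U.1 ≤ ⊤), app_resM, app_resM]
    rfl
  have hmem : ∀ k, (show Γ(Y, U.1) from (ClSub.idealModι I).app U.1 k) ∈ I.ideal U := fun k =>
    (I.ker_subschemeι_app U) ▸ RingHom.mem_ker.2 ((AmpleLib.mem_range_idealModι I U.1 _).1 ⟨k, rfl⟩)
  refine le_antisymm (fun a ha => ?_) ((Ideal.span_singleton_le_iff_mem _).2 ?_)
  · obtain ⟨k, hk⟩ := (AmpleLib.mem_range_idealModι I U.1 a).2
      (RingHom.mem_ker.1 ((I.ker_subschemeι_app U).symm ▸ ha))
    let c : Γ(Y, U.1) := (show Γ(Y, U.1) from e.hom.app U.1 k)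
    have hc : e.inv.app U.1 (c • oneSec U.1) = k := by
      have h1 : c • oneSec U.1 = e.hom.app U.1 k := (show (c * 1 : Γ(Y, U.1)) = c from mul_one c)
      rw [h1, ← ConcreteCategory.comp_apply, ← Scheme.Modules.Hom.comp_app, e.hom_inv_id]
      rfl
    rw [Scheme.Modules.Hom.app_smul] at hc
    refine Ideal.mem_span_singleton'.2 ⟨c, ?_⟩
    rw [hs, ← hk, ← hc, Scheme.Modules.Hom.app_smul]
    rfl
  · rw [hs]; exact hmem _

end Twist

variable (R : Type u) [CommRing R] [IsDomain R] [IsDiscreteValuationRing R]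
variable {X : Over (Spec (CommRingCat.of R))} [IsIntegral X.left] [IsLocallyNoetherian X.left] [Flat X.hom]
variable (hreg : ∀ x : X.left, IsRegularLocalRing (X.left.presheaf.stalk x))
variable {n : ℕ} (Γ : Fin n → ArSurf.VertComp R X) (hΓ : Models.IsComponentList R X Γ)
include hreg hΓ

theorem stk_prod_genPt (e : Fin n → ℕ) (j : Fin n) :
    stk (∏ i, (Γ i).ι.ker ^ e i) (gen (Γ j).ι.ker) =
      maximalIdeal (X.left.presheaf.stalk (gen (Γ j).ι.ker)) ^ e j := by
  have hD := isEffCartier_listComp R Γ hreg hΓ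
  rw [stk_prod, Finset.prod_eq_single j (fun i _ hij => ?_) (by simp), stk_pow, stk_gen (hD j)]
  rw [stk_pow, stk_eq_top (fun hm => hij ?_), Ideal.top_pow, Ideal.one_eq_top]
  refine genPt_injective R Γ hΓ ?_
  show (Γ i).ι _ = (Γ j).ι _
  rw [← gen_ker, ← gen_ker]
  exact (eq_gen_of_coheight_le (hD i) hm (coheight_gen (hD j)).le).symm

theorem pow_injective_genPt (j : Fin n) :
    Function.Injective fun a : ℕ => maximalIdeal (X.left.presheaf.stalk (gen (Γ j).ι.ker)) ^ a := by
  obtain ⟨_, _⟩ := SDiv28.StalkCartier.exists_dvr (isEffCartier_listComp R Γ hreg hΓ j) _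
    (isGenericPoint_gen (Γ j).ι.ker)
  exact (Ideal.pow_right_strictAnti _ (IsDiscreteValuationRing.not_a_field _)
    (Ideal.IsPrime.ne_top inferInstance)).injective

/-- A principal vertical divisor is a multiple of the special fibre. -/
theorem exists_eq_mul_mult (hG : Function.Bijective (Coh.toGlobal X.hom)) (e : Fin n → ℕ)
    (he : ∏ i, idealCl (Γ i).ι.ker (isEffCartier_listComp R Γ hreg hΓ i) ^ e i = 1) :
    ∃ k : ℕ, ∀ i, e i = k * Models.mult R X (Γ i) := by
  have hD := isEffCartier_listComp R Γ hreg hΓ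
  let J := fun i => (Γ i).ι.ker ^ e i
  have hJ : ∀ i, BlowUp.IsEffCartierIdeal (J i) := fun i => isEffCartier_pow (hD i) _
  rw [Finset.prod_congr rfl fun i _ => (idealCl_pow (hD i) (e i)).symm, ← idealCl_prod Finset.univ J hJ] at he
  obtain ⟨s, hs⟩ := exists_global_gen _ ((PicM.of_eq_one_iff _).1 he)
  obtain ⟨r, rfl⟩ := hG.2 s
  rcases eq_or_ne r 0 with rfl | hr
  · refine ⟨0, fun j => ?_⟩
    exfalso
    obtain ⟨x, hx⟩ : ∃ x, x = gen (Γ j).ι.ker := ⟨_, rfl⟩
    obtain ⟨U, hxU, -⟩ := hD j x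
    have h := hs U
    rw [map_zero, map_zero, Ideal.span_singleton_eq_bot.2 rfl] at h
    have h1 := stk_prod_genPt R hreg Γ hΓ e j
    rw [← hx] at h1
    rw [stk_eq _ U hxU, h, Ideal.map_bot] at h1
    subst hx
    obtain ⟨_, _⟩ := SDiv28.StalkCartier.exists_dvr (hD j) _ (isGenericPoint_gen (Γ j).ι.ker)
    exact pow_ne_zero _ (IsDiscreteValuationRing.not_a_field _) h1.symm
  obtain ⟨ϖ, hϖ⟩ := IsDiscreteValuationRing.exists_irreducible R
  obtain ⟨k, u, rfl⟩ := IsDiscreteValuationRing.eq_unit_mul_pow_irreducible hr hϖ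
  refine ⟨k, fun j => pow_injective_genPt R hreg Γ hΓ j ?_⟩
  have hkey : ∀ x : X.left, stk (∏ i, J i) x = Ideal.span {Models.stalkHom R X x ϖ} ^ k := by
    intro x
    obtain ⟨_, ⟨U, hU, rfl⟩, hxU, -⟩ :=
      X.left.isBasis_affineOpens.exists_subset_of_mem_open (Set.mem_univ x) isOpen_univ
    rw [stk_eq _ ⟨U, hU⟩ hxU, hs ⟨U, hU⟩, Ideal.map_span, Set.image_singleton, Ideal.span_singleton_pow]
    have h : ∀ r : R, (X.left.presheaf.germ U x hxU) (PicLib.res le_top (Coh.toGlobal X.hom r)) =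
        Models.stalkHom R X x r := fun r => TopCat.Presheaf.germ_res_apply _ _ _ _ _
    rw [h, map_mul, map_pow, Ideal.span_singleton_mul_left_unit (u.isUnit.map _)]
  show maximalIdeal _ ^ e j = maximalIdeal _ ^ (k * _)
  rw [← stk_prod_genPt R hreg Γ hΓ e j]
  refine (hkey _).trans ?_
  rw [← stk_specialFibreIdeal_span R hϖ, stk_specialFibreIdeal_genPt R Γ hreg hΓ j, stk_gen (hD j),
    ← pow_mul, mul_comm]

end Groth.Agent.Inters29
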