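import Groth.Agent.Inters29.Matrix

/-!
# Component lists from covers
-/

set_option autoImplicit false
set_option linter.style.haveILetI false
set_option backward.isDefEq.respectTransparency false

universe u

open CategoryTheory CategoryTheory.Limits AlgebraicGeometry TopologicalSpace

namespace Groth.Agent.Inters29

variable (R : Type u) [CommRing R] [IsDomain R] [IsDiscreteValuationRing R]
variable {X : Over (Spec (CommRingCat.of R))} [IsIntegral X.left] [IsLocallyNoetherian X.left] [Flat X.hom]

/-- Vertical curves with distinct supports covering the special fibre of a surface are its components. -/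
theorem isComponentList_of_cover (hreg : ∀ x : X.left, IsRegularLocalRing (X.left.presheaf.stalk x))
    (hdim : topologicalKrullDim X.left ≤ 2) {n : ℕ} (Γ : Fin n → ArSurf.VertComp R X)
    (hdist : Function.Injective fun i => Set.range ((Γ i).ι.base : (Γ i).curve.left → X.left))
    (hcov : ∀ x ∈ Models.specialFibreSet R X, ∃ i, x ∈ Set.range (Γ i).ι.base) :
    Models.IsComponentList R X Γ := by
  have key : ∀ S : Set X.left, IsIrreducible S → S ⊆ Models.specialFibreSet R X →
      ∃ j, S ⊆ Set.range (Γ j).ι.base := by
    intro S hS hSf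
    obtain ⟨g, hg⟩ := QuasiSober.sober hS.closure isClosed_closure
    have hgf : g ∈ Models.specialFibreSet R X :=
      (Models.isClosed_specialFibreSet R X).closure_subset_iff.2 hSf hg.mem
    obtain ⟨j, hj⟩ := hcov g hgf
    refine ⟨j, subset_closure.trans ?_⟩
    rw [← hg.def]
    exact (Γ j).ι.isClosedEmbedding.isClosed_range.closure_subset_iff.2 (Set.singleton_subset_iff.2 hj)
  have hirr : ∀ i, IsIrreducible (Set.range (Γ i).ι.base) := fun i => by
    rw [← (genPt_isGenericPoint R (Γ i)).def]
    exact isIrreducible_singleton.closure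
  have hmax : ∀ i, Set.range (Γ i).ι.base ∈ Models.fibreComponents R X := by
    intro i
    refine ⟨⟨hirr i, range_subset_specialFibreSet R (Γ i)⟩, fun S ⟨hS, hSf⟩ hle => ?_⟩
    obtain ⟨j, hj⟩ := key S hS hSf
    have heq : Set.range (Γ i).ι.base = Set.range (Γ j).ι.base := by
      by_contra hne
      refine genericPoint_notMem R (Γ i) (Γ j) hreg hdim hne ?_
      rw [support_ker_eq]
      exact hj (hle ⟨_, rfl⟩)
    exact hj.trans heq.ge
  refine ⟨hdist, Set.Subset.antisymm (by rintro _ ⟨i, rfl⟩; exact hmax i) ?_⟩
  intro Z hZ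
  obtain ⟨j, hj⟩ := key Z hZ.1.1 hZ.1.2
  exact ⟨j, (Set.Subset.antisymm hj (hZ.2 ⟨hirr j, range_subset_specialFibreSet R (Γ j)⟩ hj)).symm⟩

end Groth.Agent.Inters29
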