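import Groth.Agent.Inters29.GenCut

/-!
# Finite local hypersurface cuts over a Henselian discrete valuation ring
-/

set_option autoImplicit false
set_option linter.style.haveILetI false

universe u

open IsLocalRing

namespace Groth.Agent.Inters29

variable {R : Type u} [CommRing R] [IsDomain R] [IsDiscreteValuationRing R] [HenselianLocalRing R]
variable {A : Type u} [CommRing A] [Algebra R A] [Algebra.FiniteType R A]

/-- A local quotient of a finite type algebra which is zero-dimensional modulo the maximal ideal of the
Henselian base is a finite module. -/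
theorem finite_localRing_quotient {ϖ : R} (hϖ : Irreducible ϖ) (m : Ideal A) [m.IsMaximal]
    (hπm : algebraMap R A ϖ ∈ m) {f : A} (hfm : f ∈ m)
    (hdim : ∀ P : Ideal A, P.IsPrime → P ≤ m → algebraMap R A ϖ ∈ P → f ∈ P → P = m) :
    Module.Finite R (Localization.AtPrime m ⧸ (Ideal.span {f}).map (algebraMap A (Localization.AtPrime m))) := by
  haveI : IsNoetherianRing A := Algebra.FiniteType.isNoetherianRing R A
  let I : Ideal A := Ideal.span {f}
  have hIm : I ≤ m := (Ideal.span_singleton_le_iff_mem _).2 hfm
  let Am := Localization.AtPrime m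
  let J : Ideal Am := I.map (algebraMap A Am)
  let C := Am ⧸ J
  have hJm : J ≤ maximalIdeal Am := Ideal.map_le_iff_le_comap.2 fun a ha => Ideal.mem_comap.2
    ((IsLocalization.AtPrime.to_map_mem_maximal_iff Am m a).2 (hIm ha))
  haveI : IsLocalRing C := CAlgH3.isLocalRing_quotient hJm
  haveI hloc : IsLocalHom (algebraMap Am C) := IsLocalHom.of_surjective (algebraMap Am C) Ideal.Quotient.mk_surjective
  have hmC : ∀ a, a ∈ m → algebraMap A C a ∈ maximalIdeal C := fun a ha => by
    refine (mem_maximalIdeal _).2 fun hu => ?_
    rw [IsScalarTower.algebraMap_apply A Am C] at hu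
    exact (mem_maximalIdeal _).1 ((IsLocalization.AtPrime.to_map_mem_maximal_iff Am m a).2 ha)
      (isUnit_of_map_unit (algebraMap Am C) _ hu)
  haveI : IsLocalHom (algebraMap R C) := ⟨fun r hr => by
    by_contra hu
    have hr' : r ∈ maximalIdeal R := hu
    rw [hϖ.maximalIdeal_eq, Ideal.mem_span_singleton] at hr'
    obtain ⟨c, rfl⟩ := hr'
    rw [map_mul, IsScalarTower.algebraMap_apply R A C ϖ] at hr
    exact (mem_maximalIdeal _).1 (hmC _ hπm) (isUnit_of_mul_isUnit_left hr)⟩
  let q := m.map (Ideal.Quotient.mk I)
  have hcq : q.comap (Ideal.Quotient.mk I) = m := by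
    rw [Ideal.comap_map_of_surjective _ Ideal.Quotient.mk_surjective, ← RingHom.ker_eq_comap_bot, Ideal.mk_ker,
      sup_eq_left.2 hIm]
  haveI hq : q.IsPrime := Ideal.map_isPrime_of_surjective Ideal.Quotient.mk_surjective (by rw [Ideal.mk_ker]; exact hIm)
  let S := A ⧸ I
  have hsub : Algebra.algebraMapSubmonoid S m.primeCompl = q.primeCompl := by
    ext d
    refine ⟨?_, fun hd => ?_⟩
    · rintro ⟨a, ha, rfl⟩ h
      exact ha (hcq.le (Ideal.mem_comap.2 h))
    · obtain ⟨a, rfl⟩ := Ideal.Quotient.mk_surjective d
      exact ⟨a, fun h => hd (Ideal.mem_map_of_mem _ h), rfl⟩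
  haveI : IsLocalization q.primeCompl C := hsub ▸ inferInstance
  haveI : IsScalarTower R S C := IsScalarTower.of_algebraMap_eq fun r => rfl
  let eC : Localization.AtPrime q ≃ₐ[R] C :=
    (IsLocalization.algEquiv q.primeCompl (Localization.AtPrime q) C).restrictScalars R
  haveI : q.LiesOver (maximalIdeal R) := ⟨by
    refine ((maximalIdeal.isMaximal R).eq_of_le (Ideal.comap_ne_top _ hq.ne_top) ?_)
    rw [hϖ.maximalIdeal_eq, Ideal.span_singleton_le_iff_mem]
    exact hcq.ge hπm⟩
  haveI : Algebra.WeaklyQuasiFiniteAt R q := by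
    rw [Algebra.weaklyQuasiFiniteAt_iff, ← Ideal.over_def q (maximalIdeal R)]
    suffices Module.Finite R (Localization.AtPrime q ⧸ (maximalIdeal R).map (algebraMap R (Localization.AtPrime q))) from
      inferInstance
    let Kc : Ideal C := (maximalIdeal R).map (algebraMap R C)
    have hπK : algebraMap R C ϖ ∈ Kc := Ideal.mem_map_of_mem _ (by
      rw [hϖ.maximalIdeal_eq]; exact Ideal.mem_span_singleton_self _)
    have hKm : maximalIdeal C ∈ Kc.minimalPrimes := by
      refine ⟨⟨inferInstance, Ideal.map_le_iff_le_comap.2 fun r hr => ?_⟩, fun P ⟨hP, hKP⟩ _ => ?_⟩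
      · exact Ideal.mem_comap.2 ((mem_maximalIdeal _).2 fun hu =>
          (mem_maximalIdeal _).1 hr (isUnit_of_map_unit (algebraMap R C) _ hu))
      let P' := P.comap (algebraMap A C)
      haveI : P'.IsPrime := hP.comap _
      have hle : P' ≤ m := fun a ha => by
        by_contra ham
        have hu : IsUnit (algebraMap A C a) := by
          rw [IsScalarTower.algebraMap_apply A Am C]
          exact (IsLocalization.map_units Am (⟨a, ham⟩ : m.primeCompl)).map _
        exact hP.ne_top (Ideal.eq_top_of_isUnit_mem _ ha hu)
      have hP' : P' = m := hdim P' inferInstance hle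
        (by show algebraMap A C (algebraMap R A ϖ) ∈ P; rw [← IsScalarTower.algebraMap_apply]; exact hKP hπK)
        (by
          show algebraMap A C f ∈ P
          have h0 : algebraMap A C f = 0 := by
            rw [IsScalarTower.algebraMap_apply A Am C, Ideal.Quotient.algebraMap_eq]
            exact Ideal.Quotient.eq_zero_iff_mem.2 (Ideal.mem_map_of_mem _ (Ideal.mem_span_singleton_self f))
          rw [h0]; exact zero_mem _)
      intro c hc
      obtain ⟨c, rfl⟩ := Ideal.Quotient.mk_surjective c
      obtain ⟨⟨a, s⟩, has⟩ := IsLocalization.surj (M := m.primeCompl) c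
      have hs : IsUnit (algebraMap Am C (algebraMap A Am s)) := (IsLocalization.map_units Am s).map _
      have ha : algebraMap A C a = algebraMap Am C c * algebraMap Am C (algebraMap A Am s) := by
        rw [IsScalarTower.algebraMap_apply A Am C, ← has, map_mul]
      have ham : a ∈ m := by
        by_contra ham
        have hu : IsUnit (algebraMap A C a) := by
          rw [IsScalarTower.algebraMap_apply A Am C]
          exact (IsLocalization.map_units Am (⟨a, ham⟩ : m.primeCompl)).map _
        rw [ha] at hu
        exact (mem_maximalIdeal _).1 hc (isUnit_of_mul_isUnit_left hu)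
      have hmem : algebraMap A C a ∈ P := (hP'.ge ham : a ∈ P')
      rw [ha] at hmem
      exact (hP.mem_or_mem hmem).resolve_right fun h => hP.ne_top (Ideal.eq_top_of_isUnit_mem _ h hs)
    haveI := IsLocalRing.quotient_artinian_of_mem_minimalPrimes_of_isLocalRing Kc hKm
    have hlen : Module.length C (C ⧸ Kc) ≠ ⊤ := by
      rw [Module.length_eq_of_surjective (M := C ⧸ Kc) (S := C) (R := C ⧸ Kc) Ideal.Quotient.mk_surjective]
      exact Module.length_ne_top
    have hfinQ : Module.Finite R (C ⧸ Kc) := by
      have hmR : maximalIdeal R ≤ m.comap (algebraMap R A) := by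
        rw [hϖ.maximalIdeal_eq, Ideal.span_singleton_le_iff_mem]
        exact hπm
      have h2 : Module.Finite (ResidueField R) (ResidueField C) :=
        finite_residue_of_surjective m hmR (IsScalarTower.toAlgHom R A C) hmC fun c => by
          obtain ⟨c, rfl⟩ := Ideal.Quotient.mk_surjective c
          obtain ⟨⟨a, s⟩, has⟩ := IsLocalization.surj (M := m.primeCompl) c
          refine ⟨a, s, (IsLocalization.map_units Am s).map (Ideal.Quotient.mk J), ?_⟩
          show Ideal.Quotient.mk J c * Ideal.Quotient.mk J (algebraMap A Am s) = Ideal.Quotient.mk J (algebraMap A Am a)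
          rw [← map_mul, has]
      have h3 := IsLocalRing.length_restrictScalars R C (C ⧸ Kc)
      have h4 : Module.length R (C ⧸ Kc) ≠ ⊤ := by
        rw [h3, Module.length_eq_finrank]
        exact WithTop.mul_ne_top hlen (ENat.natCast_ne_top _)
      haveI := (isFiniteLength_iff_isNoetherian_isArtinian.1 (Module.length_ne_top_iff.1 h4)).1
      infer_instance
    have hI : Kc = ((maximalIdeal R).map (algebraMap R (Localization.AtPrime q))).map
        (eC : Localization.AtPrime q →+* C) := by
      rw [Ideal.map_map]
      show (maximalIdeal R).map _ = _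
      congr 1; ext r; exact (eC.commutes r).symm
    exact Module.Finite.equiv (Ideal.quotientEquivAlg _ _ eC hI).symm.toLinearEquiv
  haveI : Algebra.QuasiFiniteAt R q := Algebra.QuasiFiniteAt.of_weaklyQuasiFiniteAt q
  haveI := (S5035.result R).1 inferInstance S q inferInstance inferInstance
  exact Module.Finite.equiv eC.toLinearEquiv

open AlgebraicGeometry CategoryTheory in
set_option backward.isDefEq.respectTransparency false in
/-- The map to the local ring of a point given by a ring map out of a chart. -/
theorem germ_stalkClosedPointTo_chart {X : Scheme.{u}} {U : X.Opens} (hU : IsAffineOpen U) {C : CommRingCat.{u}}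
    [IsLocalRing C] (α : Γ(X, U) ⟶ C) (h : (Spec.map α ≫ hU.fromSpec) (closedPoint C) ∈ U) :
    X.presheaf.germ U _ h ≫ Scheme.stalkClosedPointTo (Spec.map α ≫ hU.fromSpec) = α := by
  refine (Scheme.germ_stalkClosedPointTo _ U h).trans ?_
  rw [Scheme.Hom.comp_app, IsAffineOpen.fromSpec_app_self]
  simp only [Category.assoc, Iso.trans_hom, Functor.mapIso_hom, Iso.op_hom, eqToIso.hom]
  rw [Iso.inv_comp_eq, Scheme.Hom.app_eq_appLE]
  simp only [Scheme.Hom.map_appLE_assoc, Scheme.Hom.appLE_map_assoc]
  exact Scheme.ΓSpecIso_naturality α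

end Groth.Agent.Inters29
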