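import Groth.Agent.S3314
import Groth.Agent.S3315
import Groth.Agent.Inters29.Family
import Groth.Agent.PicLib.PicGroup

/-!
# The Picard classes of a regular proper model

Formal consequences of the description of `ker (Pic X → Pic C)` by components of the special fibre.
-/

set_option autoImplicit false
set_option linter.style.haveILetI false
set_option backward.isDefEq.respectTransparency.types false

universe u

open CategoryTheory CategoryTheory.Limits AlgebraicGeometry TopologicalSpace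
open Groth.Agent.PicLib

namespace Groth.Agent.Inters29

variable {R : Type u} [CommRing R] [IsDomain R] [IsDiscreteValuationRing R]
variable {C X : Scheme.{u}} {f : C ⟶ Spec (CommRingCat.of (FractionRing R))} {p : X ⟶ Spec (CommRingCat.of R)}
variable (hC : Curve.IsSmoothProperCurve (FractionRing R) C f) (hH0 : IsIso f.appTop)
variable (hX : Models.IsRegularProperModel R X p C f)
variable {n : ℕ} {Γ : Fin n → ArSurf.VertComp R (Over.mk p)} (hΓ : Models.IsComponentList R (Over.mk p) Γ)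
include hC hX hΓ

theorem isEffCartier_model (i : Fin n) : BlowUp.IsEffCartierIdeal (X := X) (Γ i).ι.ker := by
  obtain ⟨-, -, hint, -⟩ := hC
  obtain ⟨hm, hp, hreg⟩ := hX
  haveI := hint
  haveI := isIntegral_model R hm hreg
  haveI : LocallyOfFiniteType p := hm.2.1
  haveI : IsLocallyNoetherian X := LocallyOfFiniteType.isLocallyNoetherian p
  haveI : IsIntegral (Over.mk p).left := inferInstanceAs (IsIntegral X)
  haveI : IsLocallyNoetherian (Over.mk p).left := inferInstanceAs (IsLocallyNoetherian X)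
  haveI : Flat (Over.mk p).hom := hm.1
  exact isEffCartier_listComp R Γ (X := Over.mk p) hreg hΓ i

theorem mult_pos_model (i : Fin n) : 0 < Models.mult R (Over.mk p) (Γ i) := by
  obtain ⟨-, -, hint, -⟩ := hC
  obtain ⟨hm, hp, hreg⟩ := hX
  haveI := hint
  haveI := isIntegral_model R hm hreg
  haveI : LocallyOfFiniteType p := hm.2.1
  haveI : IsLocallyNoetherian X := LocallyOfFiniteType.isLocallyNoetherian p
  haveI : IsIntegral (Over.mk p).left := inferInstanceAs (IsIntegral X)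
  haveI : IsLocallyNoetherian (Over.mk p).left := inferInstanceAs (IsLocallyNoetherian X)
  haveI : Flat (Over.mk p).hom := hm.1
  exact mult_pos' R (X := Over.mk p) Γ hΓ hreg i

theorem prod_idealCl_model :
    ∏ i, idealCl (X := X) (Γ i).ι.ker (isEffCartier_model hC hX hΓ i) ^ Models.mult R (Over.mk p) (Γ i) = 1 := by
  obtain ⟨-, -, hint, -⟩ := hC
  obtain ⟨hm, hp, hreg⟩ := hX
  haveI := hint
  haveI := isIntegral_model R hm hreg
  haveI : LocallyOfFiniteType p := hm.2.1
  haveI : IsLocallyNoetherian X := LocallyOfFiniteType.isLocallyNoetherian p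
  haveI : IsIntegral (Over.mk p).left := inferInstanceAs (IsIntegral X)
  haveI : IsLocallyNoetherian (Over.mk p).left := inferInstanceAs (IsLocallyNoetherian X)
  haveI : Flat (Over.mk p).hom := hm.1
  exact prod_idealCl_eq_one R (X := Over.mk p) hreg Γ hΓ

theorem pull_idealCl_model (g : C ⟶ X)
    (hg : IsPullback g f p (Spec.map (CommRingCat.ofHom (algebraMap R (FractionRing R))))) (i : Fin n) :
    PicM.pull g (idealCl (X := X) (Γ i).ι.ker (isEffCartier_model hC hX hΓ i)) = 1 := by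
  have hbot : ((Γ i).ι.ker.comap g) = (1 : C.IdealSheafData) := by
    refine Misc15.DivDescent.ext_stk fun c => ?_
    have h1 : c ∉ ((Γ i).ι.ker.comap g).support := by
      intro hc
      rw [Scheme.IdealSheafData.support_comap] at hc
      have hcs : p (g c) = IsLocalRing.closedPoint R :=
        range_subset_specialFibreSet R (X := Over.mk p) (Γ i)
          ((support_ker_eq R (X := Over.mk p) (Γ i)).le hc)
      rw [← Scheme.Hom.comp_apply, hg.w, Scheme.Hom.comp_apply,
        Subsingleton.elim (f c) (⟨⊥, Ideal.isPrime_bot⟩ : PrimeSpectrum (FractionRing R))] at hcs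
      exact bot_ne_closedPoint R
        ((PrimeSpectrum.ext (Ideal.comap_bot_of_injective _ (IsFractionRing.injective R (FractionRing R))).symm).trans hcs)
    rw [SDiv28.CartierPart.stk_eq_top h1, SDiv28.CartierPart.stk_eq_top]
    rw [Scheme.IdealSheafData.one_eq_top, Scheme.IdealSheafData.support_top]
    exact fun h => h
  have h1 : BlowUp.IsEffCartierIdeal ((Γ i).ι.ker.comap g) := hbot ▸ isEffCartier_one
  obtain ⟨e⟩ := nonempty_pullback_idealMod_iso g _ (isEffCartier_model hC hX hΓ i) h1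
  have h2 : PicM.pull g (idealCl (X := X) (Γ i).ι.ker (isEffCartier_model hC hX hΓ i)) = idealCl _ h1 := by
    refine (PicM.pull_of g _).trans ?_
    exact (PicM.of_eq_iff _ _).2 ⟨e⟩
  rw [h2, idealCl_congr hbot h1 isEffCartier_one, idealCl_one]

variable {L : Fin n → X.Modules} (hL : ∀ i, ClSub.IsInverseOf (L i) (ClSub.idealMod (Γ i).ι.ker))
include hL

theorem isInvertible_model (i : Fin n) : PicF.IsInvertible (L i) :=
  isInvertible_of_inverse R (X := Over.mk p) (isEffCartier_model hC hX hΓ i) (hL i)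

/-- The class of `L i`. -/
noncomputable def lcl (i : Fin n) : PicM X := PicM.of (isInvertible_model hC hX hΓ hL i)

theorem lcl_mul_idealCl (i : Fin n) :
    lcl hC hX hΓ hL i * idealCl (X := X) (Γ i).ι.ker (isEffCartier_model hC hX hΓ i) = 1 := by
  simp only [lcl, idealCl, PicM.of_mul, PicM.of_eq_one_iff]
  exact hL i

theorem pull_lcl (g : C ⟶ X)
    (hg : IsPullback g f p (Spec.map (CommRingCat.ofHom (algebraMap R (FractionRing R))))) (i : Fin n) :
    PicM.pull g (lcl hC hX hΓ hL i) = 1 := by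
  have h := congrArg (PicM.pull g) (lcl_mul_idealCl hC hX hΓ hL i)
  rwa [map_mul, pull_idealCl_model hC hX hΓ g hg i, mul_one, map_one] at h

theorem multiTwist_class (a : Fin n → ℕ) :
    ∃ h : PicF.IsInvertible (FGA.multiTwist L a), PicM.of h = ∏ i, lcl hC hX hΓ hL i ^ a i :=
  exists_multiTwist_class L (isInvertible_model hC hX hΓ hL) a

include hH0

/-- Equality of vertical classes. -/
theorem prod_lcl_eq_iff (a b : Fin n → ℕ) :
    ∏ i, lcl hC hX hΓ hL i ^ a i = ∏ i, lcl hC hX hΓ hL i ^ b i ↔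
      ∃ c : ℤ, ∀ i, (a i : ℤ) - (b i : ℤ) = c * (Models.mult R (Over.mk p) (Γ i) : ℤ) := by
  obtain ⟨hA, hA'⟩ := multiTwist_class hC hX hΓ hL a
  obtain ⟨hB, hB'⟩ := multiTwist_class hC hX hΓ hL b
  rw [← hA', ← hB', PicM.of_eq_iff]
  exact S3314.result R C X f p hC hH0 hX Γ hΓ L hL a b

/-- Generically trivial classes are vertical. -/
theorem exists_eq_of_pull_eq_one (g : C ⟶ X)
    (hg : IsPullback g f p (Spec.map (CommRingCat.ofHom (algebraMap R (FractionRing R)))))
    (μ : PicM X) (hμ : PicM.pull g μ = 1) :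
    ∃ a b : Fin n → ℕ, μ * ∏ i, lcl hC hX hΓ hL i ^ a i = ∏ i, lcl hC hX hΓ hL i ^ b i := by
  obtain ⟨M, hM, rfl⟩ := PicM.exists_eq_of μ
  rw [PicM.pull_of] at hμ
  obtain ⟨a, b, ⟨e⟩⟩ := S3315.result R C X f p hC hH0 hX Γ hΓ g hg L hL M hM ((PicM.of_eq_one_iff _).1 hμ)
  obtain ⟨hA, hA'⟩ := multiTwist_class hC hX hΓ hL a
  obtain ⟨hB, hB'⟩ := multiTwist_class hC hX hΓ hL b
  refine ⟨a, b, ?_⟩
  rw [← hA', ← hB', PicM.of_mul, PicM.of_eq_iff]
  exact ⟨e⟩

omit hH0 in
/-- `L i` as a unit. -/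
noncomputable def lunit (i : Fin n) : (PicM X)ˣ :=
  Units.mkOfMulEqOne _ _ (lcl_mul_idealCl hC hX hΓ hL i)

omit hH0 in
/-- The class `∑ vᵢ Γᵢ`. -/
noncomputable def zcl (v : Fin n → ℤ) : (PicM X)ˣ := ∏ i, lunit hC hX hΓ hL i ^ v i

omit hH0 in
theorem zcl_add (v w : Fin n → ℤ) : zcl hC hX hΓ hL (v + w) = zcl hC hX hΓ hL v * zcl hC hX hΓ hL w := by
  simp only [zcl, Pi.add_apply, zpow_add, Finset.prod_mul_distrib]

omit hH0 in
theorem zcl_zsmul (c : ℤ) (v : Fin n → ℤ) : zcl hC hX hΓ hL (c • v) = zcl hC hX hΓ hL v ^ c := by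
  simp only [zcl, Pi.smul_apply, smul_eq_mul, ← Finset.prod_zpow, ← zpow_mul, mul_comm]

omit hH0 in
theorem zcl_natCast (a : Fin n → ℕ) :
    ((zcl hC hX hΓ hL fun i => (a i : ℤ)) : PicM X) = ∏ i, lcl hC hX hΓ hL i ^ a i := by
  simp only [zcl, zpow_natCast, Units.coe_prod, Units.val_pow_eq_pow_val]
  rfl

omit hH0 in
theorem zcl_sub_natCast (a b : Fin n → ℕ) (v : Fin n → ℤ) (h : ∀ i, v i = (a i : ℤ) - b i) :
    (zcl hC hX hΓ hL v : PicM X) * ∏ i, lcl hC hX hΓ hL i ^ b i = ∏ i, lcl hC hX hΓ hL i ^ a i := by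
  rw [← zcl_natCast, ← zcl_natCast, ← Units.val_mul, ← zcl_add]
  congr 2
  funext i
  simp [h i]

theorem zcl_eq_one_iff (v : Fin n → ℤ) :
    zcl hC hX hΓ hL v = 1 ↔ ∃ c : ℤ, ∀ i, v i = c * (Models.mult R (Over.mk p) (Γ i) : ℤ) := by
  have hv : ∀ i, v i = ((v i).toNat : ℤ) - (-v i).toNat := fun i => (Int.toNat_sub_toNat_neg (v i)).symm
  have h := zcl_sub_natCast hC hX hΓ hL _ _ v hv
  rw [← Units.val_eq_one]
  refine ⟨fun h1 => ?_, fun ⟨c, hc⟩ => ?_⟩
  · rw [h1, one_mul] at h
    obtain ⟨c, hc⟩ := (prod_lcl_eq_iff hC hH0 hX hΓ hL _ _).1 h.symm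
    exact ⟨c, fun i => by rw [hv i]; exact hc i⟩
  · have h1 := (prod_lcl_eq_iff hC hH0 hX hΓ hL (fun i => (v i).toNat) (fun i => (-v i).toNat)).2
      ⟨c, fun i => by rw [← hv i]; exact hc i⟩
    rw [h1] at h
    exact mul_eq_right.1 h

theorem exists_eq_zcl_of_pull_eq_one (g : C ⟶ X)
    (hg : IsPullback g f p (Spec.map (CommRingCat.ofHom (algebraMap R (FractionRing R)))))
    (μ : PicM X) (hμ : PicM.pull g μ = 1) :
    ∃ v : Fin n → ℤ, μ = (zcl hC hX hΓ hL v : PicM X) := by
  obtain ⟨a, b, h⟩ := exists_eq_of_pull_eq_one hC hH0 hX hΓ hL g hg μ hμ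
  refine ⟨fun i => (b i : ℤ) - a i, mul_right_cancel (h.trans ?_)⟩
  exact (zcl_sub_natCast hC hX hΓ hL b a _ fun i => rfl).symm

omit hH0 in
theorem pull_zcl (g : C ⟶ X)
    (hg : IsPullback g f p (Spec.map (CommRingCat.ofHom (algebraMap R (FractionRing R))))) (v : Fin n → ℤ) :
    PicM.pull g (zcl hC hX hΓ hL v : PicM X) = 1 := by
  have h1 : ∀ i, Units.map (PicM.pull g) (lunit hC hX hΓ hL i) = 1 := fun i =>
    Units.ext (pull_lcl hC hX hΓ hL g hg i)
  have h2 : Units.map (PicM.pull g) (zcl hC hX hΓ hL v) = 1 := by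
    simp only [zcl, map_prod, map_zpow, h1, one_zpow, Finset.prod_const_one]
  exact congrArg Units.val h2

end Groth.Agent.Inters29
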