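import Groth.Agent.Inters29.GenTriv
import Groth.Agent.Inters29.Family
import Groth.Agent.CurveRR24.Section

/-!
# Vanishing orders of functions on a vertical divisor

A nonzero nilpotent function on a vertical divisor `∑ zᵢ Γᵢ` of a regular surface vanishes to an order
`e` that pairs nonpositively with every component where it is smaller than `z`.
-/

set_option autoImplicit false
set_option linter.style.haveILetI false
set_option backward.isDefEq.respectTransparency false

universe u

open CategoryTheory CategoryTheory.Limits AlgebraicGeometry TopologicalSpace IsLocalRing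
open Groth.Agent.Coherent Groth.Agent.PicLib Groth.Agent.AmpleLib
open Groth.Agent.Misc15.DivDescent Groth.Agent.SDiv28.CartierPart

namespace Groth.Agent.Inters29

/-- In a discrete valuation ring an ideal containing a power of the maximal ideal is a smaller power. -/
theorem exists_pow_maximalIdeal {A : Type*} [CommRing A] [IsDomain A] [IsDiscreteValuationRing A]
    {I : Ideal A} {m : ℕ} (h : maximalIdeal A ^ m ≤ I) : ∃ k ≤ m, I = maximalIdeal A ^ k := by
  obtain ⟨q, hq⟩ := IsDiscreteValuationRing.exists_irreducible A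
  have hne : I ≠ ⊥ := fun h0 => pow_ne_zero m (IsDiscreteValuationRing.not_a_field A)
    (le_bot_iff.1 (h0 ▸ h))
  obtain ⟨k, hk⟩ := IsDiscreteValuationRing.ideal_eq_span_pow_irreducible hne hq
  rw [← Ideal.span_singleton_pow, ← hq.maximalIdeal_eq] at hk
  refine ⟨k, ?_, hk⟩
  by_contra hlt
  exact absurd (h.trans hk.le) (not_le_of_gt (Ideal.pow_right_strictAnti (maximalIdeal A)
    (IsDiscreteValuationRing.not_a_field A) (Ideal.IsPrime.ne_top inferInstance) (not_le.1 hlt)))

variable (R : Type u) [CommRing R] [IsDomain R] [IsDiscreteValuationRing R]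
variable {X : Over (Spec (CommRingCat.of R))} [IsIntegral X.left] [IsLocallyNoetherian X.left] [Flat X.hom]
  [IsProper X.hom]
variable (hreg : ∀ x : X.left, IsRegularLocalRing (X.left.presheaf.stalk x))
variable {n : ℕ} (Γ : Fin n → ArSurf.VertComp R X)

omit [Flat X.hom] [IsProper X.hom] [IsIntegral X.left] [IsLocallyNoetherian X.left] in
/-- Two lifts of a section of a closed subscheme differ by its ideal. -/
theorem germ_sub_mem_stk {Z : Scheme.{u}} (j : Z ⟶ X.left) [IsClosedImmersion j] (s : Γ(Z, ⊤))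
    {V V' : X.left.Opens} {a : Γ(X.left, V)} {a' : Γ(X.left, V')}
    (ha : j.app V a = Z.presheaf.map (homOfLE le_top).op s) (ha' : j.app V' a' = Z.presheaf.map (homOfLE le_top).op s)
    {x : X.left} (hx : x ∈ V) (hx' : x ∈ V') :
    X.left.presheaf.germ V x hx a - X.left.presheaf.germ V' x hx' a' ∈ stk j.ker x := by
  obtain ⟨W, hW, hxW, hWle⟩ := exists_isAffineOpen_mem_and_subset (x := x) (U := V ⊓ V') ⟨hx, hx'⟩
  have h1 : W ≤ V := fun z hz => (hWle hz).1
  have h2 : W ≤ V' := fun z hz => (hWle hz).2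
  let b : Γ(X.left, W) := X.left.presheaf.map (homOfLE h1).op a - X.left.presheaf.map (homOfLE h2).op a'
  have hb : b ∈ j.ker.ideal ⟨W, hW⟩ := by
    rw [Scheme.Hom.ker_apply, RingHom.mem_ker, map_sub, sub_eq_zero]
    refine (congr($(j.naturality (homOfLE h1).op) a)).trans ?_
    refine Eq.trans ?_ (congr($(j.naturality (homOfLE h2).op) a')).symm
    show Z.presheaf.map _ (j.app V a) = Z.presheaf.map _ (j.app V' a')
    rw [ha, ha', ← CommRingCat.comp_apply, ← CommRingCat.comp_apply, ← Functor.map_comp, ← Functor.map_comp]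
    rfl
  have hg := (mem_ideal_iff j.ker ⟨W, hW⟩).1 hb x hxW
  simp only [b, map_sub, TopCat.Presheaf.germ_res_apply] at hg
  exact hg

omit [Flat X.hom] [IsProper X.hom] [IsIntegral X.left] [IsLocallyNoetherian X.left] in
/-- The values at a point of lifts of a section of a closed subscheme. -/
theorem exists_lift {Z : Scheme.{u}} (j : Z ⟶ X.left) [IsClosedImmersion j] (s : Γ(Z, ⊤))
    {V : X.left.Opens} (hV : IsAffineOpen V) :
    ∃ a : Γ(X.left, V), j.app V a = Z.presheaf.map (homOfLE le_top).op s :=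
  j.app_surjective V hV _

variable (hD : ∀ i, BlowUp.IsEffCartierIdeal (Γ i).ι.ker)
variable (hinj : Function.Injective fun i => gen (Γ i).ι.ker)
include hreg hD hinj

/-- The stalk at a generic point of a product of powers of vertical curves. -/
theorem stk_prod_gen_of_injective (f : Fin n → ℕ) (i : Fin n) :
    stk (∏ l, (Γ l).ι.ker ^ f l) (gen (Γ i).ι.ker) = maximalIdeal _ ^ f i := by
  classical
  rw [stk_prod, Finset.prod_eq_single i (fun l _ hli => ?_) (by simp), stk_pow, stk_gen (hD i)]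
  rw [stk_pow, stk_eq_top (fun hm => hli ?_), Ideal.top_pow, Ideal.one_eq_top]
  exact hinj (eq_gen_of_coheight_le (hD l) hm (coheight_gen (hD i)).le).symm

/-- The vanishing orders of a nonzero nilpotent function. -/
theorem exists_orders (L : Fin n → X.left.Modules) (hL : ∀ i, ClSub.IsInverseOf (L i) (ClSub.idealMod (Γ i).ι.ker))
    (m : Fin n → ℕ) (hm1 : ∀ i, 1 ≤ m i)
    {Z : Scheme.{u}} (j : Z ⟶ X.left) [IsClosedImmersion j] (hj : j.ker = ∏ i, (Γ i).ι.ker ^ m i)
    (s : Γ(Z, ⊤)) (hs : IsNilpotent s) (hs0 : s ≠ 0) :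
    ∃ e : Fin n → ℕ, (∀ i, 1 ≤ e i ∧ e i ≤ m i) ∧ e ≠ m ∧
      ∀ l, e l < m l → ∑ i, (e i : ℤ) * ArSurf.inter R X (L i) (Γ l) ≤ 0 := by
  classical
  haveI : ∀ i, IsProper (Γ i).curve.hom := fun i => isProper_curve R (Γ i)
  let D := fun i => (Γ i).ι.ker
  let S := ∏ i, D i ^ m i
  have hS : S = ∏ i, D i ^ m i := rfl
  replace hj : j.ker = S := hj
  -- orders at the generic points
  have hord : ∀ i, ∃ e : ℕ, e ≤ m i ∧ ∀ (V : X.left.Opens) (a : Γ(X.left, V)),
      j.app V a = Z.presheaf.map (homOfLE le_top).op s → ∀ h : gen (D i) ∈ V,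
        X.left.presheaf.germ V _ h a ∈ maximalIdeal _ ^ e ∧
          (e < m i → X.left.presheaf.germ V _ h a ∉ maximalIdeal _ ^ (e + 1)) := by
    intro i
    obtain ⟨W, hW, hxW, -⟩ := exists_isAffineOpen_mem_and_subset (x := gen (D i)) (U := ⊤) trivial
    obtain ⟨a₀, ha₀⟩ := exists_lift R j s hW
    let g₀ := X.left.presheaf.germ W _ hxW a₀
    obtain ⟨_, _⟩ := SDiv28.StalkCartier.exists_dvr (hD i) _ (isGenericPoint_gen (D i))
    have hSg : stk S (gen (D i)) = maximalIdeal _ ^ m i := hS ▸ stk_prod_gen_of_injective R hreg Γ hD hinj m i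
    obtain ⟨e, he, heq⟩ := exists_pow_maximalIdeal
      (show maximalIdeal _ ^ m i ≤ Ideal.span {g₀} ⊔ stk S (gen (D i)) from hSg ▸ le_sup_right)
    refine ⟨e, he, fun V a ha h => ?_⟩
    have hdiff := germ_sub_mem_stk R j s ha ha₀ h hxW
    rw [hj, hSg] at hdiff
    have hg₀ : g₀ ∈ maximalIdeal _ ^ e := heq.le (Ideal.mem_sup_left (Ideal.mem_span_singleton_self _))
    refine ⟨?_, fun hlt hmem => ?_⟩
    · have := Ideal.add_mem _ (Ideal.pow_le_pow_right he hdiff) hg₀
      rwa [sub_add_cancel] at this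
    · have h0 : g₀ ∈ maximalIdeal _ ^ (e + 1) := by
        simpa using Ideal.sub_mem _ hmem (Ideal.pow_le_pow_right (Nat.succ_le_of_lt hlt) hdiff)
      have hle : maximalIdeal _ ^ e ≤ maximalIdeal (X.left.presheaf.stalk (gen (D i))) ^ (e + 1) :=
        heq.ge.trans (sup_le ((Ideal.span_singleton_le_iff_mem _).2 h0)
          (hSg ▸ Ideal.pow_le_pow_right (Nat.succ_le_of_lt hlt)))
      exact absurd hle (not_le_of_gt (Ideal.pow_right_strictAnti (maximalIdeal _)
        (IsDiscreteValuationRing.not_a_field _) (Ideal.IsPrime.ne_top inferInstance) (Nat.lt_succ_self e)))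
  choose e he hlift using hord
  let J := ∏ i, D i ^ e i
  have hJ : BlowUp.IsEffCartierIdeal J := isEffCartier_prod _ _ fun i => isEffCartier_pow (hD i) (e i)
  -- lifts lie in `J`
  have hmemJ : ∀ (V : X.left.Opens) (hV : IsAffineOpen V) (a : Γ(X.left, V)),
      j.app V a = Z.presheaf.map (homOfLE le_top).op s → a ∈ J.ideal ⟨V, hV⟩ := by
    intro V hV a ha
    refine (mem_ideal_iff J ⟨V, hV⟩).2 fun x hx => ?_
    refine mem_stk_prod D hD e Finset.univ (fun i _ l _ h => hinj h) x _ fun i _ h => ?_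
    rw [stk_gen (hD i), TopCat.Presheaf.germ_stalkSpecializes_apply]
    exact (hlift i V a ha (h.mem_open V.2 hx)).1
  -- `e ≥ 1` as `s` is nilpotent
  have hepos : ∀ i, 1 ≤ e i := by
    intro i
    by_contra h0
    obtain ⟨W, hW, hxW, -⟩ := exists_isAffineOpen_mem_and_subset (x := gen (D i)) (U := ⊤) trivial
    obtain ⟨a, ha⟩ := exists_lift R j s hW
    obtain ⟨N, hN⟩ := hs
    have hm : 0 < m i := hm1 i
    have h1 := (hlift i W a ha hxW).2 (by omega)
    rw [show e i + 1 = 1 by omega, pow_one] at h1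
    have hz : a ^ N ∈ S.ideal ⟨W, hW⟩ := by
      rw [show S = j.ker from hj.symm, Scheme.Hom.ker_apply, RingHom.mem_ker, map_pow, ha, ← map_pow, hN, map_zero]
    have h2 := (mem_ideal_iff S ⟨W, hW⟩).1 hz _ hxW
    rw [hS, stk_prod_gen_of_injective R hreg Γ hD hinj m i, map_pow] at h2
    exact h1 ((maximalIdeal.isMaximal _).isPrime.mem_of_pow_mem N (Ideal.pow_le_self hm.ne' h2))
  refine ⟨e, fun i => ⟨hepos i, he i⟩, fun hall' => hs0 ?_, fun l hl => ?_⟩
  · have hall : ∀ i, e i = m i := fun i => congrFun hall' i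
    refine TopCat.Sheaf.eq_of_locally_eq' Z.sheaf (fun V : X.left.affineOpens => j ⁻¹ᵁ V.1) ⊤
      (fun V => homOfLE le_top) (fun z _ => ?_) s 0 fun V => ?_
    · obtain ⟨V, hV, hzV, -⟩ := exists_isAffineOpen_mem_and_subset (x := j z) (U := ⊤) trivial
      exact Opens.mem_iSup.2 ⟨⟨V, hV⟩, hzV⟩
    · obtain ⟨a, ha⟩ := exists_lift R j s V.2
      have h := hmemJ V.1 V.2 a ha
      rw [show J = j.ker from (Finset.prod_congr rfl fun i _ => by rw [hall i]).trans (hS.symm.trans hj.symm),
        Scheme.Hom.ker_apply, RingHom.mem_ker, ha] at h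
      exact h.trans (map_zero _).symm
  -- degrees of `J` on the components where `s` does not vanish completely
  have hdeg : ∀ l, e l < m l → 0 ≤ ArSurf.inter R X (ClSub.idealMod J) (Γ l) := by
    intro l hl
    let ι := (Γ l).ι
    let T := ClSub.idealMod J
    have hT : PicF.IsInvertible T := FlatMor12.IdealModGen.isInvertible_idealMod J hJ
    let P := (Scheme.Modules.pullback ι).obj T
    haveI := AmpleLib.mono_idealModι J
    have hSle : ∀ x, stk S x ≤ stk J x * stk (D l) x := by
      intro x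
      rw [hS, stk_prod, stk_prod, ← Finset.mul_prod_erase _ _ (Finset.mem_univ l),
        ← Finset.mul_prod_erase _ (fun i => stk (D i ^ e i) x) (Finset.mem_univ l)]
      rw [mul_right_comm, stk_pow, stk_pow, ← pow_succ]
      refine Ideal.mul_mono (Ideal.pow_le_pow_right hl) (Finset.prod_le_prod' fun i _ => ?_)
      rw [stk_pow, stk_pow]
      exact Ideal.pow_le_pow_right (he i)
    have hk : ∀ V : X.left.affineOpens, ∃ k : Γ(T, V.1),
        j.app V.1 ((ClSub.idealModι J).app V.1 k) = Z.presheaf.map (homOfLE le_top).op s := by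
      intro V
      obtain ⟨a, ha⟩ := exists_lift R j s V.2
      obtain ⟨k, hk⟩ := (AmpleLib.mem_range_idealModι J V.1 a).2 (RingHom.mem_ker.1
        ((J.ker_subschemeι_app V).symm ▸ hmemJ V.1 V.2 a ha))
      exact ⟨k, by rw [hk]; exact ha⟩
    choose k hk using hk
    have compat : TopCat.Presheaf.IsCompatible (Coh.toAb P).obj
        (fun V : X.left.affineOpens => ι ⁻¹ᵁ V.1) (fun V => pullSec ι (k V)) := by
      intro V V'
      change resM P inf_le_left (pullSec ι (k V)) = resM P inf_le_right (pullSec ι (k V'))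
      refine AmpleLib.sec_ext _ _ _ fun y hy => ?_
      obtain ⟨U, hyU, f, hf, hfJ⟩ := hJ (ι y)
      obtain ⟨W, hW, hyW, hWle⟩ := exists_isAffineOpen_mem_and_subset (x := ι y)
        (U := V.1 ⊓ V'.1 ⊓ U.1) ⟨hy, hyU⟩
      have hWV : W ≤ V.1 := fun z hz => (hWle hz).1.1
      have hWV' : W ≤ V'.1 := fun z hz => (hWle hz).1.2
      have hWU : W ≤ U.1 := fun z hz => (hWle hz).2
      refine ⟨ι ⁻¹ᵁ W, fun z hz => ⟨hWV hz, hWV' hz⟩, hyW, ?_⟩
      rw [resM_resM, resM_resM]
      refine (resM_pullSec ι hWV (k V)).trans (Eq.trans ?_ (resM_pullSec ι hWV' (k V')).symm)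
      obtain ⟨kf, -, hkf⟩ := exists_gen_idealMod J ⟨W, hW⟩ (ModPairLib.res_mem_nonZeroDivisors (V := ⟨W, hW⟩) hWU hf)
        (ModPairLib.ideal_restrict J (V := ⟨W, hW⟩) hWU hfJ)
      let d : Γ(X.left, W) := (show Γ(X.left, W) from (ClSub.idealModι J).app W (resM T hWV (k V))) -
        (show Γ(X.left, W) from (ClSub.idealModι J).app W (resM T hWV' (k V')))
      have hd : d ∈ (J * D l).ideal ⟨W, hW⟩ := by
        refine (mem_ideal_iff (J * D l) ⟨W, hW⟩).2 fun x hx => ?_
        rw [stk_mul]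
        refine hSle x ?_
        have e1 : (show Γ(X.left, W) from (ClSub.idealModι J).app W (resM T hWV (k V))) =
            X.left.presheaf.map (homOfLE hWV).op ((ClSub.idealModι J).app V.1 (k V)) := app_resM _ _ _
        have e2 : (show Γ(X.left, W) from (ClSub.idealModι J).app W (resM T hWV' (k V'))) =
            X.left.presheaf.map (homOfLE hWV').op ((ClSub.idealModι J).app V'.1 (k V')) := app_resM _ _ _
        show X.left.presheaf.germ W x hx (_ - _) ∈ stk S x
        rw [e1, e2, map_sub, TopCat.Presheaf.germ_res_apply, TopCat.Presheaf.germ_res_apply]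
        have := germ_sub_mem_stk R j s (hk V) (hk V') (hWV hx) (hWV' hx)
        rwa [hj] at this
      rw [Scheme.IdealSheafData.ideal_mul, Pi.mul_apply,
        ModPairLib.ideal_restrict J (V := ⟨W, hW⟩) hWU hfJ, Ideal.mem_span_singleton_mul] at hd
      obtain ⟨q, hq, hqd⟩ := hd
      have hksub : resM T hWV (k V) = ((resM T hWV' (k V') : Γ(T, W)) + ((q • kf : Γ(ClSub.idealMod J, W)) : Γ(T, W)) : Γ(T, W)) := by
        apply Coherent.app_injective_of_mono (ClSub.idealModι J) W
        rw [map_add, Scheme.Modules.Hom.app_smul, hkf]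
        show (show Γ(X.left, W) from (ClSub.idealModι J).app W (resM T hWV (k V))) = _ + q * _
        rw [mul_comm q, hqd]
        exact (add_sub_cancel _ _).symm
      have hq0 : ι.app W q = 0 := RingHom.mem_ker.1 (Scheme.Hom.ker_apply ι ⟨W, hW⟩ ▸ hq)
      rw [hksub]
      refine (map_add (((Scheme.Modules.pullbackPushforwardAdjunction ι).unit.app T).app W).hom _ _).trans ?_
      refine add_eq_left.2 ((pullSec_smul ι q kf).trans ?_)
      rw [hq0, zero_smul]
    obtain ⟨σ, hσ, -⟩ := TopCat.Sheaf.existsUnique_gluing' (X := (Γ l).curve.left.toTopCat) (Coh.toAb P)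
      (fun V : X.left.affineOpens => ι ⁻¹ᵁ V.1) ⊤ (fun V => homOfLE le_top)
      (fun y _ => by
        obtain ⟨V, hV, hyV, -⟩ := exists_isAffineOpen_mem_and_subset (x := ι y) (U := ⊤) trivial
        exact Opens.mem_iSup.2 ⟨⟨V, hV⟩, hyV⟩) (fun V => pullSec ι (k V)) compat
    have hσ0 : σ ≠ 0 := by
      intro h0
      let η := genericPoint (Γ l).curve.left
      have hg : gen (D l) = ι η := gen_ker R (Γ l)
      obtain ⟨U, hηU, f, hf, hfJ⟩ := hJ (gen (D l))
      obtain ⟨kf, hkgen, hkf⟩ := exists_gen_idealMod J U hf hfJ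
      have hσU : resM P (le_top : ι ⁻¹ᵁ U.1 ≤ ⊤) σ = pullSec ι (k U) := hσ U
      rw [h0, map_zero] at hσU
      obtain ⟨c, hc⟩ := Ideal.mem_span_singleton'.1 (hfJ ▸ hmemJ U.1 U.2 _ (hk U))
      have hkU : k U = c • kf := by
        apply Coherent.app_injective_of_mono (ClSub.idealModι J) U.1
        rw [Scheme.Modules.Hom.app_smul, hkf]
        exact hc.symm
      rw [hkU, pullSec_smul] at hσU
      have hc0 : ι.app U.1 c = 0 := by
        refine ((isGen_pullSec ι hkgen hT) (ι ⁻¹ᵁ U.1) le_rfl).1 ?_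
        simp only [resM_self, zero_smul]
        exact hσU.symm
      have hcD : X.left.presheaf.germ U.1 _ hηU c ∈ maximalIdeal (X.left.presheaf.stalk (gen (D l))) := by
        rw [← stk_gen (hD l)]
        exact (mem_ideal_iff (D l) U).1 (Scheme.Hom.ker_apply ι U ▸ RingHom.mem_ker.2 hc0) _ hηU
      have hfm : X.left.presheaf.germ U.1 _ hηU f ∈ maximalIdeal (X.left.presheaf.stalk (gen (D l))) ^ e l := by
        rw [← stk_prod_gen_of_injective R hreg Γ hD hinj e l]
        exact (mem_ideal_iff J U).1 (hfJ ▸ Ideal.mem_span_singleton_self f) _ hηU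
      refine (hlift l U.1 _ (hk U) hηU).2 hl ?_
      rw [← hc, map_mul, pow_succ']
      exact Ideal.mul_mem_mul hcD hfm
    let κ := ResidueField R
    letI : (Γ l).curve.left.Over (Spec (CommRingCat.of κ)) := ⟨(Γ l).curve.hom⟩
    haveI : IsProper ((Γ l).curve.left ↘ Spec (CommRingCat.of κ)) := inferInstanceAs (IsProper (Γ l).curve.hom)
    have hP : PicF.IsInvertible P := PicLoc.isInvertible_pullback ι hT
    show 0 ≤ ArSurf.curveDeg κ _ P
    rw [curveDeg_eq_deg κ (Γ l).dim_eq.le hP]
    refine (CurveRR24.deg_nonneg_of_section κ (Γ l).dim_eq.le hP ?_).1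
    haveI : Nontrivial (GA (baseHom κ (Γ l).curve.left) P) :=
      ⟨⟨(show GA (baseHom κ (Γ l).curve.left) P from σ), 0, hσ0⟩⟩
    exact (CurveRR24.hhZero κ P).toEquiv.nontrivial
  have hJdeg : ∀ l, ArSurf.inter R X (ClSub.idealMod J) (Γ l) =
      - ∑ i, (e i : ℤ) * ArSurf.inter R X (L i) (Γ l) := by
    intro l
    have hJi := FlatMor12.IdealModGen.isInvertible_idealMod J hJ
    rw [← intCl_of R (Γ l) hJi]
    show intCl R (Γ l) (idealCl J hJ) = _
    rw [idealCl_prod Finset.univ (fun i => D i ^ e i) (fun i => isEffCartier_pow (hD i) (e i)),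
      intCl_prod, ← Finset.sum_neg_distrib]
    refine Finset.sum_congr rfl fun i _ => ?_
    rw [idealCl_pow (hD i), intCl_pow, inter_inverse R (Γ l) (hD i) (hL i)]
    ring
  have h' := hdeg l hl
  rw [hJdeg l] at h'
  omega

end Groth.Agent.Inters29
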