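import Groth.Agent.Inters29.NilOrder

/-!
# Nilpotent functions on the special fibre

If the multiplicities of the components of a connected special fibre of a regular surface are coprime, the
scheme theoretic special fibre has no nonzero nilpotent global functions.
-/

set_option autoImplicit false
set_option linter.style.haveILetI false
set_option backward.isDefEq.respectTransparency false

universe u

open CategoryTheory CategoryTheory.Limits AlgebraicGeometry TopologicalSpace IsLocalRing
open Groth.Agent.Misc15.DivDescent Groth.Agent.SDiv28.CartierPart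

namespace Groth.Agent.Inters29

variable (R : Type u) [CommRing R] [IsDomain R] [IsDiscreteValuationRing R]
variable {X : Over (Spec (CommRingCat.of R))} [IsIntegral X.left] [IsLocallyNoetherian X.left] [Flat X.hom]
  [IsProper X.hom]
variable (hreg : ∀ x : X.left, IsRegularLocalRing (X.left.presheaf.stalk x))
variable {n : ℕ} (Γ : Fin n → ArSurf.VertComp R X)
variable (hΓ : Models.IsComponentList R X Γ)
include hreg hΓ

/-- The generic points of the components are distinct. -/
theorem gen_injective : Function.Injective fun i => gen (Γ i).ι.ker := fun i l h => genPt_injective R Γ hΓ (by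
  show (Γ i).ι _ = (Γ l).ι _
  rw [← gen_ker, ← gen_ker]; exact h)

/-- Nilpotent functions on a connected special fibre with coprime multiplicities vanish. -/
theorem eq_zero_of_isNilpotent (hconn : _root_.IsConnected (Models.specialFibreSet R X))
    (hgcd : Models.multGcd R X Γ = 1)
    {Z : Scheme.{u}} (j : Z ⟶ X.left) [IsClosedImmersion j] (hj : j.ker = Models.specialFibreIdeal R X)
    (s : Γ(Z, ⊤)) (hs : IsNilpotent s) : s = 0 := by
  classical
  by_contra hs0
  haveI : ∀ i, IsProper (Γ i).curve.hom := fun i => isProper_curve R (Γ i)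
  let D := fun i => (Γ i).ι.ker
  have hD : ∀ i, BlowUp.IsEffCartierIdeal (D i) := isEffCartier_listComp R Γ hreg hΓ
  let m := fun i => Models.mult R X (Γ i)
  choose L hL using fun i => exists_inverse_ker R hreg (hD i)
  obtain ⟨e, hb, hne, hdeg⟩ := exists_orders R hreg Γ hD (gen_injective R hreg Γ hΓ) L hL m
    (fun i => mult_pos' R Γ hΓ hreg i) j (hj.trans (specialFibreIdeal_eq_prod R Γ hreg hΓ)) s hs hs0
  have he : ∀ i, e i ≤ m i := fun i => (hb i).2
  have hepos : ∀ i, 1 ≤ e i := fun i => (hb i).1
  have hall : ¬ ∀ i, e i = m i := fun h => hne (funext h)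
  have hsum : ∀ i, ∑ l, (m l : ℤ) * ArSurf.inter R X (L i) (Γ l) = 0 := fun i => by
    rw [← sum_mult_mul_inter R hreg Γ hΓ L hL (Γ i)]
    exact Finset.sum_congr rfl fun l _ => by rw [inter_symm_of_list R hreg Γ hΓ L hL l i]
  have hle : ∑ l, ((m l : ℤ) - e l) * (∑ i, (e i : ℤ) * ArSurf.inter R X (L i) (Γ l)) ≤ 0 := by
    refine Finset.sum_nonpos fun l _ => ?_
    rcases eq_or_lt_of_le (he l) with h | h
    · rw [h, sub_self, zero_mul]
    · refine mul_nonpos_of_nonneg_of_nonpos (sub_nonneg.2 (by exact_mod_cast he l)) ?_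
      exact hdeg l h
  have hzero : ∑ l, (m l : ℤ) * (∑ i, (e i : ℤ) * ArSurf.inter R X (L i) (Γ l)) = 0 := by
    simp only [Finset.mul_sum]
    rw [Finset.sum_comm]
    refine Finset.sum_eq_zero fun i _ => ?_
    simp only [mul_left_comm _ (e i : ℤ), ← Finset.mul_sum, hsum i, mul_zero]
  have hq0 : 0 ≤ ∑ l, (e l : ℤ) * (∑ i, (e i : ℤ) * ArSurf.inter R X (L i) (Γ l)) := by
    simp only [sub_mul, Finset.sum_sub_distrib, hzero] at hle
    omega
  let x : Fin n → ℚ := fun i => (e i : ℚ)
  have hquad := quad_nonpos_and_of_connected R hreg Γ hΓ L hL hconn x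
  have hdot : dotProduct x (Matrix.mulVec (interMat R Γ L ℚ) x) =
      ((∑ l, (e l : ℤ) * (∑ i, (e i : ℤ) * ArSurf.inter R X (L i) (Γ l)) : ℤ) : ℚ) := by
    simp only [dotProduct, Matrix.mulVec, interMat_apply, x]
    push_cast
    exact Finset.sum_congr rfl fun l _ => congrArg _ (Finset.sum_congr rfl fun i _ => mul_comm _ _)
  have heq0 : dotProduct x (Matrix.mulVec (interMat R Γ L ℚ) x) = 0 :=
    le_antisymm hquad.1 (by rw [hdot]; exact_mod_cast hq0)
  obtain ⟨q, hq⟩ := hquad.2.1 heq0
  have hqi : ∀ i, (e i : ℤ) * (q.den : ℤ) = q.num * (m i : ℤ) := fun i => by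
    have h1 : (e i : ℚ) = q * (m i : ℚ) := congrFun hq i
    have h2 : (e i : ℚ) * (q.den : ℚ) = (q.num : ℚ) * (m i : ℚ) := by
      rw [h1, mul_right_comm, Rat.mul_den_eq_num]
    exact_mod_cast h2
  have hden : q.den ∣ Models.multGcd R X Γ := Finset.dvd_gcd fun i _ => by
    have h1 : (q.den : ℤ) ∣ q.num * (m i : ℤ) := ⟨e i, by rw [← hqi i]; ring⟩
    have h2 := Int.natAbs_dvd_natAbs.2 h1
    simp only [Int.natAbs_natCast, Int.natAbs_mul] at h2
    exact q.reduced.symm.dvd_of_dvd_mul_left h2
  rw [hgcd, Nat.dvd_one] at hden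
  push Not at hall
  obtain ⟨l, hl⟩ := hall
  have h := hqi l
  rw [hden, Nat.cast_one, mul_one] at h
  have hlt : e l < m l := lt_of_le_of_ne (he l) hl
  have hpos := hepos l
  have h1 : (1 : ℤ) ≤ q.num := by nlinarith [Int.natCast_nonneg (m l)]
  nlinarith

end Groth.Agent.Inters29
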