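import Groth.Agent.Inters29.Comp
import Groth.Agent.VarietyLib.SmoothStalk
import Mathlib.AlgebraicGeometry.Morphisms.Smooth

/-!
# Regular closed points of proper curves over a perfect field
-/

set_option autoImplicit false
set_option linter.style.haveILetI false
set_option backward.isDefEq.respectTransparency false

universe u

open CategoryTheory CategoryTheory.Limits AlgebraicGeometry TopologicalSpace IsLocalRing

namespace Groth.Agent.Inters29

/-- An integral curve over a perfect field has a closed point with principal maximal ideal off any given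
proper closed subset. -/
theorem exists_regular_closedPoint {Y : Scheme.{u}} {k : Type u} [Field k] [PerfectField k] [IsIntegral Y]
    (f : Y ⟶ Spec (CommRingCat.of k)) [LocallyOfFiniteType f] (hdim : topologicalKrullDim Y = 1)
    {T : Set Y} (hT : IsClosed T) (hη : genericPoint Y ∉ T) :
    ∃ y : Y, IsClosed ({y} : Set Y) ∧ y ∉ T ∧ y ≠ genericPoint Y ∧
      (maximalIdeal (Y.presheaf.stalk y)).IsPrincipal := by
  haveI : LocallyOfFinitePresentation f := inferInstance
  haveI : JacobsonSpace Y := LocallyOfFiniteType.jacobsonSpace f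
  haveI : IsLocallyNoetherian Y := LocallyOfFiniteType.isLocallyNoetherian f
  obtain ⟨y, ⟨hy1, hy2⟩, hyc⟩ := nonempty_inter_closedPoints
    (Z := (f.smoothLocus : Set Y) ∩ Tᶜ) ⟨_, f.genericPoint_mem_smoothLocus_of_perfectField, hη⟩
    (f.smoothLocus.2.inter hT.isOpen_compl).isLocallyClosed
  have hc : IsClosed ({y} : Set Y) := hyc
  have hne : y ≠ genericPoint Y := by
    rintro rfl
    have hu : (Set.univ : Set Y) = {genericPoint Y} := by
      rw [← genericPoint_closure, hc.closure_eq]
    haveI : Subsingleton Y := ⟨fun a b =>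
      (hu.le (Set.mem_univ a) : a = _).trans (hu.le (Set.mem_univ b) : b = _).symm⟩
    have hle : topologicalKrullDim Y ≤ 0 := Order.krullDim_nonpos_iff_forall_isMax.2
      fun a b _ => le_of_eq (IrreducibleCloseds.ext (by
        rw [Subsingleton.eq_univ_of_nonempty a.isIrreducible.nonempty,
          Subsingleton.eq_univ_of_nonempty b.isIrreducible.nonempty]))
    rw [hdim] at hle
    exact absurd hle (by decide)
  haveI hreg : IsRegularLocalRing (Y.presheaf.stalk y) := by
    let W := f.smoothLocus
    haveI : Smooth (W.ι ≫ f) := by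
      rw [← Scheme.Hom.smoothLocus_eq_top_iff, ← Scheme.Hom.preimage_smoothLocus_eq]
      exact W.ι_preimage_self
    haveI := VarietyLib.isRegularLocalRing_stalk_of_smooth k W.toScheme (W.ι ≫ f) ⟨y, hy1⟩
    exact IsRegularLocalRing.of_ringEquiv (R := W.toScheme.presheaf.stalk ⟨y, hy1⟩)
      (asIso (W.ι.stalkMap ⟨y, hy1⟩)).symm.commRingCatIsoToRingEquiv
  refine ⟨y, hc, hy2, hne, ?_⟩
  have h1 : (maximalIdeal (Y.presheaf.stalk y)).spanFinrank ≤ 1 := by
    have h := (CurvesLib24.stalk_dim_le_topologicalKrullDim y).trans hdim.le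
    rw [← IsRegularLocalRing.spanFinrank_maximalIdeal] at h
    exact_mod_cast h
  rcases Nat.le_one_iff_eq_zero_or_eq_one.1 h1 with h | h
  · refine ⟨0, ?_⟩
    have hb := (Submodule.spanFinrank_eq_zero_iff_eq_bot (IsNoetherian.noetherian _)).1 h
    rw [hb]; simp
  · exact ((Submodule.spanFinrank_eq_one_iff _).1 h).1

end Groth.Agent.Inters29
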